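import Cfsg.Agent.Lib.SpinMinus.Graph
import Cfsg.Agent.Lib.Classical.SmallIso.O4Minus

/-!
The last level: a quotient of the special linear group over the quadratic extension.
-/

set_option autoImplicit false
set_option linter.unusedSectionVars false

namespace CfsgLib.SpinMinus

open QuadraticMap CfsgLib.Classical.Quad CfsgLib.Classical.SmallIso CfsgLib.ChevClassical
  CfsgLib.SLCover
open scoped commutatorElement MatrixGroups

variable {F : Type*} [Field F] [Fintype F] {a b : F} {m : ℕ}
variable {K : Type*} [Field K] [Fintype K] {s : K →+* K}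

/-- the coordinate vector of an element of the extension -/
def cz (D : QuadCoord F K s a b) (z : K) : Fin 2 → F := ![(D.coord z).1, (D.coord z).2]

theorem cz_emb (D : QuadCoord F K s a b) (x y : F) : cz D (D.emb x + D.emb y * D.gen) = ![x, y] := by
  rw [cz, D.coord_emb]

theorem cz_spec (D : QuadCoord F K s a b) (z : K) :
    D.emb (cz D z 0) + D.emb (cz D z 1) * D.gen = z := D.coord_spec z

theorem cz_add (D : QuadCoord F K s a b) (z z' : K) : cz D (z + z') = cz D z + cz D z' := by
  have h : z + z' = D.emb (cz D z 0 + cz D z' 0) + D.emb (cz D z 1 + cz D z' 1) * D.gen := by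
    conv_lhs => rw [← cz_spec D z, ← cz_spec D z']
    rw [map_add, map_add]
    ring
  rw [h, cz_emb]
  funext l
  fin_cases l <;> rfl

theorem cz_zero (D : QuadCoord F K s a b) : cz D 0 = 0 := by
  have h := cz_add D 0 0
  rw [add_zero] at h
  exact left_eq_add.1 h

theorem cz_neg (D : QuadCoord F K s a b) (z : K) : cz D (-z) = -cz D z := by
  have h := cz_add D (-z) z
  rw [neg_add_cancel, cz_zero] at h
  exact eq_neg_of_add_eq_zero_left h.symm

theorem cz_smul (D : QuadCoord F K s a b) (c : F) (z : K) : cz D (D.emb c * z) = c • cz D z := by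
  have h : D.emb c * z = D.emb (c * cz D z 0) + D.emb (c * cz D z 1) * D.gen := by
    conv_lhs => rw [← cz_spec D z]
    rw [map_mul, map_mul]
    ring
  rw [h, cz_emb]
  funext l
  fin_cases l <;> rfl

theorem emb_polar (D : QuadCoord F K s a b) (z z' : K) :
    D.emb (polar (binForm a b) (cz D z) (cz D z')) = z * s z' + z' * s z := by
  have key : ∀ w, D.emb (binForm a b (cz D w)) = w * s w := fun w => by
    conv_rhs => rw [← cz_spec D w]
    rw [D.norm_eq]
    congr 1
    rw [binForm_apply]
    ring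
  rw [polar, ← cz_add, map_sub, map_sub, key, key, key, map_add]
  ring

theorem emb_norm (D : QuadCoord F K s a b) (z : K) : D.emb (binForm a b (cz D z)) = z * s z := by
  conv_rhs => rw [← cz_spec D z]
  rw [D.norm_eq]
  congr 1
  rw [binForm_apply]
  ring

/-- the last level as a four-dimensional space -/
def emb4 (i : Fin m) (v : (Fin 1 ⊕ Fin 1) ⊕ Fin 2 → F) : MV m F :=
  v (.inl (.inl 0)) • ev i + v (.inl (.inr 0)) • fv i + wv fun l => v (.inr l)

theorem emb4_smul (i : Fin m) (c : F) (v : (Fin 1 ⊕ Fin 1) ⊕ Fin 2 → F) :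
    emb4 i (c • v) = c • emb4 i v := by
  simp only [emb4, Pi.smul_apply, smul_eq_mul, smul_add, smul_smul, ← map_smul]
  rfl

variable {E : Type*} [Group E] {σ : E →* Orth (MQ m a b)}

/-- the compatibility between the two components -/
def BaseP (σ : E →* Orth (MQ m a b)) (i : Fin m) (D : QuadCoord F K s a b) (hs : ∀ z, s (s z) = z)
    (hab : IsAniso a b) (g : E × SL(2, K)) : Prop :=
  ∀ v, (σ g.1).1 (emb4 i v) = emb4 i (hermConj D hs hab g.2 v)

namespace CExt

variable (C : CExt σ)
include C

/-- the generators of the paired group of the last level -/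
def baseSet (i : Fin m) (D : QuadCoord F K s a b) : Set (E × SL(2, K)) :=
  {g | ∃ z : K, g = (C.X (ev i) (wv (-cz D z)), xt 0 1 z) ∨
    g = (C.X (fv i) (wv (cz D (s z))), xt 1 0 z)}

/-- the paired group of the last level -/
def baseGrp (i : Fin m) (D : QuadCoord F K s a b) : Subgroup (E × SL(2, K)) :=
  Subgroup.closure (C.baseSet i D)

variable (D : QuadCoord F K s a b) (hs : ∀ z, s (s z) = z)

theorem baseP_gen (i : Fin m) :
    ∀ g ∈ C.baseSet i D, BaseP σ i D hs C.aniso g := by
  rintro g ⟨z, rfl | rfl⟩ v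
  all_goals
    set A := v (.inl (.inl 0))
    set G := v (.inl (.inr 0))
    set w : Fin 2 → F := fun l => v (.inr l)
    set β := D.emb (v (.inr 0)) + D.emb (v (.inr 1)) * D.gen
    have hw : w = cz D β := by
      rw [cz_emb]; funext l; fin_cases l <;> rfl
    have hsβ : D.emb (v (.inr 0)) + D.emb (v (.inr 1)) * s D.gen = s β := by
      simp [β, D.sigma_emb]
  · rw [C.X_sigma]
    let v' : (Fin 1 ⊕ Fin 1) ⊕ Fin 2 → F :=
      Sum.elim (Sum.elim (fun _ => A + polar (binForm a b) w (cz D z) - binForm a b (cz D z) * G)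
        fun _ => G) (w + (-G) • cz D z)
    have key : hermConj D hs C.aniso (xt 0 1 z) v = v' := by
      apply hermMat_inj D
      rw [hermMat_hermConj]
      have e0 : D.emb (v' (.inr 0)) + D.emb (v' (.inr 1)) * D.gen = β - D.emb G * z := by
        conv_rhs => rw [← cz_spec D z]
        simp [v', w, β]
        ring
      have e0' : D.emb (v' (.inr 0)) + D.emb (v' (.inr 1)) * s D.gen = s β - D.emb G * s z := by
        have := congrArg s e0
        simpa [D.sigma_emb] using this
      have e1 : D.emb (v' (.inl (.inl 0))) =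
          D.emb A + (β * s z + z * s β) - z * s z * D.emb G := by
        simp only [v', Sum.elim_inl, map_sub, map_add, map_mul, hw, emb_polar, emb_norm]
      ext p q
      fin_cases p <;> fin_cases q <;>
        simp [hermMat, xt_eq, Matrix.SpecialLinearGroup.transvection_coe, Matrix.mul_apply,
          Fin.sum_univ_two, Matrix.single, Matrix.one_apply, e0, e0', e1, hsβ] <;>
        simp [v', A, G, β] <;> ring
    rw [key, T_apply (Q_ev i) (polar_ev_wv i _)]
    simp only [emb4, polar_add_left, polar_smul_left, polar_ev_ev, polar_fv_ev_self, polar_wv_ev,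
      polar_ev_wv, polar_fv_wv, polar_wv_wv, Q_wv, polar_neg_right, QuadraticMap.map_neg, map_neg]
    simp only [v', Sum.elim_inl, Sum.elim_inr, Pi.add_apply, Pi.smul_apply]
    rw [show (fun l => w l + (-G) • cz D z l) = w + (-G) • cz D z from rfl, map_add, map_smul]
    simp only [A, G, w, smul_eq_mul, mul_zero, zero_add, add_zero, mul_one, neg_neg]
    module
  · rw [C.X_sigma]
    let v' : (Fin 1 ⊕ Fin 1) ⊕ Fin 2 → F :=
      Sum.elim (Sum.elim (fun _ => A)
        fun _ => G - polar (binForm a b) w (cz D (s z)) - binForm a b (cz D (s z)) * A)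
        (w + A • cz D (s z))
    have key : hermConj D hs C.aniso (xt 1 0 z) v = v' := by
      apply hermMat_inj D
      rw [hermMat_hermConj]
      have e0 : D.emb (v' (.inr 0)) + D.emb (v' (.inr 1)) * D.gen = β + D.emb A * s z := by
        conv_rhs => rw [← cz_spec D (s z)]
        simp [v', w, β]
        ring
      have e0' : D.emb (v' (.inr 0)) + D.emb (v' (.inr 1)) * s D.gen = s β + D.emb A * z := by
        have := congrArg s e0
        simpa [D.sigma_emb, hs] using this
      have e1 : D.emb (v' (.inl (.inr 0))) =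
          D.emb G - (β * z + s z * s β) - s z * z * D.emb A := by
        simp only [v', Sum.elim_inl, Sum.elim_inr, map_sub, map_add, map_mul, hw, emb_polar, emb_norm, hs]
      ext p q
      fin_cases p <;> fin_cases q <;>
        simp [hermMat, xt_eq, Matrix.SpecialLinearGroup.transvection_coe, Matrix.mul_apply,
          Fin.sum_univ_two, Matrix.single, Matrix.one_apply, e0, e0', e1, hsβ] <;>
        simp [v', A, G, β] <;> ring
    rw [key, T_apply (Q_fv i) (polar_fv_wv i _)]
    simp only [emb4, polar_add_left, polar_smul_left, polar_fv_fv, polar_ev_fv_self, polar_wv_fv,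
      polar_fv_wv, polar_ev_wv, polar_wv_wv, Q_wv]
    simp only [v', Sum.elim_inl, Sum.elim_inr, Pi.add_apply, Pi.smul_apply]
    rw [show (fun l => w l + A • cz D (s z) l) = w + A • cz D (s z) from rfl, map_add, map_smul]
    simp only [A, G, w, smul_eq_mul, mul_zero, zero_add, add_zero, mul_one]
    module

theorem base_inv_gen (i : Fin m) : ∀ g ∈ C.baseSet i D, g⁻¹ ∈ C.baseSet i D := by
  rintro g ⟨z, rfl | rfl⟩
  · refine ⟨-z, Or.inl (Prod.ext ?_ (xt_inv zero_ne_one z))⟩
    show (C.X (ev i) (wv (-cz D z)))⁻¹ = _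
    rw [← C.X_neg (polar_ev_wv i _), cz_neg, map_neg wv (-cz D z)]
  · refine ⟨-z, Or.inr (Prod.ext ?_ (xt_inv one_ne_zero z))⟩
    show (C.X (fv i) (wv (cz D (s z))))⁻¹ = _
    rw [← C.X_neg (polar_fv_wv i _), map_neg s, cz_neg, map_neg]

theorem baseP (i : Fin m) : ∀ g ∈ C.baseGrp i D, BaseP σ i D hs C.aniso g := by
  intro g hg
  induction hg using Subgroup.closure_induction'' with
  | mem x hx => exact C.baseP_gen D hs i x hx
  | inv_mem x hx => exact C.baseP_gen D hs i _ (C.base_inv_gen D i x hx)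
  | one => intro v; simp
  | mul x y _ _ hx hy =>
    intro v
    rw [Prod.fst_mul, Prod.snd_mul, map_mul, mul_apply, hy, hx, map_mul]
    rfl

/-- the paired group of the last level is faithful -/
theorem base_injective [Finite E] (i : Fin m) {g g' : E × SL(2, K)} (hg : g ∈ C.baseGrp i D)
    (hg' : g' ∈ C.baseGrp i D) (hs : ∀ z, s (s z) = z) (h : g.2 = g'.2) : g = g' := by
  classical
  set G := C.baseGrp i D
  let f : G →* SL(2, K) := (MonoidHom.snd E _).comp G.subtype
  let x : K → G := fun t => ⟨_, Subgroup.subset_closure ⟨t, Or.inl rfl⟩⟩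
  let y : K → G := fun t => ⟨_, Subgroup.subset_closure ⟨t, Or.inr rfl⟩⟩
  have hsurj : Function.Surjective f := by
    rw [← MonoidHom.range_eq_top]
    refine CfsgLib.Linear.SL_eq_top_of_transvection_mem _ fun u v huv t => ?_
    fin_cases u <;> fin_cases v <;> (try exact absurd rfl huv)
    · exact ⟨x t, xt_eq zero_ne_one t⟩
    · exact ⟨y t, xt_eq one_ne_zero t⟩
  have gen : Subgroup.closure {g | ∃ t, g = x t ∨ g = y t} = ⊤ := by
    rw [eq_top_iff]
    rintro ⟨p, hp⟩ -
    induction hp using Subgroup.closure_induction with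
    | mem z hz =>
      obtain ⟨t, rfl | rfl⟩ := hz
      · exact Subgroup.subset_closure ⟨t, Or.inl rfl⟩
      · exact Subgroup.subset_closure ⟨t, Or.inr rfl⟩
    | one => exact one_mem _
    | mul u v _ _ hu hv => exact mul_mem hu hv
    | inv u _ hu => exact inv_mem hu
  -- the action on the two vectors and the plane
  have act : ∀ g : G, ∀ v, (σ g.1.1).1 (emb4 i v) = emb4 i (hermConj D hs C.aniso g.1.2 v) :=
    fun g => C.baseP D hs i g.1 g.2
  let vE : (Fin 1 ⊕ Fin 1) ⊕ Fin 2 → F := Sum.elim (Sum.elim (fun _ => 1) fun _ => 0) 0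
  let vF : (Fin 1 ⊕ Fin 1) ⊕ Fin 2 → F := Sum.elim (Sum.elim (fun _ => 0) fun _ => 1) 0
  let vW : (Fin 2 → F) → ((Fin 1 ⊕ Fin 1) ⊕ Fin 2 → F) := fun w => Sum.elim 0 w
  have eE : emb4 i vE = (ev i : MV m F) := by simp [emb4, vE, wv]; rfl
  have eF : emb4 i vF = (fv i : MV m F) := by simp [emb4, vF, wv]; rfl
  have eW : ∀ w, emb4 i (vW w) = (wv w : MV m F) := fun w => by simp [emb4, vW]
  have hcen : f.ker ≤ Subgroup.center G := by
    intro k hk
    have hk2 : k.1.2 = 1 := hk
    have fix : ∀ v, (σ k.1.1).1 (emb4 i v) = emb4 i v := fun v => by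
      rw [act k v, hk2, map_one]; rfl
    have hc : Subgroup.closure {g | ∃ t, g = x t ∨ g = y t} ≤ Subgroup.centralizer {k} := by
      refine (Subgroup.closure_le _).2 ?_
      rintro z ⟨t, rfl | rfl⟩
      all_goals
        refine Subgroup.mem_centralizer_singleton_iff.2 (Subtype.ext (Prod.ext ?_ ?_))
      · show C.X (ev i) _ * k.1.1 = k.1.1 * C.X (ev i) _
        have e := C.X_conj k.1.1 (ev i) (wv (-cz D t))
        rw [← eE, ← eW, fix, fix, eE, eW] at e
        exact (mul_inv_eq_iff_eq_mul.1 e).symm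
      · show _ * k.1.2 = k.1.2 * _
        rw [hk2, mul_one, one_mul]
      · show C.X (fv i) _ * k.1.1 = k.1.1 * C.X (fv i) _
        have e := C.X_conj k.1.1 (fv i) (wv (cz D (s t)))
        rw [← eF, ← eW, fix, fix, eF, eW] at e
        exact (mul_inv_eq_iff_eq_mul.1 e).symm
      · show _ * k.1.2 = k.1.2 * _
        rw [hk2, mul_one, one_mul]
    rw [gen] at hc
    exact Subgroup.mem_center_iff.2 fun z =>
      (Subgroup.mem_centralizer_singleton_iff.1 (hc (Subgroup.mem_top z)))
  have addx : ∀ t u, x (t + u) = x t * x u := fun t u => Subtype.ext (Prod.ext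
    (by show C.X _ _ = C.X _ _ * C.X _ _
        rw [← C.X_add (polar_ev_wv i _) (polar_ev_wv i _), ← map_add, cz_add, neg_add])
    (xt_add zero_ne_one t u))
  have nP : ∀ c : K, c ≠ 0 → ((x c * y (-c⁻¹) * x c : G).1.2 : Matrix (Fin 2) (Fin 2) K) =
      !![0, c; -c⁻¹, 0] := by
    intro c hc
    show (xt 0 1 c * xt 1 0 (-c⁻¹) * xt 0 1 c : SL(2, K)).1 = _
    ext u v
    fin_cases u <;> fin_cases v <;>
      simp [xt_eq, Matrix.SpecialLinearGroup.transvection_coe, Matrix.mul_apply, Fin.sum_univ_two,
        Matrix.one_apply, Matrix.single, hc]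
  have hinj := SpinCover.sl2_injective f hsurj hcen x y (fun t => rfl) (fun t => rfl) addx gen ?_ ?_
  · exact congrArg Subtype.val (@hinj ⟨g, hg⟩ ⟨g', hg'⟩ h)
  · intro t
    rw [show (x 1 * y (-1) * x 1 : G) = x 1 * y (-1⁻¹) * x 1 by rw [inv_one]]
    have hn := nP 1 one_ne_zero
    set n : G := x 1 * y (-1⁻¹) * x 1
    refine Subtype.ext (Prod.ext ?_ ?_)
    · show n.1.1 * C.X (fv i) (wv (cz D (s t))) * n.1.1⁻¹ = C.X (ev i) (wv (-cz D (-t)))
      have hF : hermConj D hs C.aniso n.1.2 vF = (-1 : F) • vE := by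
        apply hermMat_inj D
        rw [hermMat_hermConj, hn]
        ext u v
        fin_cases u <;> fin_cases v <;> simp [hermMat, vE, vF, Matrix.mul_apply, Fin.sum_univ_two]
      have hW : hermConj D hs C.aniso n.1.2 (vW (cz D (s t))) = vW (cz D (-t)) := by
        apply hermMat_inj D
        rw [hermMat_hermConj, hn]
        have e1 := cz_spec D (s t)
        have e1' : D.emb (cz D (s t) 0) + D.emb (cz D (s t) 1) * s D.gen = t := by
          have := congrArg s e1
          simpa [D.sigma_emb, hs] using this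
        have e2 := cz_spec D (-t)
        have e2' : D.emb (cz D (-t) 0) + D.emb (cz D (-t) 1) * s D.gen = -s t := by
          have := congrArg s e2
          simpa [D.sigma_emb] using this
        ext u v
        fin_cases u <;> fin_cases v <;>
          simp [hermMat, vW, Matrix.mul_apply, Fin.sum_univ_two, e1, e1', e2, e2']
      rw [C.X_conj, ← eF, ← eW, act, act, hF, hW, eW]
      have : emb4 i ((-1 : F) • vE) = (-1 : F) • ev i := by
        rw [emb4_smul, eE]
      rw [this, C.X_smul (-1) (Q_ev i) (polar_ev_wv i _), neg_one_smul, ← map_neg]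
    · show n.1.2 * xt 1 0 t * n.1.2⁻¹ = xt 0 1 (-t)
      rw [mul_inv_eq_iff_eq_mul]
      apply Subtype.ext
      rw [Matrix.SpecialLinearGroup.coe_mul, Matrix.SpecialLinearGroup.coe_mul, hn]
      ext u v
      fin_cases u <;> fin_cases v <;>
        simp [xt_eq, Matrix.SpecialLinearGroup.transvection_coe, Matrix.mul_apply, Fin.sum_univ_two,
          Matrix.one_apply, Matrix.single]
  · intro c hc t
    have hh : ((x c * y (-c⁻¹) * x c * (x (-1) * y (-(-1 : K)⁻¹) * x (-1)) : G).1.2 :
        Matrix (Fin 2) (Fin 2) K) = !![c, 0; 0, c⁻¹] := by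
      rw [show (x c * y (-c⁻¹) * x c * (x (-1) * y (-(-1 : K)⁻¹) * x (-1)) : G).1.2 =
          (x c * y (-c⁻¹) * x c : G).1.2 * (x (-1) * y (-(-1 : K)⁻¹) * x (-1) : G).1.2 from rfl,
        Matrix.SpecialLinearGroup.coe_mul, nP c hc, nP (-1) (by simp)]
      ext u v
      fin_cases u <;> fin_cases v <;> simp [Matrix.mul_apply, Fin.sum_univ_two]
    set n : G := x c * y (-c⁻¹) * x c * (x (-1) * y (-(-1 : K)⁻¹) * x (-1))
    have hnorm : D.emb (D.coord (c * s c)).1 = c * s c :=
      D.emb_fst_of_fixed (by rw [map_mul, hs, mul_comm]) (D.disc_ne C.aniso)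
    set N : F := (D.coord (c * s c)).1
    refine Subtype.ext (Prod.ext ?_ ?_)
    · show n.1.1 * C.X (ev i) (wv (-cz D t)) * n.1.1⁻¹ = C.X (ev i) (wv (-cz D (c ^ 2 * t)))
      have hE : hermConj D hs C.aniso n.1.2 vE = N • vE := by
        apply hermMat_inj D
        rw [hermMat_hermConj, hh, hermMat_smul, hnorm]
        ext u v
        fin_cases u <;> fin_cases v <;> simp [hermMat, vE, Matrix.mul_apply, Fin.sum_univ_two]
      have hW : hermConj D hs C.aniso n.1.2 (vW (-cz D t)) = vW (-cz D (c * (s c)⁻¹ * t)) := by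
        apply hermMat_inj D
        rw [hermMat_hermConj, hh, ← cz_neg, ← cz_neg]
        have e1 := cz_spec D (-t)
        have e1' : D.emb (cz D (-t) 0) + D.emb (cz D (-t) 1) * s D.gen = -s t := by
          have := congrArg s e1
          simpa [D.sigma_emb] using this
        have e2 := cz_spec D (-(c * (s c)⁻¹ * t))
        have e2' : D.emb (cz D (-(c * (s c)⁻¹ * t)) 0) + D.emb (cz D (-(c * (s c)⁻¹ * t)) 1) * s D.gen =
            -(s c * c⁻¹ * s t) := by
          have := congrArg s e2
          simpa [D.sigma_emb, hs] using this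
        have hsc : s c ≠ 0 := fun e => hc (by rw [← hs c, e, map_zero])
        ext u v
        fin_cases u <;> fin_cases v <;>
          simp [hermMat, vW, Matrix.mul_apply, Fin.sum_univ_two, e1, e1', e2, e2'] <;>
          ring
      rw [C.X_conj, ← eE, ← eW, act, act, hE, hW, eW]
      have : emb4 i (N • vE) = N • ev i := by rw [emb4_smul, eE]
      rw [this, C.X_smul N (Q_ev i) (polar_ev_wv i _), ← map_smul, smul_neg, ← cz_smul, hnorm, eE]
      congr 4
      have hsc : s c ≠ 0 := fun e => hc (by rw [← hs c, e, map_zero])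
      field_simp
    · show n.1.2 * xt 0 1 t * n.1.2⁻¹ = xt 0 1 (c ^ 2 * t)
      rw [mul_inv_eq_iff_eq_mul]
      apply Subtype.ext
      rw [Matrix.SpecialLinearGroup.coe_mul, Matrix.SpecialLinearGroup.coe_mul, hh]
      ext u v
      fin_cases u <;> fin_cases v <;>
        simp [xt_eq, Matrix.SpecialLinearGroup.transvection_coe, Matrix.mul_apply, Fin.sum_univ_two,
          Matrix.one_apply, Matrix.single] <;> field_simp

/-- the last level is contained in the paired group -/
theorem base_lift {i : Fin m} (hi : i.val + 1 = m) (hs : ∀ z, s (s z) = z) {g : E}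
    (hg : g ∈ C.Gam i.val) : ∃ A, (g, A) ∈ C.baseGrp i D := by
  set L := (C.baseGrp i D).map (MonoidHom.fst E SL(2, K))
  suffices C.Gam i.val ≤ L by
    obtain ⟨p, hp, hpg⟩ := this hg
    exact ⟨p.2, by rwa [show (g, p.2) = p from Prod.ext hpg.symm rfl]⟩
  have czsurj : ∀ w : Fin 2 → F, cz D (D.emb (w 0) + D.emb (w 1) * D.gen) = w := fun w => by
    rw [cz_emb]; funext l; fin_cases l <;> rfl
  have hxe : ∀ w, C.X (ev i) (wv w) ∈ L := fun w => by
    refine ⟨_, Subgroup.subset_closure ⟨-(D.emb (w 0) + D.emb (w 1) * D.gen), Or.inl rfl⟩, ?_⟩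
    show C.X (ev i) _ = _
    rw [cz_neg, neg_neg, czsurj]
  have hxf : ∀ w, C.X (fv i) (wv w) ∈ L := fun w => by
    refine ⟨_, Subgroup.subset_closure ⟨s (D.emb (w 0) + D.emb (w 1) * D.gen), Or.inr rfl⟩, ?_⟩
    show C.X (fv i) _ = _
    rw [hs, czsurj]
  refine (Subgroup.closure_le _).2 ?_
  rintro x ⟨u, hu, w, hw, rfl⟩
  by_cases hval : MQ m a b u = 0 ∧ polar (MQ m a b) u w = 0 ∧ u ≠ 0
  swap
  · rw [X, dif_neg hval]; exact one_mem L
  obtain ⟨huQ, huw, hu0⟩ := hval
  obtain ⟨g₀, hg₀, hge⟩ := exists_to_ev C.aniso i hu hu0 huQ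
  have hM : Mk m a b i.val ≤ L.map σ := by
    refine (Subgroup.closure_le _).2 ?_
    rintro g ⟨j, v, hj, rfl⟩
    rcases j with l | l <;> simp only [jpos, Sum.elim_inl, Sum.elim_inr] at hj <;>
      (have el : l = i := Fin.ext (by omega)) <;> subst el
    · exact ⟨_, hxe v, C.X_sigma _ _⟩
    · exact ⟨_, hxf v, C.X_sigma _ _⟩
  obtain ⟨e, he, heσ⟩ := hM hg₀
  set w' := ((σ e)⁻¹).1 w
  have hw'U : w' ∈ Uk m F i.val := by
    simp only [w']
    rw [heσ]
    exact Mk_apply_mem (inv_mem hg₀) hw
  have hw'v : polar (MQ m a b) w' (ev i) = 0 := by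
    rw [← orth_polar (σ e), self_apply_inv, heσ, hge, polar_comm]; exact huw
  have hform : w' = wv w'.2 + w'.1.1 i • ev i := by
    refine Prod.ext (Prod.ext (funext fun l => ?_) (funext fun l => ?_)) ?_
    · by_cases hl : l = i
      · subst hl; simp [wv, ev]
      · have hlt : l.val < i.val := by
          have : l.val ≠ i.val := fun e => hl (Fin.ext e)
          omega
        simp [wv, ev, hl, (hw'U l hlt).1]
    · by_cases hl : l = i
      · subst hl; rw [polar_ev] at hw'v; simp [wv, ev, hw'v]
      · have hlt : l.val < i.val := by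
          have : l.val ≠ i.val := fun e => hl (Fin.ext e)
          omega
        simp [wv, ev, (hw'U l hlt).2]
    · simp [wv, ev]
  have key : C.X u w = e * C.X (ev i) w' * e⁻¹ := by
    rw [C.X_conj, heσ, hge]
    congr 1
    simp only [w']
    rw [heσ, self_apply_inv]
  rw [key, hform, C.X_add_smul _ (Q_ev i) (polar_ev_wv i _)]
  exact mul_mem (mul_mem he (hxe _)) (inv_mem he)

include D in
/-- at most two central elements in the last level -/
theorem base_ker [Finite E] {i : Fin m} (hi : i.val + 1 = m) (hs : ∀ z, s (s z) = z) :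
    ∃ z : E, ∀ g ∈ C.Gam i.val, σ g = 1 → g = 1 ∨ (g = z ∧ (2 : F) ≠ 0) := by
  classical
  have sign : ∀ {g : E} {A : SL(2, K)}, (g, A) ∈ C.baseGrp i D → σ g = 1 → A = 1 ∨
      ((A.1 = -1) ∧ (2 : F) ≠ 0) := by
    intro g A hA h1
    have fix : ∀ v, hermConj D hs C.aniso A v = v := by
      intro v
      have h := C.baseP D hs i _ hA v
      simp only [h1, one_apply] at h
      funext l
      rcases l with (l | l) | l
      · obtain rfl : l = 0 := Fin.fin_one_eq_zero l
        have := congrArg (fun z => polar (MQ m a b) z (fv i)) h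
        simpa [emb4, polar_add_left, polar_smul_left] using this.symm
      · obtain rfl : l = 0 := Fin.fin_one_eq_zero l
        have := congrArg (fun z => polar (MQ m a b) z (ev i)) h
        simpa [emb4, polar_add_left, polar_smul_left] using this.symm
      · have := congrArg (fun z : MV m F => z.2 l) h
        simpa [emb4, wv, ev, fv] using this.symm
    have hX : ∀ v, A.1 * hermMat D v * (A.1.map s).transpose = hermMat D v := fun v => by
      rw [← hermMat_hermConj D hs C.aniso A v, fix v]
    have e1 := hX (Sum.elim (Sum.elim (fun _ => 1) fun _ => 0) 0)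
    have e2 := hX (Sum.elim (Sum.elim (fun _ => 0) fun _ => 1) 0)
    have e3 := hX (Sum.elim 0 ![1, 0])
    have e1a := congrFun (congrFun e1 1) 1
    have e2a := congrFun (congrFun e2 0) 0
    have e1b := congrFun (congrFun e1 0) 0
    have e3b := congrFun (congrFun e3 0) 1
    simp [hermMat, Matrix.mul_apply, Fin.sum_univ_two] at e1a e2a e1b e3b
    have h10 : A.1 1 0 = 0 := e1a
    have h01 : A.1 0 1 = 0 := e2a
    simp [h10, h01] at e3b
    have hdet := A.2
    rw [Matrix.det_fin_two, h10, h01, mul_zero, sub_zero] at hdet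
    have h00 : A.1 0 0 ≠ 0 := fun e => by rw [e, zero_mul] at hdet; exact zero_ne_one hdet
    have hs11 : s (A.1 1 1) = A.1 1 1 := mul_left_cancel₀ h00 (by rw [e3b, hdet])
    have hs00 : s (A.1 0 0) = A.1 0 0 := by
      have : A.1 0 0 = (A.1 1 1)⁻¹ := eq_inv_of_mul_eq_one_left hdet
      rw [this, map_inv₀, hs11]
    rw [hs00, mul_self_eq_one_iff] at e1b
    have hA1 : A.1 1 1 = A.1 0 0 := by
      rcases e1b with e | e
      · rw [e, one_mul] at hdet; rw [e, hdet]
      · rw [e, neg_one_mul, neg_eq_iff_eq_neg] at hdet; rw [e, hdet]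
    by_cases h2 : (2 : F) = 0
    · left
      have h2K : (2 : K) = 0 := by rw [← map_ofNat D.emb 2, h2, map_zero]
      have hneg : (-1 : K) = 1 := by linear_combination -h2K
      apply Subtype.ext
      ext u v
      fin_cases u <;> fin_cases v <;> rcases e1b with e | e <;> simp [h10, h01, hA1, e, hneg]
    rcases e1b with e | e
    · left
      apply Subtype.ext
      ext u v
      fin_cases u <;> fin_cases v <;> simp [h10, h01, hA1, e]
    · refine Or.inr ⟨?_, h2⟩
      ext u v
      fin_cases u <;> fin_cases v <;> simp [h10, h01, hA1, e, Matrix.one_apply]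
  by_cases hex : ∃ z A, (z, A) ∈ C.baseGrp i D ∧ σ z = 1 ∧ z ≠ 1
  swap
  · refine ⟨1, fun g hg h1 => Or.inl ?_⟩
    by_contra hne
    obtain ⟨A, hA⟩ := C.base_lift D hi hs hg
    exact hex ⟨g, A, hA, h1, hne⟩
  obtain ⟨z, A, hA, hz, hz1⟩ := hex
  refine ⟨z, fun g hg h1 => ?_⟩
  obtain ⟨B, hB⟩ := C.base_lift D hi hs hg
  rcases sign hB h1 with hB1 | ⟨hB1, h2⟩
  · exact Or.inl (congrArg Prod.fst (C.base_injective D i hB (one_mem _) hs hB1))
  · refine Or.inr ⟨congrArg Prod.fst (C.base_injective D i hB hA hs ?_), h2⟩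
    rcases sign hA hz with hA1 | ⟨hA1, -⟩
    · exact absurd (congrArg Prod.fst (C.base_injective D i hA (one_mem _) hs hA1)) hz1
    · exact Subtype.ext (hB1.trans hA1.symm)

end CExt

end CfsgLib.SpinMinus
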