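import Cfsg.Agent.Lib.SpinMinus.Base

/-!
The kernel of a perfect central extension of an orthogonal group of minus type has at most two
elements.
-/

set_option autoImplicit false
set_option linter.unusedSectionVars false

namespace CfsgLib.SpinMinus

open QuadraticMap CfsgLib.Classical.Quad CfsgLib.Classical.SmallIso
open scoped commutatorElement

variable {F : Type*} [Field F] [Fintype F] {a b : F} {m : ℕ}

attribute [local instance] Classical.propDecidable

theorem kernel_bound {E : Type*} [Group E] [Finite E] {σ : E →* Orth (MQ m a b)} (C : CExt σ)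
    (hperf : commutator E = ⊤) : Nat.card σ.ker ≤ (if (2 : F) = 0 then 1 else 2) := by
  have h3 := C.three
  -- the root lifts generate
  have htop : C.Gam 0 = ⊤ := by
    have hdec : ∀ e : E, ∃ g ∈ C.Gam 0, ∃ z ∈ σ.ker, e = g * z := fun e => by
      obtain ⟨g, hg, hge⟩ := C.Mk_lift 0 (stab_mem C.aniso C.hm 0 (by omega) (σ e)
        (C.range ▸ ⟨e, rfl⟩) (fun i hi => absurd hi (Nat.not_lt_zero _)))
      exact ⟨g, hg, g⁻¹ * e, by rw [MonoidHom.mem_ker, map_mul, map_inv, hge, inv_mul_cancel],
        (mul_inv_cancel_left g e).symm⟩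
    rw [eq_top_iff, ← hperf, commutator_def, Subgroup.commutator_le]
    intro x _ y _
    obtain ⟨g, hg, z, hz, rfl⟩ := hdec x
    obtain ⟨g', hg', z', hz', rfl⟩ := hdec y
    rw [C.comm_congr (x' := g) (y' := g') (by rw [map_mul, MonoidHom.mem_ker.1 hz, mul_one])
      (by rw [map_mul, MonoidHom.mem_ker.1 hz', mul_one]), commutatorElement_def]
    exact mul_mem (mul_mem (mul_mem hg hg') (inv_mem hg)) (inv_mem hg')
  have hdown : ∀ k, k + 1 ≤ m → ∀ g : E, σ g = 1 → g ∈ C.Gam k := by
    intro k
    induction k with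
    | zero => intro _ g _; rw [htop]; exact Subgroup.mem_top g
    | succ k ih =>
      intro hk g hg
      exact C.ker_descend (i := ⟨k, by omega⟩) (i' := ⟨k + 1, by omega⟩) rfl (ih (by omega) g hg) hg
  -- the quadratic extension
  haveI : Fact (∀ r : F, r ^ 2 ≠ -b + a * r) := ⟨fun r hr => by
    have h := C.aniso (-r) 1 (by linear_combination hr)
    exact one_ne_zero h.2⟩
  letI : Fintype (QuadraticAlgebra F (-b) a) :=
    Fintype.ofEquiv _ (QuadraticAlgebra.equivProd (-b) a).symm
  have hK : Fintype.card (QuadraticAlgebra F (-b) a) = Fintype.card F ^ 2 := by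
    rw [Fintype.card_congr (QuadraticAlgebra.equivProd (-b) a), Fintype.card_prod, pow_two]
  obtain ⟨D⟩ := exists_quadCoord rfl hK a b C.aniso
  obtain ⟨z, hz⟩ := C.base_ker D (i := ⟨m - 1, by omega⟩) (by simp only; omega) (CfsgLib.Classical.Herm.qPow_qPow hK)
  have key : ∀ g ∈ σ.ker, g = 1 ∨ (g = z ∧ (2 : F) ≠ 0) := fun g hg =>
    hz g (hdown (m - 1) (by omega) g hg) hg
  split_ifs with h2
  · have hbot : σ.ker = ⊥ := (Subgroup.eq_bot_iff_forall _).2 fun g hg =>
      (key g hg).resolve_right fun h => h.2 h2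
    rw [hbot, Subgroup.card_bot]
  · refine (Set.ncard_le_ncard (s := (σ.ker : Set E)) (t := {1, z}) ?_ (Set.toFinite _)).trans
      ((Set.ncard_insert_le _ _).trans (by rw [Set.ncard_singleton]))
    intro g hg
    rcases key g hg with h | h
    · exact Or.inl h
    · exact Or.inr h.1

end CfsgLib.SpinMinus
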