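import Cfsg.Agent.Lib.SpinMinus.Model
import Cfsg.Agent.Lib.SpinCover.Spinor

/-!
A matrix Clifford map of the minus-type model space and the group generated by the lifts of the
Siegel transformations.
-/

set_option autoImplicit false
set_option linter.unusedSectionVars false

namespace CfsgLib.SpinMinus

open QuadraticMap CfsgLib.Classical.Quad

variable {F : Type*} [Field F] [Fintype F] {a b : F} {m : ℕ}

/-- the algebra of the representation -/
abbrev SAlg (m : ℕ) (F : Type*) := Matrix (Fin (m + 2) → Bool) (Fin (m + 2) → Bool) F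

/-- first half of the coordinates in the split space -/
def gx (v : MV m F) : Fin (m + 2) → F := Fin.append v.1.1 v.2

/-- second half of the coordinates in the split space -/
def gy (a b : F) (v : MV m F) : Fin (m + 2) → F :=
  Fin.append v.1.2 ![v.2 0 + a * v.2 1, b * v.2 1]

theorem gx_add (v w : MV m F) : gx (v + w) = gx v + gx w := by
  funext i
  refine Fin.addCases (fun i => ?_) (fun i => ?_) i <;> simp [gx]

theorem gy_add (v w : MV m F) : gy a b (v + w) = gy a b v + gy a b w := by
  funext i
  refine Fin.addCases (fun i => ?_) (fun i => ?_) i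
  · simp [gy]
  · fin_cases i <;> simp [gy] <;> ring

theorem gx_smul (c : F) (v : MV m F) : gx (c • v) = c • gx v := by
  funext i
  refine Fin.addCases (fun i => ?_) (fun i => ?_) i <;> simp [gx]

theorem gy_smul (c : F) (v : MV m F) : gy a b (c • v) = c • gy a b v := by
  funext i
  refine Fin.addCases (fun i => ?_) (fun i => ?_) i
  · simp [gy]
  · fin_cases i <;> simp [gy] <;> ring

theorem sum_gx_gy (v : MV m F) : ∑ i, gx v i * gy a b v i = MQ m a b v := by
  rw [Fin.sum_univ_add, hypForm_apply, binForm_apply]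
  simp [gx, gy, Fin.sum_univ_two]
  ring

/-- the Clifford map -/
def Gam (m : ℕ) (a b : F) : MV m F →ₗ[F] SAlg m F where
  toFun v := SpinCover.gam F (m + 2) (gx v) (gy a b v)
  map_add' v w := by rw [gx_add, gy_add, SpinCover.gam_add]
  map_smul' c v := by rw [gx_smul, gy_smul, SpinCover.gam_smul]; rfl

theorem Gam_sq (v : MV m F) : Gam m a b v * Gam m a b v = MQ m a b v • (1 : SAlg m F) := by
  show SpinCover.gam F (m + 2) _ _ * SpinCover.gam F (m + 2) _ _ = _
  rw [SpinCover.gam_sq, sum_gx_gy]

theorem Gam_inj : Function.Injective (Gam m a b) := by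
  intro v w h
  rw [← sub_eq_zero] at h ⊢
  rw [← map_sub] at h
  obtain ⟨h1, h2⟩ := SpinCover.gam_eq_zero (m + 2) _ _ h
  generalize v - w = x at h1 h2
  refine Prod.ext (Prod.ext (funext fun i => ?_) (funext fun i => ?_)) (funext fun i => ?_)
  · have := congrFun h1 (Fin.castAdd 2 i); simpa [gx] using this
  · have := congrFun h2 (Fin.castAdd 2 i); simpa [gy] using this
  · have := congrFun h1 (Fin.natAdd m i); simpa [gx] using this

theorem Gam_anti (v w : MV m F) :
    Gam m a b v * Gam m a b w + Gam m a b w * Gam m a b v =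
      polar (MQ m a b) v w • (1 : SAlg m F) := by
  have h := Gam_sq (a := a) (b := b) (v + w)
  rw [map_add, add_mul, mul_add, mul_add, Gam_sq, Gam_sq] at h
  rw [show polar (MQ m a b) v w = MQ m a b (v + w) - MQ m a b v - MQ m a b w from rfl, sub_smul,
    sub_smul, ← h]
  abel

theorem Gam_swap (v w : MV m F) :
    Gam m a b w * Gam m a b v =
      polar (MQ m a b) v w • (1 : SAlg m F) - Gam m a b v * Gam m a b w := by
  rw [← Gam_anti]; abel

/-- the product of two vectors in the Clifford algebra -/
def G2 (m : ℕ) (a b : F) (u w : MV m F) : SAlg m F := Gam m a b u * Gam m a b w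

theorem G2_sq {u w : MV m F} (hu : MQ m a b u = 0) (hw : polar (MQ m a b) u w = 0) :
    G2 m a b u w * G2 m a b u w = 0 := by
  rw [G2, mul_assoc, ← mul_assoc (Gam m a b w), Gam_swap u w, hw, zero_smul, zero_sub, neg_mul,
    mul_neg, mul_assoc, ← mul_assoc (Gam m a b u) (Gam m a b u), Gam_sq, hu, zero_smul, zero_mul,
    neg_zero]

/-- the generators: lifts of Siegel transformations -/
def gens (m : ℕ) (a b : F) : Set ((SAlg m F)ˣ × Orth (MQ m a b)) :=
  {p | ∃ (u w : MV m F) (hu : MQ m a b u = 0) (hw : polar (MQ m a b) u w = 0),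
    (p.1 : SAlg m F) = 1 - G2 m a b u w ∧ p.2 = siegel (MQ m a b) u w hu hw}

/-- the group generated by the lifts -/
noncomputable def S0 (m : ℕ) (a b : F) : Subgroup ((SAlg m F)ˣ × Orth (MQ m a b)) :=
  Subgroup.closure (gens m a b)

/-- projection to the orthogonal group -/
noncomputable def pr (m : ℕ) (a b : F) : S0 m a b →* Orth (MQ m a b) :=
  (MonoidHom.snd _ _).comp (S0 m a b).subtype

/-- the value in the algebra -/
def val' (p : S0 m a b) : SAlg m F := (p.1.1 : SAlg m F)

theorem val'_mul (p q : S0 m a b) : val' (p * q) = val' p * val' q := rfl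

theorem val'_one : val' (1 : S0 m a b) = 1 := rfl

theorem gen_exists {u w : MV m F} (hu : MQ m a b u = 0) (hw : polar (MQ m a b) u w = 0) :
    ∃ p : S0 m a b, val' p = 1 - G2 m a b u w ∧ pr m a b p = siegel (MQ m a b) u w hu hw := by
  have h := G2_sq hu hw
  let U : (SAlg m F)ˣ :=
    { val := 1 - G2 m a b u w
      inv := 1 + G2 m a b u w
      val_inv := by rw [sub_mul, mul_add, mul_add, h]; simp
      inv_val := by rw [add_mul, mul_sub, mul_sub, h]; simp }
  exact ⟨⟨(U, siegel (MQ m a b) u w hu hw), Subgroup.subset_closure ⟨u, w, hu, hw, rfl, rfl⟩⟩,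
    rfl, rfl⟩

theorem gen_conj {u w : MV m F} (hu : MQ m a b u = 0) (hw : polar (MQ m a b) u w = 0) (x : MV m F) :
    (1 - G2 m a b u w) * Gam m a b x =
      Gam m a b ((siegel (MQ m a b) u w hu hw).1 x) * (1 - G2 m a b u w) := by
  have uu : Gam m a b u * Gam m a b u = 0 := by rw [Gam_sq, hu, zero_smul]
  set k := MQ m a b w with hk
  set p := polar (MQ m a b) x u
  set r := polar (MQ m a b) x w
  rw [siegel_apply, map_add, map_add, map_smul, map_smul]
  have e1 : G2 m a b u w * Gam m a b x =
      Gam m a b x * G2 m a b u w + r • Gam m a b u - p • Gam m a b w := by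
    rw [G2, mul_assoc, Gam_swap x w, mul_sub, ← mul_assoc, Gam_swap x u, sub_mul, smul_mul_assoc,
      one_mul, mul_smul_comm, mul_one, mul_assoc]
    abel
  have e2 : Gam m a b u * G2 m a b u w = 0 := by rw [G2, ← mul_assoc, uu, zero_mul]
  have e3 : Gam m a b w * G2 m a b u w = -(k • Gam m a b u) := by
    rw [G2, ← mul_assoc, Gam_swap u w, hw, zero_smul, zero_sub, neg_mul, mul_assoc, Gam_sq,
      mul_smul_comm, mul_one, hk]
  rw [sub_mul, one_mul, e1, mul_sub, mul_one, add_mul, add_mul, smul_mul_assoc, smul_mul_assoc,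
    e2, e3, smul_zero, add_zero, smul_neg, smul_smul]
  module

/-- the action is the twisted conjugation -/
theorem S0_conj (p : S0 m a b) (x : MV m F) :
    val' p * Gam m a b x = Gam m a b ((pr m a b p).1 x) * val' p := by
  obtain ⟨p, hp⟩ := p
  show (p.1 : SAlg m F) * _ = _ * (p.1 : SAlg m F)
  induction hp using Subgroup.closure_induction generalizing x with
  | mem q hq =>
    obtain ⟨u, w, hu, hw, h1, h2⟩ := hq
    show _ = Gam m a b (q.2.1 x) * _
    rw [h1, h2, gen_conj hu hw x]
  | one => simp [pr]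
  | mul y z _ _ hy hz =>
    show _ = Gam m a b (y.2.1 (z.2.1 x)) * _
    rw [Prod.fst_mul, Units.val_mul, mul_assoc, hz x, ← mul_assoc]
    erw [hy (z.2.1 x)]
    rw [mul_assoc]
    rfl
  | inv y _ hy =>
    show _ = Gam m a b ((y.2⁻¹).1 x) * _
    have h : (y.1 : SAlg m F) * Gam m a b ((y.2⁻¹).1 x) = Gam m a b x * (y.1 : SAlg m F) := by
      have := hy ((y.2⁻¹).1 x)
      change _ = Gam m a b (y.2.1 ((y.2⁻¹).1 x)) * _ at this
      rwa [self_apply_inv] at this
    rw [Prod.fst_inv, Units.inv_mul_eq_iff_eq_mul, ← mul_assoc, h, mul_assoc, Units.mul_inv, mul_one]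

theorem act_eq {p : S0 m a b} {x y : MV m F}
    (h : val' p * Gam m a b x = Gam m a b y * val' p) : (pr m a b p).1 x = y := by
  rw [S0_conj] at h
  exact Gam_inj ((p.1.1).isUnit.mul_right_cancel h)

theorem S0_ext {p q : S0 m a b} (h : val' p = val' q) : p = q := by
  refine Subtype.ext (Prod.ext (Units.ext h) ?_)
  refine orth_ext fun x => ?_
  show (pr m a b p).1 x = (pr m a b q).1 x
  exact act_eq (by rw [h, S0_conj])

theorem pr_ker : (pr m a b).ker ≤ Subgroup.center (S0 m a b) := by
  intro g hg
  have hv : ∀ x, Commute (val' g) (Gam m a b x) := fun x => by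
    have := S0_conj g x
    rw [MonoidHom.mem_ker.1 hg, one_apply] at this
    exact this
  rw [Subgroup.mem_center_iff]
  rintro ⟨p, hp⟩
  refine S0_ext ?_
  show Commute (p.1 : SAlg m F) (val' g)
  induction hp using Subgroup.closure_induction with
  | mem q hq =>
    obtain ⟨u, w, hu, hw, h1, -⟩ := hq
    rw [h1]
    exact ((Commute.one_right _).sub_right ((hv u).mul_right (hv w))).symm
  | one => simp
  | mul y z _ _ hy hz => exact hy.mul_left hz
  | inv y _ hy => exact hy.units_inv_left

theorem pr_range : (pr m a b).range = siegelGroup (MQ m a b) := by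
  apply le_antisymm
  · rintro g ⟨⟨p, hp⟩, rfl⟩
    show p.2 ∈ _
    induction hp using Subgroup.closure_induction with
    | mem q hq => obtain ⟨u, w, hu, hw, -, h2⟩ := hq; rw [h2]; exact siegel_mem hu hw
    | one => exact one_mem _
    | mul y z _ _ hy hz => exact mul_mem hy hz
    | inv y _ hy => exact inv_mem hy
  · refine (Subgroup.closure_le _).2 ?_
    rintro g ⟨u, w, hu, hw, rfl⟩
    obtain ⟨p, -, hp⟩ := gen_exists hu hw
    exact ⟨p, hp⟩

/-- In odd characteristic the derived group contains every element of order dividing four. -/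
theorem mem_derived_of_pow_four (h2 : (2 : F) ≠ 0) {g : S0 m a b} (hg : g ^ 4 = 1) :
    g ∈ commutator (S0 m a b) := by
  set A := S0 m a b ⧸ commutator (S0 m a b)
  haveI : Fact (ringChar F).Prime := ⟨CharP.char_is_prime F _⟩
  have hpodd : Nat.Coprime 4 (ringChar F) := by
    have h : ringChar F ≠ 2 := fun h => h2 (by
      have := ringChar.Nat.cast_ringChar (R := F)
      rw [h] at this
      exact_mod_cast this)
    exact Nat.Coprime.pow_left 2 ((Nat.coprime_primes Nat.prime_two Fact.out).2 (Ne.symm h))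
  have hab : ∀ x y : A, x * y = y * x := fun x y => by
    obtain ⟨x, rfl⟩ := QuotientGroup.mk'_surjective _ x
    obtain ⟨y, rfl⟩ := QuotientGroup.mk'_surjective _ y
    rw [← commutatorElement_eq_one_iff_mul_comm, ← map_commutatorElement]
    exact (QuotientGroup.eq_one_iff _).2
      (Subgroup.commutator_mem_commutator (Subgroup.mem_top x) (Subgroup.mem_top y))
  have hexp : ∀ x : S0 m a b, (QuotientGroup.mk' _ x : A) ^ ringChar F = 1 := by
    rintro ⟨p, hp⟩
    induction hp using Subgroup.closure_induction with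
    | mem q hq =>
      have hq' := hq
      obtain ⟨u, w, hu, hw, h1, h2'⟩ := hq'
      rw [← map_pow, show (⟨q, Subgroup.subset_closure hq⟩ : S0 m a b) ^ ringChar F = 1 from ?_,
        map_one]
      refine S0_ext ?_
      have hpow : ∀ k : ℕ, (q.1 : SAlg m F) ^ k = 1 - (k : F) • G2 m a b u w := by
        intro k
        induction k with
        | zero => simp
        | succ k ih =>
          rw [pow_succ, ih, h1, sub_mul, one_mul, smul_mul_assoc, mul_sub, mul_one, G2_sq hu hw,
            sub_zero, Nat.cast_succ, add_smul, one_smul]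
          abel
      show ((q ^ ringChar F).1 : SAlg m F) = 1
      rw [Prod.pow_fst, Units.val_pow_eq_pow_val, hpow, ringChar.Nat.cast_ringChar, zero_smul,
        sub_zero]
    | one => rw [show (⟨1, _⟩ : S0 m a b) = 1 from rfl, map_one, one_pow]
    | mul y z hy' hz' hy hz =>
      rw [show (⟨y * z, _⟩ : S0 m a b) = ⟨y, hy'⟩ * ⟨z, hz'⟩ from rfl, map_mul,
        Commute.mul_pow (hab _ _), hy, hz, one_mul]
    | inv y hy' hy =>
      rw [show (⟨y⁻¹, _⟩ : S0 m a b) = ⟨y, hy'⟩⁻¹ from rfl, map_inv, inv_pow, hy, inv_one]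
  have h4 : (QuotientGroup.mk' _ g : A) ^ 4 = 1 := by rw [← map_pow, hg, map_one]
  have := pow_gcd_eq_one.2 ⟨h4, hexp g⟩
  rw [hpodd.gcd_eq_one, pow_one] at this
  exact (QuotientGroup.eq_one_iff g).1 this

end CfsgLib.SpinMinus
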