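import Cfsg.Agent.Lib.SpinMinus.Line

/-!
The covering argument on the singular vectors of one level: the lifted stabiliser is as small as
possible.
-/

set_option autoImplicit false
set_option linter.unusedSectionVars false

namespace CfsgLib.SpinMinus

open QuadraticMap CfsgLib.Classical.Quad
open scoped commutatorElement

variable {F : Type*} [Field F] [Fintype F] {a b : F} {m : ℕ}

/-- adjacent singular vectors of a level -/
structure Edge (a b : F) (k : ℕ) (p q : MV m F) : Prop where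
  hp : p ∈ Uk m F k
  hq : q ∈ Uk m F k
  pQ : MQ m a b p = 0
  qQ : MQ m a b q = 0
  pq : polar (MQ m a b) p q = 0
  p0 : p ≠ 0
  ind : ∀ c : F, q ≠ c • p

/-- a common dual vector of two vectors -/
structure Dual (a b : F) (k : ℕ) (p q y : MV m F) : Prop where
  hy : y ∈ Uk m F k
  py : polar (MQ m a b) p y = 1
  qy : polar (MQ m a b) q y = 1

theorem Edge.q0 {k : ℕ} {p q : MV m F} (h : Edge a b k p q) : q ≠ 0 :=
  fun e => h.ind 0 (by rw [e, zero_smul])

theorem Edge.symm {k : ℕ} {p q : MV m F} (h : Edge a b k p q) : Edge a b k q p :=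
  ⟨h.hq, h.hp, h.qQ, h.pQ, by rw [polar_comm]; exact h.pq, h.q0, fun c e => by
    by_cases hc : c = 0
    · exact h.p0 (by rw [e, hc, zero_smul])
    · exact h.ind c⁻¹ (by rw [e, inv_smul_smul₀ hc])⟩

theorem Dual.symm {k : ℕ} {p q y : MV m F} (h : Dual a b k p q y) : Dual a b k q p y :=
  ⟨h.hy, h.qy, h.py⟩

theorem edge_dual (hab : IsAniso a b) {k : ℕ} {p q : MV m F} (h : Edge a b k p q) :
    ∃ y, Dual a b k p q y := by
  obtain ⟨x, h1, h2⟩ := exists_polar_pair (ndPolar hab)
    (not_smul_eq_of_indep h.q0 fun c => (h.symm.ind c).symm) 1 1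
  exact ⟨cut k x, cut_mem k x, by rw [polar_cut h.hp, h1], by rw [polar_cut h.hq, h2]⟩

theorem Edge.sub_Q {k : ℕ} {p q : MV m F} (h : Edge a b k p q) : MQ m a b (p - q) = 0 := by
  rw [sub_eq_add_neg, QuadraticMap.map_add (MQ m a b), QuadraticMap.map_neg, h.pQ, h.qQ,
    polar_neg_right, h.pq]
  simp

variable {E : Type*} [Group E] {σ : E →* Orth (MQ m a b)}

namespace CExt

variable (C : CExt σ)
include C

/-- transport along an edge -/
noncomputable def tr (p q y : MV m F) : E := C.X (p - q) y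

/-- equality of cosets of the lifted stabiliser -/
def Rel (i : Fin m) (g g' : E) : Prop := g⁻¹ * g' ∈ C.Kg i

theorem Rel.refl' (i : Fin m) (g : E) : C.Rel i g g := by simp [Rel, one_mem]

theorem Rel.symm' {i : Fin m} {g g' : E} (h : C.Rel i g g') : C.Rel i g' g := by
  have := inv_mem (show g⁻¹ * g' ∈ C.Kg i from h)
  rwa [_root_.mul_inv_rev, inv_inv] at this

theorem Rel.trans' {i : Fin m} {g g' g'' : E} (h : C.Rel i g g') (h' : C.Rel i g' g'') :
    C.Rel i g g'' := by
  have := mul_mem (show g⁻¹ * g' ∈ C.Kg i from h) (show g'⁻¹ * g'' ∈ C.Kg i from h')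
  rwa [show g⁻¹ * g' * (g'⁻¹ * g'') = g⁻¹ * g'' by group] at this

theorem Rel.left {i : Fin m} {g g' : E} (h : C.Rel i g g') (x : E) : C.Rel i (x * g) (x * g') := by
  unfold Rel at h ⊢
  rwa [show (x * g)⁻¹ * (x * g') = g⁻¹ * g' by group]

theorem Rel.right {i : Fin m} {g x : E} (hx : x ∈ C.Kg i) : C.Rel i g (g * x) := by
  unfold Rel
  rwa [inv_mul_cancel_left]

theorem Rel.fix {i : Fin m} {g g' : E} (h : C.Rel i g g') :
    (σ g').1 (ev i) = (σ g).1 (ev i) := by
  have e := C.Kg_fix (show g⁻¹ * g' ∈ C.Kg i from h)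
  conv_rhs => rw [← e]
  rw [← mul_apply, ← map_mul, mul_inv_cancel_left]

theorem tr_mem {k : ℕ} {p q y : MV m F} (h : Edge a b k p q) (d : Dual a b k p q y) :
    C.tr p q y ∈ C.Gam k := C.X_mem_Gam (sub_mem h.hp h.hq) d.hy

theorem tr_polar {k : ℕ} {p q y : MV m F} (d : Dual a b k p q y) :
    polar (MQ m a b) (p - q) y = 0 := by rw [polar_sub_left, d.py, d.qy, sub_self]

theorem tr_move {k : ℕ} {p q y : MV m F} (h : Edge a b k p q) (d : Dual a b k p q y) :
    (σ (C.tr p q y)).1 p = q := by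
  rw [tr, C.X_sigma, T_apply h.sub_Q (C.tr_polar d), d.py, polar_sub_right, h.pq,
    polar_singular_self h.pQ]
  module

theorem tr_symm {k : ℕ} {p q y : MV m F} (h : Edge a b k p q) (d : Dual a b k p q y) :
    C.tr q p y = (C.tr p q y)⁻¹ := by
  rw [tr, tr, ← C.X_neg (C.tr_polar d), ← neg_sub p q, ← neg_one_smul F (p - q),
    C.X_smul (-1) h.sub_Q (C.tr_polar d), neg_one_smul]

theorem tr_conj (e : E) (p q y : MV m F) :
    e * C.tr p q y * e⁻¹ = C.tr ((σ e).1 p) ((σ e).1 q) ((σ e).1 y) := by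
  rw [tr, tr, C.X_conj, map_sub]

theorem edge_map {k : ℕ} {e : E} (he : e ∈ C.Gam k) {p q : MV m F} (h : Edge a b k p q) :
    Edge a b k ((σ e).1 p) ((σ e).1 q) :=
  ⟨C.Gam_preserve he h.hp, C.Gam_preserve he h.hq, by rw [orth_Q, h.pQ], by rw [orth_Q, h.qQ],
    by rw [orth_polar, h.pq], orth_ne_zero _ h.p0, fun c ec =>
      h.ind c ((σ e).1.injective (by rw [map_smul]; exact ec))⟩

theorem dual_map {k : ℕ} {e : E} (he : e ∈ C.Gam k) {p q y : MV m F} (h : Dual a b k p q y) :
    Dual a b k ((σ e).1 p) ((σ e).1 q) ((σ e).1 y) :=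
  ⟨C.Gam_preserve he h.hy, by rw [orth_polar, h.py], by rw [orth_polar, h.qy]⟩

theorem tr_indep {i : Fin m} {g : E} (hg : g ∈ C.Gam i.val) {p q y y' : MV m F}
    (h : Edge a b i.val p q) (d : Dual a b i.val p q y) (d' : Dual a b i.val p q y')
    (hgp : (σ g).1 (ev i) = p) : C.Rel i (C.tr p q y * g) (C.tr p q y' * g) := by
  have hy : polar (MQ m a b) (p - q) (y' - y) = 0 := by
    rw [polar_sub_right, C.tr_polar d', C.tr_polar d, sub_self]
  have e : C.tr p q y' = C.tr p q y * C.X (p - q) (y' - y) := by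
    rw [tr, tr, ← C.X_add (C.tr_polar d) hy, add_sub_cancel]
  show (C.tr p q y * g)⁻¹ * (C.tr p q y' * g) ∈ C.Kg i
  rw [e, show (C.tr p q y * g)⁻¹ * (C.tr p q y * C.X (p - q) (y' - y) * g) =
    g⁻¹ * C.X (p - q) (y' - y) * g by group]
  refine C.conj_mem_Kg hg (sub_mem h.hp h.hq) (sub_mem d'.hy d.hy) ?_ ?_
  · rw [hgp, polar_sub_left, polar_singular_self h.pQ, polar_comm, h.pq, sub_zero]
  · rw [hgp, polar_sub_left, polar_comm, d'.py, polar_comm, d.py, sub_self]

theorem Mk_lift (k : ℕ) {g : Orth (MQ m a b)} (hg : g ∈ Mk m a b k) :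
    ∃ e ∈ C.Gam k, σ e = g := by
  have : Mk m a b k ≤ (C.Gam k).map σ := by
    refine (Subgroup.closure_le _).2 ?_
    rintro g ⟨j, w, hj, rfl⟩
    exact ⟨_, C.X_mem_Gam (dv_mem hj) (wv_mem k w), C.X_sigma _ _⟩
  exact this hg

theorem exists_succ_to {i i' : Fin m} (hi : i'.val = i.val + 1) {x : MV m F}
    (hx : x ∈ Uk m F (i.val + 1)) (hx0 : x ≠ 0) (hxQ : MQ m a b x = 0) :
    ∃ e ∈ C.Gam (i.val + 1), (σ e).1 (ev i') = x := by
  obtain ⟨g, hg, hge⟩ := exists_to_ev C.aniso i' (by rw [hi]; exact hx) hx0 hxQ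
  rw [hi] at hg
  obtain ⟨e, he, heg⟩ := C.Mk_lift _ hg
  exact ⟨e, he, by rw [heg]; exact hge⟩

theorem exists_Kg_to {i i' : Fin m} (hi : i'.val = i.val + 1) {p : MV m F}
    (h : Edge a b i.val (ev i) p) : ∃ k ∈ C.Kg i, (σ k).1 (ev i') = p := by
  set α := polar (MQ m a b) p (fv i)
  set p' := p - α • ev i
  have hpv : polar (MQ m a b) p (ev i) = 0 := by rw [polar_comm]; exact h.pq
  have hp'U : p' ∈ Uk m F (i.val + 1) := by
    refine mem_Uk_succ (a := a) (b := b) (sub_mem h.hq (Submodule.smul_mem _ _ h.hp)) ?_ ?_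
    · rw [polar_sub_left, polar_smul_left, hpv, polar_ev_ev, smul_zero, sub_zero]
    · rw [polar_sub_left, polar_smul_left, polar_ev_fv_self, smul_eq_mul, mul_one, sub_self]
  have hp'0 : p' ≠ 0 := fun e => h.ind α (sub_eq_zero.1 e)
  have hp'Q : MQ m a b p' = 0 := by
    rw [show p' = p + (-α) • ev i by rw [neg_smul, ← sub_eq_add_neg],
      QuadraticMap.map_add (MQ m a b), h.qQ, QuadraticMap.map_smul, Q_ev, polar_smul_right, hpv]
    simp
  obtain ⟨e, he, hee⟩ := C.exists_succ_to hi hp'U hp'0 hp'Q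
  obtain ⟨z, hz, hzp⟩ := exists_dual_one C.aniso hp'U hp'0
  have hzv : polar (MQ m a b) (ev i) ((-α) • z) = 0 := by
    rw [polar_smul_right, polar_comm, polar_ev_of_mem hz (Nat.lt_succ_self _), smul_zero]
  refine ⟨C.X (ev i) ((-α) • z) * e, mul_mem (C.X_mem_Kg h.hp
    (Submodule.smul_mem _ _ (Uk_mono (Nat.le_succ _) hz)) (polar_ev_ev i i)
    (by rw [polar_comm]; exact hzv)) (C.Gam_succ_le_Kg i he), ?_⟩
  rw [map_mul, mul_apply, hee, C.X_sigma, T_apply (Q_ev i) hzv,
    polar_ev_of_mem hp'U (Nat.lt_succ_self _), polar_smul_right, hzp]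
  simp [p']

theorem succ_conj {i : Fin m} {g : E} (hg : g ∈ C.Gam i.val)
    (hx : ∀ u ∈ Uk m F (i.val + 1), polar (MQ m a b) u ((σ g).1 (ev i)) = 0) {k : E}
    (hk : k ∈ C.Gam (i.val + 1)) : g⁻¹ * k * g ∈ C.Kg i := by
  induction hk using Subgroup.closure_induction with
  | mem z hz =>
    obtain ⟨u, hu, w, hw, rfl⟩ := hz
    exact C.conj_mem_Kg hg (Uk_mono (Nat.le_succ _) hu) (Uk_mono (Nat.le_succ _) hw) (hx u hu) (hx w hw)
  | one => simpa using one_mem _
  | mul y z _ _ hy hz =>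
    rw [show g⁻¹ * (y * z) * g = g⁻¹ * y * g * (g⁻¹ * z * g) by group]
    exact mul_mem hy hz
  | inv y _ hy =>
    rw [show g⁻¹ * y⁻¹ * g = (g⁻¹ * y * g)⁻¹ by group]
    exact inv_mem hy

theorem Kg_conj {i : Fin m} {g : E} (hg : g ∈ C.Gam i.val) {c : F}
    (hx : (σ g).1 (ev i) = c • ev i) {k : E} (hk : k ∈ C.Kg i) : g⁻¹ * k * g ∈ C.Kg i := by
  induction hk using Subgroup.closure_induction with
  | mem z hz =>
    obtain ⟨u, hu, w, hw, h1, h2, rfl⟩ := hz
    exact C.conj_mem_Kg hg hu hw (by rw [hx, polar_smul_right, h1, smul_zero])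
      (by rw [hx, polar_smul_right, h2, smul_zero])
  | one => simpa using one_mem _
  | mul y z _ _ hy hz =>
    rw [show g⁻¹ * (y * z) * g = g⁻¹ * y * g * (g⁻¹ * z * g) by group]
    exact mul_mem hy hz
  | inv y _ hy =>
    rw [show g⁻¹ * y⁻¹ * g = (g⁻¹ * y * g)⁻¹ by group]
    exact inv_mem hy

/-- triangles at the base vertex -/
theorem triangle [Finite E] {i i' : Fin m} (hi : i'.val = i.val + 1) {p q y1 y2 y3 : MV m F}
    (h1 : Edge a b i.val (ev i) p) (h2 : Edge a b i.val p q) (h3 : Edge a b i.val (ev i) q)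
    (d1 : Dual a b i.val (ev i) p y1) (d2 : Dual a b i.val p q y2)
    (d3 : Dual a b i.val (ev i) q y3) :
    C.Rel i (C.tr p q y2 * C.tr (ev i) p y1) (C.tr (ev i) q y3) := by
  set k := i.val
  have g1 := C.tr_mem h1 d1
  have m1 := C.tr_move h1 d1
  -- changing the dual vectors does not matter
  have change : ∀ {y1' y2' y3' : MV m F}, Dual a b k (ev i) p y1' → Dual a b k p q y2' →
      Dual a b k (ev i) q y3' →
      C.Rel i (C.tr p q y2' * C.tr (ev i) p y1') (C.tr (ev i) q y3') →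
      C.Rel i (C.tr p q y2 * C.tr (ev i) p y1) (C.tr (ev i) q y3) := by
    intro y1' y2' y3' e1 e2 e3 h
    have r1 := C.tr_indep g1 h2 d2 e2 m1
    have r2 := C.tr_indep (one_mem _) h1 d1 e1 (by rw [map_one, one_apply])
    have r3 := C.tr_indep (one_mem _) h3 e3 d3 (by rw [map_one, one_apply])
    rw [mul_one, mul_one] at r2 r3
    exact Rel.trans' C (Rel.trans' C r1 (Rel.left C r2 _)) (Rel.trans' C h r3)
  by_cases hspan : ∃ α β : F, q = α • ev i + β • p
  · obtain ⟨α, β, hq⟩ := hspan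
    have hα : α ≠ 0 := fun e => h2.ind β (by rw [hq, e, zero_smul, zero_add])
    have hβ : β ≠ 0 := fun e => h3.ind α (by rw [hq, e, zero_smul, add_zero])
    have hne : i ≠ i' := fun e => by have := congrArg Fin.val e; omega
    obtain ⟨x, hx, hxp⟩ := C.exists_Kg_to hi h1
    have hxG := C.Kg_le_Gam i hx
    have hxv := C.Kg_fix hx
    have hk1 : k ≤ i'.val := by omega
    have hmem : ∀ s t : F, (s • fv i + t • fv i' : MV m F) ∈ Uk m F k := fun s t =>
      add_mem (Submodule.smul_mem _ _ (fv_mem le_rfl)) (Submodule.smul_mem _ _ (fv_mem hk1))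
    have hq' : (σ x).1 (α • ev i + β • ev i') = q := by
      rw [map_add, map_smul, map_smul, hxv, hxp, hq]
    have dA : Dual a b k (ev i) (ev i') (fv i + fv i') :=
      ⟨by simpa using hmem 1 1, by simp [polar_add_right, polar_ev_fv, hne.symm],
        by simp [polar_add_right, polar_ev_fv, hne]⟩
    have dB : Dual a b k (ev i') (α • ev i + β • ev i') (((1 - β) / α) • fv i + fv i') :=
      ⟨by simpa using hmem ((1 - β) / α) 1,
        by simp [polar_add_right, polar_ev_fv, hne],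
        by simp [polar_add_left, polar_add_right, polar_smul_left, polar_smul_right, polar_ev_fv, hne,
            hne.symm]; field_simp; ring⟩
    have dC : Dual a b k (ev i) (α • ev i + β • ev i') (fv i + ((1 - α) / β) • fv i') :=
      ⟨by simpa using hmem 1 ((1 - α) / β),
        by simp [polar_add_right, polar_ev_fv, hne.symm],
        by simp [polar_add_left, polar_add_right, polar_smul_left, polar_smul_right, polar_ev_fv, hne,
            hne.symm]; field_simp; ring⟩
    have eA := C.dual_map hxG dA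
    have eB := C.dual_map hxG dB
    have eC := C.dual_map hxG dC
    rw [hxv, hxp] at eA
    rw [hxp, hq'] at eB
    rw [hxv, hq'] at eC
    refine change eA eB eC ?_
    have base := mul_mem (mul_mem hx (C.line_triangle hne hk1 hα hβ)) (inv_mem hx)
    apply Rel.symm' C
    show (C.tr (ev i) q _)⁻¹ * (C.tr p q _ * C.tr (ev i) p _) ∈ C.Kg i
    have c1 := C.tr_conj x (ev i) (ev i') (fv i + fv i')
    have c2 := C.tr_conj x (ev i') (α • ev i + β • ev i') (((1 - β) / α) • fv i + fv i')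
    have c3 := C.tr_conj x (ev i) (α • ev i + β • ev i') (fv i + ((1 - α) / β) • fv i')
    rw [hxv, hxp] at c1
    rw [hxp, hq'] at c2
    rw [hxv, hq'] at c3
    rw [← c1, ← c2, ← c3]
    convert base using 1
    simp only [tr]
    group
  -- the plane
  obtain ⟨φ, hφq, hφ⟩ := Submodule.exists_dual_map_eq_bot_of_notMem
    (p := Submodule.span F {(ev i : MV m F), p}) (x := q) (fun hmem => by
      obtain ⟨α, β, e⟩ := Submodule.mem_span_pair.1 hmem
      exact hspan ⟨α, β, e.symm⟩) inferInstance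
  have hφ0 : ∀ z ∈ Submodule.span F {(ev i : MV m F), p}, φ z = 0 := fun z hz => by
    have : φ z ∈ (Submodule.span F {(ev i : MV m F), p}).map φ := Submodule.mem_map_of_mem hz
    rw [hφ] at this
    exact (Submodule.mem_bot F).1 this
  obtain ⟨z0, hz0⟩ := exists_polar (ndPolar C.aniso) φ
  set z := cut k z0
  have hzv : polar (MQ m a b) (ev i) z = 0 := by
    rw [polar_cut (ev_mem le_rfl), polar_comm, hz0]
    exact hφ0 _ (Submodule.subset_span (Set.mem_insert _ _))
  have hzp : polar (MQ m a b) p z = 0 := by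
    rw [polar_cut h1.hq, polar_comm, hz0]
    exact hφ0 _ (Submodule.subset_span (Set.mem_insert_of_mem _ rfl))
  have hzq : polar (MQ m a b) q z ≠ 0 := by
    rw [polar_cut h2.hq, polar_comm, hz0]
    exact hφq
  set Y := y1 + ((1 - polar (MQ m a b) q y1) / polar (MQ m a b) q z) • z
  have hYv : polar (MQ m a b) (ev i) Y = 1 := by
    rw [polar_add_right, polar_smul_right, hzv, d1.py, smul_zero, add_zero]
  have hYp : polar (MQ m a b) p Y = 1 := by
    rw [polar_add_right, polar_smul_right, hzp, d1.qy, smul_zero, add_zero]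
  have hYq : polar (MQ m a b) q Y = 1 := by
    rw [polar_add_right, polar_smul_right, smul_eq_mul, div_mul_cancel₀ _ hzq]
    ring
  have hYU : Y ∈ Uk m F k := add_mem d1.hy (Submodule.smul_mem _ _ (cut_mem k z0))
  set y := Y - MQ m a b Y • ev i
  have hyU : y ∈ Uk m F k := sub_mem hYU (Submodule.smul_mem _ _ h1.hp)
  have hyv : polar (MQ m a b) (ev i) y = 1 := by
    rw [polar_sub_right, hYv, polar_smul_right, polar_ev_ev, smul_zero, sub_zero]
  have hyp : polar (MQ m a b) p y = 1 := by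
    rw [polar_sub_right, hYp, polar_smul_right, polar_comm, h1.pq, smul_zero, sub_zero]
  have hyq : polar (MQ m a b) q y = 1 := by
    rw [polar_sub_right, hYq, polar_smul_right, polar_comm, h3.pq, smul_zero, sub_zero]
  have hyQ : MQ m a b y = 0 := by
    rw [show y = Y + (-MQ m a b Y) • ev i by rw [neg_smul, ← sub_eq_add_neg],
      QuadraticMap.map_add (MQ m a b), QuadraticMap.map_smul, Q_ev, polar_smul_right, polar_comm, hYv]
    simp
  have e1 : Dual a b k (ev i) p y := ⟨hyU, hyv, hyp⟩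
  have e2 : Dual a b k p q y := ⟨hyU, hyp, hyq⟩
  have e3 : Dual a b k (ev i) q y := ⟨hyU, hyv, hyq⟩
  refine change e1 e2 e3 ?_
  have s1 := C.X_swap h1.sub_Q hyQ (C.tr_polar e1)
  have s2 := C.X_swap h2.sub_Q hyQ (C.tr_polar e2)
  have s3 := C.X_swap h3.sub_Q hyQ (C.tr_polar e3)
  have p1 : polar (MQ m a b) y (-(ev i - p)) = 0 := by
    rw [polar_neg_right, polar_comm, C.tr_polar e1, neg_zero]
  have p2 : polar (MQ m a b) y (-(p - q)) = 0 := by
    rw [polar_neg_right, polar_comm, C.tr_polar e2, neg_zero]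
  show (C.X (p - q) y * C.X (ev i - p) y)⁻¹ * C.X (ev i - q) y ∈ C.Kg i
  rw [s1, s2, s3, ← C.X_add p2 p1, show -(p - q) + -(ev i - p) = -(ev i - q) by abel,
    inv_mul_cancel]
  exact one_mem _

/-- triangles anywhere -/
theorem triangle_at [Finite E] {i i' : Fin m} (hi : i'.val = i.val + 1) {g : E}
    (hg : g ∈ C.Gam i.val) {c p q y1 y2 y3 : MV m F} (hc : (σ g).1 (ev i) = c)
    (h1 : Edge a b i.val c p) (h2 : Edge a b i.val p q) (h3 : Edge a b i.val c q)
    (d1 : Dual a b i.val c p y1) (d2 : Dual a b i.val p q y2) (d3 : Dual a b i.val c q y3) :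
    C.Rel i (C.tr p q y2 * C.tr c p y1 * g) (C.tr c q y3 * g) := by
  have hc' : (σ g⁻¹).1 c = ev i := by rw [C.inv_sigma, ← hc, inv_apply_self]
  have hg' := inv_mem hg
  have f1 := C.edge_map hg' h1
  have f2 := C.edge_map hg' h2
  have f3 := C.edge_map hg' h3
  have k1 := C.dual_map hg' d1
  have k2 := C.dual_map hg' d2
  have k3 := C.dual_map hg' d3
  have t1 := C.tr_conj g⁻¹ p q y2
  have t2 := C.tr_conj g⁻¹ c p y1
  have t3 := C.tr_conj g⁻¹ c q y3
  rw [hc'] at f1 f3 k1 k3 t2 t3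
  have h := Rel.left C (C.triangle hi f1 f2 f3 k1 k2 k3) g
  rw [← t1, ← t2, ← t3] at h
  convert h using 1 <;> group

/-- elements reached from the base by two steps -/
def Reach (i : Fin m) (g : E) : Prop :=
  ∃ c p y1 y2, Edge a b i.val (ev i) c ∧ Edge a b i.val c p ∧ Dual a b i.val (ev i) c y1 ∧
    Dual a b i.val c p y2 ∧ C.Rel i (C.tr c p y2 * C.tr (ev i) c y1) g

theorem path_fix {i : Fin m} {c p y1 y2 : MV m F} (h1 : Edge a b i.val (ev i) c)
    (h2 : Edge a b i.val c p) (d1 : Dual a b i.val (ev i) c y1) (d2 : Dual a b i.val c p y2) :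
    (σ (C.tr c p y2 * C.tr (ev i) c y1)).1 (ev i) = p := by
  rw [map_mul, mul_apply, C.tr_move h1 d1, C.tr_move h2 d2]

/-- paths with moved middles -/
theorem path_moved {i : Fin m} {c c' p y1 y2 z1 z2 : MV m F} (h1 : Edge a b i.val (ev i) c)
    (h2 : Edge a b i.val c p) (d1 : Dual a b i.val (ev i) c y1) (d2 : Dual a b i.val c p y2)
    (h1' : Edge a b i.val (ev i) c') (h2' : Edge a b i.val c' p)
    (e1 : Dual a b i.val (ev i) c' z1) (e2 : Dual a b i.val c' p z2) {k : E} (hk : k ∈ C.Kg i)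
    (hkc : (σ k).1 c = c') (hkp : (σ k).1 p = p)
    (hconj : (C.tr c p y2 * C.tr (ev i) c y1)⁻¹ * k * (C.tr c p y2 * C.tr (ev i) c y1) ∈ C.Kg i) :
    C.Rel i (C.tr c p y2 * C.tr (ev i) c y1) (C.tr c' p z2 * C.tr (ev i) c' z1) := by
  set A := C.tr c p y2 * C.tr (ev i) c y1
  have hkG := C.Kg_le_Gam i hk
  have k1 := C.dual_map hkG d1
  have k2 := C.dual_map hkG d2
  rw [C.Kg_fix hk, hkc] at k1
  rw [hkc, hkp] at k2
  have r1 : C.Rel i A (k * A * k⁻¹) := by
    show A⁻¹ * (k * A * k⁻¹) ∈ C.Kg i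
    rw [show A⁻¹ * (k * A * k⁻¹) = (A⁻¹ * k * A) * k⁻¹ by group]
    exact mul_mem hconj (inv_mem hk)
  refine Rel.trans' C r1 ?_
  have e : k * A * k⁻¹ = C.tr c' p ((σ k).1 y2) * C.tr (ev i) c' ((σ k).1 y1) := by
    have t1 := C.tr_conj k c p y2
    have t2 := C.tr_conj k (ev i) c y1
    rw [hkc, hkp] at t1
    rw [C.Kg_fix hk, hkc] at t2
    rw [← t1, ← t2]
    simp only [A]
    group
  rw [e]
  have q1 := C.tr_indep (one_mem _) h1' k1 e1 (by rw [map_one, one_apply])
  rw [mul_one, mul_one] at q1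
  exact Rel.trans' C (Rel.left C q1 _)
    (C.tr_indep (C.tr_mem h1' e1) h2' k2 e2 (C.tr_move h1' e1))

/-- two-step paths with a common end define the same coset -/
theorem path_indep [Finite E] {i i' : Fin m} (hi : i'.val = i.val + 1) {c c' p y1 y2 z1 z2 : MV m F}
    (h1 : Edge a b i.val (ev i) c) (h2 : Edge a b i.val c p) (d1 : Dual a b i.val (ev i) c y1)
    (d2 : Dual a b i.val c p y2) (h1' : Edge a b i.val (ev i) c') (h2' : Edge a b i.val c' p)
    (e1 : Dual a b i.val (ev i) c' z1) (e2 : Dual a b i.val c' p z2) :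
    C.Rel i (C.tr c p y2 * C.tr (ev i) c y1) (C.tr c' p z2 * C.tr (ev i) c' z1) := by
  have hA := mul_mem (C.tr_mem h2 d2) (C.tr_mem h1 d1)
  have hAp := C.path_fix h1 h2 d1 d2
  have hev : (ev i : MV m F) ∈ Uk m F i.val := ev_mem le_rfl
  by_cases hpv : polar (MQ m a b) (ev i) p = 0
  · by_cases hdep : ∃ l : F, p = l • ev i
    · obtain ⟨l, hl⟩ := hdep
      obtain ⟨x, hx, hxc⟩ := C.exists_Kg_to hi h1
      obtain ⟨x', hx', hxc'⟩ := C.exists_Kg_to hi h1'
      have hk : x' * x⁻¹ ∈ C.Kg i := mul_mem hx' (inv_mem hx)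
      exact C.path_moved h1 h2 d1 d2 h1' h2' e1 e2 hk
        (by rw [map_mul, mul_apply, ← hxc, C.inv_sigma, inv_apply_self, hxc'])
        (by rw [hl, map_smul, C.Kg_fix hk])
        (C.Kg_conj hA (by rw [hAp, hl]) hk)
    · push Not at hdep
      have h3 : Edge a b i.val (ev i) p := ⟨hev, h2.hq, Q_ev i, h2.qQ, hpv, h1.p0, hdep⟩
      obtain ⟨y, hy⟩ := edge_dual C.aniso h3
      exact Rel.trans' C (C.triangle hi h1 h2 h3 d1 d2 hy)
        (Rel.symm' C (C.triangle hi h1' h2' h3 e1 e2 hy))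
  · set β := polar (MQ m a b) (ev i) p
    have hp' : MQ m a b (β⁻¹ • p) = 0 := by rw [QuadraticMap.map_smul, h2.qQ, smul_zero]
    have hvp' : polar (MQ m a b) (ev i) (β⁻¹ • p) = 1 := by
      rw [polar_smul_right, smul_eq_mul, inv_mul_cancel₀ hpv]
    set Z := β⁻¹ • p - fv i
    have hZU : Z ∈ Uk m F i.val := sub_mem (Submodule.smul_mem _ _ h2.hq) (fv_mem le_rfl)
    have hZv : polar (MQ m a b) (ev i) Z = 0 := by
      rw [polar_sub_right, hvp', polar_ev_fv_self, sub_self]
    set x := C.X (ev i) Z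
    have hx : x ∈ C.Kg i := C.X_mem_Kg hev hZU (polar_ev_ev i i) (by rw [polar_comm]; exact hZv)
    have hxf : (σ x).1 (β • fv i) = p := by
      have hQZ : MQ m a b Z = -polar (MQ m a b) (β⁻¹ • p) (fv i) := by
        simp only [Z]
        rw [sub_eq_add_neg, QuadraticMap.map_add (MQ m a b), QuadraticMap.map_neg, hp', Q_fv,
          polar_neg_right]
        simp
      have hfZ : polar (MQ m a b) (fv i) Z = polar (MQ m a b) (β⁻¹ • p) (fv i) := by
        simp only [Z]
        rw [polar_sub_right, polar_fv_fv, sub_zero, polar_comm]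
      rw [map_smul, C.X_sigma, T_apply (Q_ev i) hZv, polar_fv_ev_self, hfZ, hQZ]
      simp [Z, smul_smul, mul_inv_cancel₀ hpv]
    have hxv := C.Kg_fix hx
    -- pull the middles back
    have key : ∀ {d : MV m F}, Edge a b i.val (ev i) d → Edge a b i.val d p →
        ((σ x)⁻¹).1 d ∈ Uk m F (i.val + 1) := by
      intro d f1 f2
      refine mem_Uk_succ (a := a) (b := b) ?_ ?_ ?_
      · rw [← C.inv_sigma]; exact C.Gam_preserve (inv_mem (C.Kg_le_Gam i hx)) f1.hq
      · rw [← orth_polar (σ x), self_apply_inv, hxv, polar_comm]; exact f1.pq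
      · have hh : polar (MQ m a b) (((σ x)⁻¹).1 d) (β • fv i) = 0 := by
          rw [← orth_polar (σ x), self_apply_inv, hxf]; exact f2.pq
        rw [polar_smul_right, smul_eq_mul] at hh
        exact (mul_eq_zero.1 hh).resolve_left hpv
    have n0 : ∀ {d : MV m F}, Edge a b i.val d p → ((σ x)⁻¹).1 d ≠ 0 := fun f => orth_ne_zero _ f.p0
    have q0 : ∀ {d : MV m F}, Edge a b i.val d p → MQ m a b (((σ x)⁻¹).1 d) = 0 := fun f => by
      rw [orth_Q, f.pQ]
    obtain ⟨u, hu, huc⟩ := C.exists_succ_to hi (key h1 h2) (n0 h2) (q0 h2)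
    obtain ⟨u', hu', huc'⟩ := C.exists_succ_to hi (key h1' h2') (n0 h2') (q0 h2')
    have hw : u' * u⁻¹ ∈ C.Gam (i.val + 1) := mul_mem hu' (inv_mem hu)
    have hwK := C.Gam_succ_le_Kg i hw
    have hwf : (σ (u' * u⁻¹)).1 (fv i) = fv i := C.Gam_fix hw fun z hz => by
      rw [polar_comm]; exact polar_fv_of_mem hz (Nat.lt_succ_self _)
    refine C.path_moved h1 h2 d1 d2 h1' h2' e1 e2 (k := x * (u' * u⁻¹) * x⁻¹)
      (mul_mem (mul_mem hx hwK) (inv_mem hx)) ?_ ?_ ?_
    · rw [map_mul, map_mul, map_mul, map_inv, map_inv, mul_apply, mul_apply, mul_apply]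
      conv_lhs => rw [← huc, inv_apply_self, huc', self_apply_inv]
    · rw [map_mul, map_mul, map_inv, mul_apply, mul_apply]
      conv_lhs => rw [← hxf, inv_apply_self, map_smul, hwf, hxf]
    · set A := C.tr c p y2 * C.tr (ev i) c y1
      rw [show A⁻¹ * (x * (u' * u⁻¹) * x⁻¹) * A = (x⁻¹ * A)⁻¹ * (u' * u⁻¹) * (x⁻¹ * A) by group]
      refine C.succ_conj (mul_mem (inv_mem (C.Kg_le_Gam i hx)) hA) (fun z hz => ?_) hw
      rw [map_mul, map_inv, mul_apply, hAp, ← hxf, inv_apply_self, polar_smul_right,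
        polar_fv_of_mem hz (Nat.lt_succ_self _), smul_zero]

/-- every vector is reached -/
theorem exists_reach {i i' : Fin m} (hi : i'.val = i.val + 1) {p : MV m F} (hp : p ∈ Uk m F i.val)
    (hp0 : p ≠ 0) (hpQ : MQ m a b p = 0) :
    ∃ c, Edge a b i.val (ev i) c ∧ Edge a b i.val c p := by
  have hev : (ev i : MV m F) ∈ Uk m F i.val := ev_mem le_rfl
  have hv0 : (ev i : MV m F) ≠ 0 := dv_ne_zero (Sum.inl i)
  have hi'U : (ev i' : MV m F) ∈ Uk m F i.val := ev_mem (by omega)
  have hne : i ≠ i' := fun e => by have := congrArg Fin.val e; omega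
  have hvi : ∀ c : F, (ev i' : MV m F) ≠ c • ev i := fun c e => by
    have := congrArg (fun z => polar (MQ m a b) z (fv i')) e
    simp [polar_smul_left, polar_ev_fv, hne.symm] at this
  have base : Edge a b i.val (ev i) (ev i') :=
    ⟨hev, hi'U, Q_ev i, Q_ev i', polar_ev_ev i i', hv0, hvi⟩
  by_cases hpv : polar (MQ m a b) (ev i) p = 0
  · by_cases hdep : ∃ l : F, p = l • ev i
    · obtain ⟨l, rfl⟩ := hdep
      have hl : l ≠ 0 := fun e => hp0 (by rw [e, zero_smul])
      refine ⟨ev i', base, hi'U, hp, Q_ev i', hpQ, by simp, dv_ne_zero (Sum.inl i'), fun c e => ?_⟩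
      exact base.symm.ind (l⁻¹ * c) (by rw [mul_smul, ← e, inv_smul_smul₀ hl])
    · push Not at hdep
      refine ⟨ev i + p, ⟨hev, add_mem hev hp, Q_ev i, ?_, ?_, hv0, fun c e => ?_⟩,
        ⟨add_mem hev hp, hp, ?_, hpQ, ?_, fun e => ?_, fun c e => ?_⟩⟩
      · rw [QuadraticMap.map_add (MQ m a b), Q_ev, hpQ, hpv]; simp
      · rw [polar_add_right, polar_ev_ev, hpv, add_zero]
      · exact hdep (c - 1) (by rw [sub_smul, one_smul, ← e, add_sub_cancel_left])
      · rw [QuadraticMap.map_add (MQ m a b), Q_ev, hpQ, hpv]; simp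
      · rw [polar_add_left, hpv, polar_singular_self hpQ, add_zero]
      · exact hdep (-1) (by rw [neg_one_smul]; exact eq_neg_of_add_eq_zero_right e)
      · by_cases hc : c = 1
        · rw [hc, one_smul, right_eq_add] at e; exact hv0 e
        · refine hdep (c / (1 - c)) ?_
          have h1c : (1 : F) - c ≠ 0 := sub_ne_zero.2 (Ne.symm hc)
          rw [smul_add] at e
          have : (1 - c) • p = c • ev i := by
            rw [sub_smul, one_smul]; nth_rewrite 1 [e]; abel
          rw [← inv_smul_smul₀ h1c p, this, smul_smul, mul_comm, div_eq_mul_inv]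
  · set β := polar (MQ m a b) (ev i) p
    set γ := polar (MQ m a b) (ev i') p / β
    refine ⟨ev i' - γ • ev i, ⟨hev, sub_mem hi'U (Submodule.smul_mem _ _ hev), Q_ev i, ?_, ?_, hv0,
      fun c e => ?_⟩, ⟨sub_mem hi'U (Submodule.smul_mem _ _ hev), hp, ?_, hpQ, ?_, fun e => ?_,
      fun c e => ?_⟩⟩
    · rw [sub_eq_add_neg, ← neg_smul, QuadraticMap.map_add (MQ m a b), QuadraticMap.map_smul,
        polar_smul_right, Q_ev, Q_ev, polar_ev_ev]
      simp
    · rw [polar_sub_right, polar_smul_right, polar_ev_ev, polar_ev_ev, smul_zero, sub_zero]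
    · exact hvi (c + γ) (by rw [add_smul, ← e]; abel)
    · rw [sub_eq_add_neg, ← neg_smul, QuadraticMap.map_add (MQ m a b), QuadraticMap.map_smul,
        polar_smul_right, Q_ev, Q_ev, polar_ev_ev]
      simp
    · rw [polar_sub_left, polar_smul_left, smul_eq_mul, div_mul_cancel₀ _ hpv, sub_self]
    · exact hvi γ (sub_eq_zero.1 e)
    · apply hpv
      show polar (MQ m a b) (ev i) p = 0
      rw [e, polar_smul_right, polar_sub_right, polar_smul_right, polar_ev_ev, polar_ev_ev]
      simp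

/-- one more step -/
theorem Reach.step [Finite E] {i i' : Fin m} (hi : i'.val = i.val + 1) {g : E}
    (h : C.Reach i g) {p q y : MV m F} (hgp : (σ g).1 (ev i) = p) (e : Edge a b i.val p q)
    (d : Dual a b i.val p q y) : C.Reach i (C.tr p q y * g) := by
  obtain ⟨c, p', y1, y2, h1, h2, d1, d2, hr⟩ := h
  have : p = p' := by rw [← hgp, Rel.fix C hr]; exact C.path_fix h1 h2 d1 d2
  subst this
  have hev : (ev i : MV m F) ∈ Uk m F i.val := ev_mem le_rfl
  have hv0 : (ev i : MV m F) ≠ 0 := dv_ne_zero (Sum.inl i)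
  -- replace the middle
  have via : ∀ {c' : MV m F}, Edge a b i.val (ev i) c' → Edge a b i.val c' p →
      ∀ {z1 z2 : MV m F}, Dual a b i.val (ev i) c' z1 → Dual a b i.val c' p z2 →
      C.Rel i (C.tr p q y * (C.tr c' p z2 * C.tr (ev i) c' z1)) (C.tr p q y * g) :=
    fun f1 f2 _ _ k1 k2 => Rel.left C (Rel.trans' C (C.path_indep hi f1 f2 k1 k2 h1 h2 d1 d2) hr) _
  have tri : ∀ {c' : MV m F}, Edge a b i.val (ev i) c' → Edge a b i.val c' p → Edge a b i.val c' q →
      C.Reach i (C.tr p q y * g) := by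
    intro c' f1 f2 f3
    obtain ⟨z1, k1⟩ := edge_dual C.aniso f1
    obtain ⟨z2, k2⟩ := edge_dual C.aniso f2
    obtain ⟨z3, k3⟩ := edge_dual C.aniso f3
    refine ⟨c', q, z1, z3, f1, f3, k1, k3, Rel.trans' C (Rel.symm' C ?_) (via f1 f2 k1 k2)⟩
    rw [← mul_assoc]
    exact C.triangle_at hi (C.tr_mem f1 k1) (C.tr_move f1 k1) f2 e f3 k2 d k3
  by_cases hvp : polar (MQ m a b) (ev i) p = 0
  · by_cases hdep : ∃ l : F, p = l • ev i
    · obtain ⟨l, hl⟩ := hdep
      have hl0 : l ≠ 0 := fun e0 => e.p0 (by rw [hl, e0, zero_smul])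
      have hqv : polar (MQ m a b) (ev i) q = 0 := by
        have := e.pq
        rw [hl, polar_smul_left, smul_eq_mul] at this
        exact (mul_eq_zero.1 this).resolve_left hl0
      have hqd : ∀ x : F, q ≠ x • ev i := fun x ex => e.ind (x * l⁻¹) (by
        rw [hl, smul_smul, mul_assoc, inv_mul_cancel₀ hl0, mul_one, ex])
      refine tri (c' := ev i + q) ⟨hev, add_mem hev e.hq, Q_ev i, ?_, ?_, hv0, fun x ex => ?_⟩
        ⟨add_mem hev e.hq, e.hp, ?_, e.pQ, ?_, fun ex => ?_, fun x ex => ?_⟩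
        ⟨add_mem hev e.hq, e.hq, ?_, e.qQ, ?_, fun ex => ?_, fun x ex => ?_⟩
      · rw [QuadraticMap.map_add (MQ m a b), Q_ev, e.qQ, hqv]; simp
      · rw [polar_add_right, polar_ev_ev, hqv, add_zero]
      · exact hqd (x - 1) (by rw [sub_smul, one_smul, ← ex, add_sub_cancel_left])
      · rw [QuadraticMap.map_add (MQ m a b), Q_ev, e.qQ, hqv]; simp
      · rw [hl, polar_smul_right, polar_add_left, polar_ev_ev, polar_comm, hqv, add_zero, smul_zero]
      · exact hqd (-1) (by rw [neg_one_smul]; exact eq_neg_of_add_eq_zero_right ex)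
      · rw [hl, smul_add] at ex
        by_cases hx : x = 0
        · exact hl0 (by simpa [hx, hv0] using ex)
        · refine hqd ((l - x) / x) ?_
          have : x • q = (l - x) • ev i := by rw [sub_smul, ex]; abel
          rw [← inv_smul_smul₀ hx q, this, smul_smul, mul_comm, div_eq_mul_inv]
      · rw [QuadraticMap.map_add (MQ m a b), Q_ev, e.qQ, hqv]; simp
      · rw [polar_add_left, hqv, polar_singular_self e.qQ, add_zero]
      · exact hqd (-1) (by rw [neg_one_smul]; exact eq_neg_of_add_eq_zero_right ex)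
      · by_cases hx : x = 1
        · rw [hx, one_smul, right_eq_add] at ex; exact hv0 ex
        · refine hqd (x / (1 - x)) ?_
          have h1x : (1 : F) - x ≠ 0 := sub_ne_zero.2 (Ne.symm hx)
          rw [smul_add] at ex
          have : (1 - x) • q = x • ev i := by
            rw [sub_smul, one_smul]; nth_rewrite 1 [ex]; abel
          rw [← inv_smul_smul₀ h1x q, this, smul_smul, mul_comm, div_eq_mul_inv]
    · push Not at hdep
      have f : Edge a b i.val (ev i) p := ⟨hev, e.hp, Q_ev i, e.pQ, hvp, hv0, hdep⟩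
      obtain ⟨z, k⟩ := edge_dual C.aniso f
      exact ⟨p, q, z, y, f, e, k, d,
        Rel.left C (Rel.trans' C (Rel.symm' C (C.triangle hi h1 h2 f d1 d2 k)) hr) _⟩
  · by_cases hvq : polar (MQ m a b) (ev i) q = 0
    · have hqd : ∀ x : F, q ≠ x • ev i := fun x ex => hvp (by
        have hx : x ≠ 0 := fun e0 => e.q0 (by rw [ex, e0, zero_smul])
        have := e.pq
        rw [ex, polar_smul_right, smul_eq_mul] at this
        rw [polar_comm]
        exact (mul_eq_zero.1 this).resolve_left hx)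
      have f : Edge a b i.val (ev i) q := ⟨hev, e.hq, Q_ev i, e.qQ, hvq, hv0, hqd⟩
      obtain ⟨z, k⟩ := edge_dual C.aniso f
      have hback := via f e.symm k d.symm
      rw [← mul_assoc, C.tr_symm e d, mul_inv_cancel, one_mul] at hback
      have f1 : Edge a b i.val (ev i) (ev i + q) := ⟨hev, add_mem hev e.hq, Q_ev i,
        by rw [QuadraticMap.map_add (MQ m a b), Q_ev, e.qQ, hvq]; simp,
        by rw [polar_add_right, polar_ev_ev, hvq, add_zero], hv0, fun x ex =>
          hqd (x - 1) (by rw [sub_smul, one_smul, ← ex, add_sub_cancel_left])⟩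
      have f2 : Edge a b i.val (ev i + q) q := ⟨f1.hq, e.hq, f1.qQ, e.qQ,
        by rw [polar_add_left, hvq, polar_singular_self e.qQ, add_zero], f1.q0, fun x ex => by
          by_cases hx : x = 1
          · rw [hx, one_smul, right_eq_add] at ex; exact hv0 ex
          · refine hqd (x / (1 - x)) ?_
            have h1x : (1 : F) - x ≠ 0 := sub_ne_zero.2 (Ne.symm hx)
            rw [smul_add] at ex
            have : (1 - x) • q = x • ev i := by
              rw [sub_smul, one_smul]; nth_rewrite 1 [ex]; abel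
            rw [← inv_smul_smul₀ h1x q, this, smul_smul, mul_comm, div_eq_mul_inv]⟩
      obtain ⟨w1, g1⟩ := edge_dual C.aniso f1
      obtain ⟨w2, g2⟩ := edge_dual C.aniso f2
      exact ⟨_, q, w1, w2, f1, f2, g1, g2, Rel.trans' C (C.triangle hi f1 f2 f g1 g2 k) hback⟩
    · set B := polar (MQ m a b) (ev i) p with hB
      set B' := polar (MQ m a b) (ev i) q with hB'
      set c' := B' • p - B • q with hc'
      have hU : c' ∈ Uk m F i.val :=
        sub_mem (Submodule.smul_mem _ _ e.hp) (Submodule.smul_mem _ _ e.hq)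
      have hQ : MQ m a b c' = 0 := by
        rw [hc', sub_eq_add_neg, ← neg_smul, QuadraticMap.map_add (MQ m a b), QuadraticMap.map_smul,
          QuadraticMap.map_smul, polar_smul_left, polar_smul_right, e.pQ, e.qQ, e.pq]
        simp
      have hcp : polar (MQ m a b) c' p = 0 := by
        rw [hc', polar_sub_left, polar_smul_left, polar_smul_left, polar_singular_self e.pQ,
          polar_comm (MQ m a b) q, e.pq]
        simp
      have hcq : polar (MQ m a b) c' q = 0 := by
        rw [hc', polar_sub_left, polar_smul_left, polar_smul_left, polar_singular_self e.qQ, e.pq]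
        simp
      have hvc : polar (MQ m a b) (ev i) c' = 0 := by
        rw [hc', polar_sub_right, polar_smul_right, polar_smul_right, ← hB, ← hB', smul_eq_mul,
          smul_eq_mul, mul_comm, sub_self]
      have hnp : ∀ x : F, c' ≠ x • p := fun x ex => e.ind ((B' - x) / B) (by
        have : B • q = (B' - x) • p := by
          rw [sub_smul, ← ex, hc']; abel
        rw [← inv_smul_smul₀ hvp q, this, smul_smul, mul_comm, div_eq_mul_inv])
      have hnq : ∀ x : F, c' ≠ x • q := fun x ex => e.symm.ind ((B + x) / B') (by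
        have : B' • p = (B + x) • q := by
          rw [add_smul, ← ex, hc']; abel
        rw [← inv_smul_smul₀ hvq p, this, smul_smul, mul_comm, div_eq_mul_inv])
      have hc0 : c' ≠ 0 := fun e0 => hnp 0 (by rw [e0, zero_smul])
      refine tri (c' := c') ⟨hev, hU, Q_ev i, hQ, hvc, hv0, fun x ex => ?_⟩
        (Edge.symm ⟨e.hp, hU, e.pQ, hQ, by rw [polar_comm]; exact hcp, e.p0, hnp⟩)
        (Edge.symm ⟨e.hq, hU, e.qQ, hQ, by rw [polar_comm]; exact hcq, e.q0, hnq⟩)
      have hx : x ≠ 0 := fun e0 => hc0 (by rw [ex, e0, zero_smul])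
      rw [ex, polar_smul_left, smul_eq_mul] at hcp
      exact hvp ((mul_eq_zero.1 hcp).resolve_left hx)

theorem Reach.mem {i : Fin m} {g : E} (h : C.Reach i g) : g ∈ C.Gam i.val := by
  obtain ⟨c, p, y1, y2, h1, h2, d1, d2, hr⟩ := h
  have := mul_mem (mul_mem (C.tr_mem h2 d2) (C.tr_mem h1 d1))
    (C.Kg_le_Gam i (show (C.tr c p y2 * C.tr (ev i) c y1)⁻¹ * g ∈ C.Kg i from hr))
  rwa [mul_inv_cancel_left] at this

theorem Reach.congr {i : Fin m} {g g' : E} (h : C.Reach i g) (h' : C.Rel i g g') : C.Reach i g' := by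
  obtain ⟨c, p, y1, y2, h1, h2, d1, d2, hr⟩ := h
  exact ⟨c, p, y1, y2, h1, h2, d1, d2, Rel.trans' C hr h'⟩

theorem Reach.gen [Finite E] {i i' : Fin m} (hi : i'.val = i.val + 1) {g : E} (hg : C.Reach i g)
    {x : E} (hx : x ∈ C.gamSet i.val) : C.Reach i (x * g) := by
  obtain ⟨u, hu, w, hw, rfl⟩ := hx
  by_cases hval : MQ m a b u = 0 ∧ polar (MQ m a b) u w = 0 ∧ u ≠ 0
  swap
  · rwa [X, dif_neg hval, one_mul]
  obtain ⟨huQ, huw, hu0⟩ := hval
  obtain ⟨d, g1, g2⟩ := C.exists_reach hi hu hu0 huQ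
  obtain ⟨z1, k1⟩ := edge_dual C.aniso g1
  obtain ⟨z2, k2⟩ := edge_dual C.aniso g2
  obtain ⟨c, p, y1, y2, h1, h2, d1, d2, hr⟩ := hg
  set x := C.X u w
  have hx : x ∈ C.Gam i.val := C.X_mem_Gam hu hw
  set A := C.tr c p y2 * C.tr (ev i) c y1
  set B := C.tr d u z2 * C.tr (ev i) d z1
  refine Reach.congr C ?_ (Rel.left C hr x)
  have hB : C.Reach i (x * B) := by
    refine Reach.congr C ⟨d, u, z1, z2, g1, g2, k1, k2, Rel.refl' C i B⟩ ?_
    show B⁻¹ * (x * B) ∈ C.Kg i
    rw [← mul_assoc]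
    refine C.conj_mem_Kg (mul_mem (C.tr_mem g2 k2) (C.tr_mem g1 k1)) hu hw ?_ ?_
    · rw [C.path_fix g1 g2 k1 k2, polar_singular_self huQ]
    · rw [C.path_fix g1 g2 k1 k2, polar_comm]; exact huw
  have move : ∀ {h : E}, C.Reach i (x * h) → ∀ {s t z : MV m F}, (σ h).1 (ev i) = s →
      Edge a b i.val s t → Dual a b i.val s t z → C.Reach i (x * (C.tr s t z * h)) := by
    intro h hh s t z hs hst hz
    have := Reach.step C hi hh (p := (σ x).1 s) (q := (σ x).1 t) (y := (σ x).1 z)
      (by rw [map_mul, mul_apply, hs]) (C.edge_map hx hst) (C.dual_map hx hz)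
    rwa [← C.tr_conj, show x * C.tr s t z * x⁻¹ * (x * h) = x * (C.tr s t z * h) by group] at this
  have s1 := move hB (C.path_fix g1 g2 k1 k2) g2.symm k2.symm
  rw [C.tr_symm g2 k2, inv_mul_cancel_left] at s1
  have s2 := move s1 (C.tr_move g1 k1) g1.symm k1.symm
  rw [C.tr_symm g1 k1, inv_mul_cancel] at s2
  have s3 := move s2 (by rw [map_one, one_apply]) h1 d1
  rw [mul_one] at s3
  exact move s3 (C.tr_move h1 d1) h2 d2

theorem Reach.one [Finite E] {i i' : Fin m} (hi : i'.val = i.val + 1) : C.Reach i 1 := by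
  have hne : i ≠ i' := fun e => by have := congrArg Fin.val e; omega
  have h1 : Edge a b i.val (ev i) (ev i') := ⟨ev_mem le_rfl, ev_mem (by omega), Q_ev i, Q_ev i',
    polar_ev_ev i i', dv_ne_zero (Sum.inl i), fun c e => by
      have := congrArg (fun z => polar (MQ m a b) z (fv i')) e
      simp [polar_smul_left, polar_ev_fv, hne.symm] at this⟩
  obtain ⟨y, d⟩ := edge_dual C.aniso h1
  refine ⟨_, _, y, y, h1, h1.symm, d, d.symm, ?_⟩
  rw [C.tr_symm h1 d, inv_mul_cancel]
  exact Rel.refl' C i 1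

/-- the lifted stabiliser of the first vector of a level -/
theorem stab_Gam [Finite E] {i i' : Fin m} (hi : i'.val = i.val + 1) {g : E} (hg : g ∈ C.Gam i.val)
    (hgv : (σ g).1 (ev i) = ev i) : g ∈ C.Kg i := by
  have key : ∀ h, C.Reach i h → C.Reach i (g * h) := by
    clear hgv
    induction hg using Subgroup.closure_induction'' with
    | mem x hx => exact fun h hh => Reach.gen C hi hh hx
    | inv_mem x hx => exact fun h hh => Reach.gen C hi hh (C.X_inv_mem x hx)
    | one => exact fun h hh => by rwa [one_mul]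
    | mul x y _ _ hx hy => exact fun h hh => by rw [mul_assoc]; exact hx _ (hy _ hh)
  have hg' := key 1 (Reach.one C hi)
  rw [mul_one] at hg'
  obtain ⟨c, p, y1, y2, h1, h2, d1, d2, hr⟩ := hg'
  obtain ⟨c', p', z1, z2, f1, f2, e1, e2, hr'⟩ := Reach.one C hi
  have hp : p = ev i := by rw [← hgv, Rel.fix C hr]; exact (C.path_fix h1 h2 d1 d2).symm
  have hp' : p' = ev i := by
    have := Rel.fix C hr'
    rw [map_one, one_apply, C.path_fix f1 f2 e1 e2] at this
    exact this.symm
  subst hp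
  subst hp'
  have h := Rel.trans' C (Rel.symm' C hr') (Rel.trans' C (C.path_indep hi f1 f2 e1 e2 h1 h2 d1 d2) hr)
  have h' : (1 : E)⁻¹ * g ∈ C.Kg i := h
  rwa [inv_one, one_mul] at h'

/-- central elements descend by one level -/
theorem ker_descend [Finite E] {i i' : Fin m} (hi : i'.val = i.val + 1) {g : E}
    (hg : g ∈ C.Gam i.val) (h1 : σ g = 1) : g ∈ C.Gam (i.val + 1) :=
  C.Kg_ker i (C.stab_Gam hi hg (by rw [h1, one_apply])) h1

end CExt

end CfsgLib.SpinMinus
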