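import Cfsg.Agent.Lib.SpinMinus.Lifts

/-!
The groups of lifted root elements of one level and the lifted stabiliser of a vector.
-/

set_option autoImplicit false
set_option linter.unusedSectionVars false

namespace CfsgLib.SpinMinus

open QuadraticMap CfsgLib.Classical.Quad
open scoped commutatorElement

variable {F : Type*} [Field F] [Fintype F] {a b : F} {m : ℕ}

/-- forget the coordinates below a level -/
def cut (k : ℕ) (x : MV m F) : MV m F :=
  ((fun i => if i.val < k then 0 else x.1.1 i, fun i => if i.val < k then 0 else x.1.2 i), x.2)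

theorem cut_mem (k : ℕ) (x : MV m F) : cut k x ∈ Uk m F k := fun i hi => by simp [cut, hi]

theorem polar_cut {k : ℕ} {y : MV m F} (hy : y ∈ Uk m F k) (x : MV m F) :
    polar (MQ m a b) y (cut k x) = polar (MQ m a b) y x := by
  simp only [polar_hypForm, cut]
  congr 1
  refine Finset.sum_congr rfl fun i _ => ?_
  by_cases hi : i.val < k
  · simp [(hy i hi).1, (hy i hi).2]
  · simp [hi]

theorem exists_dual_one (hab : IsAniso a b) {k : ℕ} {u : MV m F} (hu : u ∈ Uk m F k) (hu0 : u ≠ 0) :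
    ∃ y ∈ Uk m F k, polar (MQ m a b) u y = 1 := by
  obtain ⟨x, hx⟩ := exists_polar_one (ndPolar hab) hu0
  exact ⟨cut k x, cut_mem k x, by rw [polar_cut hu, hx]⟩

variable {E : Type*} [Group E] {σ : E →* Orth (MQ m a b)}

namespace CExt

variable (C : CExt σ)
include C

/-- the lifted root elements inside a level -/
def gamSet (k : ℕ) : Set E := {g | ∃ u ∈ Uk m F k, ∃ w ∈ Uk m F k, g = C.X u w}

/-- the group of a level -/
def Gam (k : ℕ) : Subgroup E := Subgroup.closure (C.gamSet k)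

/-- the lifted stabiliser of the first vector of a level -/
def Kg (i : Fin m) : Subgroup E :=
  Subgroup.closure {g | ∃ u ∈ Uk m F i.val, ∃ w ∈ Uk m F i.val, polar (MQ m a b) u (ev i) = 0 ∧
    polar (MQ m a b) w (ev i) = 0 ∧ g = C.X u w}

theorem X_mem_Gam {k : ℕ} {u w : MV m F} (hu : u ∈ Uk m F k) (hw : w ∈ Uk m F k) :
    C.X u w ∈ C.Gam k := Subgroup.subset_closure ⟨u, hu, w, hw, rfl⟩

theorem X_mem_Kg {i : Fin m} {u w : MV m F} (hu : u ∈ Uk m F i.val) (hw : w ∈ Uk m F i.val)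
    (h1 : polar (MQ m a b) u (ev i) = 0) (h2 : polar (MQ m a b) w (ev i) = 0) :
    C.X u w ∈ C.Kg i := Subgroup.subset_closure ⟨u, hu, w, hw, h1, h2, rfl⟩

theorem Kg_le_Gam (i : Fin m) : C.Kg i ≤ C.Gam i.val :=
  Subgroup.closure_mono fun _ ⟨u, hu, w, hw, _, _, e⟩ => ⟨u, hu, w, hw, e⟩

theorem Gam_anti {k l : ℕ} (h : k ≤ l) : C.Gam l ≤ C.Gam k :=
  Subgroup.closure_mono fun _ ⟨u, hu, w, hw, e⟩ => ⟨u, Uk_mono h hu, w, Uk_mono h hw, e⟩

theorem Gam_succ_le_Kg (i : Fin m) : C.Gam (i.val + 1) ≤ C.Kg i :=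
  Subgroup.closure_mono fun _ ⟨u, hu, w, hw, e⟩ =>
    ⟨u, Uk_mono (Nat.le_succ _) hu, w, Uk_mono (Nat.le_succ _) hw,
      polar_ev_of_mem hu (Nat.lt_succ_self _), polar_ev_of_mem hw (Nat.lt_succ_self _), e⟩

theorem X_inv_mem {k : ℕ} : ∀ g ∈ C.gamSet k, g⁻¹ ∈ C.gamSet k := by
  rintro g ⟨u, hu, w, hw, rfl⟩
  by_cases h : polar (MQ m a b) u w = 0
  · exact ⟨u, hu, -w, neg_mem hw, (C.X_neg h).symm⟩
  · refine ⟨u, hu, w, hw, ?_⟩
    rw [X, dif_neg (by tauto), inv_one]

/-- an element of a level fixes the vectors orthogonal to it -/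
theorem Gam_fix {k : ℕ} {g : E} (hg : g ∈ C.Gam k) {x : MV m F}
    (hx : ∀ y ∈ Uk m F k, polar (MQ m a b) x y = 0) : (σ g).1 x = x := by
  induction hg using Subgroup.closure_induction with
  | mem z hz =>
    obtain ⟨u, hu, w, hw, rfl⟩ := hz
    rw [C.X_sigma]
    by_cases h : MQ m a b u = 0 ∧ polar (MQ m a b) u w = 0
    · exact T_fix h.1 h.2 (hx u hu) (hx w hw)
    · rw [T, dif_neg h, one_apply]
  | one => simp
  | mul y z _ _ hy hz => rw [map_mul, mul_apply, hz, hy]
  | inv y _ hy =>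
    rw [map_inv]
    conv_lhs => rw [← hy]
    exact inv_apply_self _ _

theorem Gam_preserve {k : ℕ} {g : E} (hg : g ∈ C.Gam k) {x : MV m F} (hx : x ∈ Uk m F k) :
    (σ g).1 x ∈ Uk m F k := by
  refine apply_mem_Uk (fun i hi => ⟨?_, ?_⟩) hx
  · exact C.Gam_fix hg fun y hy => by rw [polar_comm]; exact polar_ev_of_mem hy hi
  · exact C.Gam_fix hg fun y hy => by rw [polar_comm]; exact polar_fv_of_mem hy hi

theorem Kg_fix {i : Fin m} {g : E} (hg : g ∈ C.Kg i) : (σ g).1 (ev i) = ev i := by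
  induction hg using Subgroup.closure_induction with
  | mem z hz =>
    obtain ⟨u, hu, w, hw, h1, h2, rfl⟩ := hz
    rw [C.X_sigma]
    by_cases h : MQ m a b u = 0 ∧ polar (MQ m a b) u w = 0
    · exact T_fix h.1 h.2 (by rw [polar_comm]; exact h1) (by rw [polar_comm]; exact h2)
    · rw [T, dif_neg h, one_apply]
  | one => simp
  | mul y z _ _ hy hz => rw [map_mul, mul_apply, hz, hy]
  | inv y _ hy =>
    rw [map_inv]
    conv_lhs => rw [← hy]
    exact inv_apply_self _ _

theorem inv_sigma {g : E} (x : MV m F) : (σ g⁻¹).1 x = ((σ g)⁻¹).1 x := by rw [map_inv]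

/-- conjugating an element orthogonal to the image of the base vector -/
theorem conj_mem_Kg {i : Fin m} {g : E} (hg : g ∈ C.Gam i.val) {u w : MV m F}
    (hu : u ∈ Uk m F i.val) (hw : w ∈ Uk m F i.val)
    (h1 : polar (MQ m a b) u ((σ g).1 (ev i)) = 0) (h2 : polar (MQ m a b) w ((σ g).1 (ev i)) = 0) :
    g⁻¹ * C.X u w * g ∈ C.Kg i := by
  have h := C.X_conj g⁻¹ u w
  rw [inv_inv] at h
  rw [h]
  refine C.X_mem_Kg (C.Gam_preserve (inv_mem hg) hu) (C.Gam_preserve (inv_mem hg) hw) ?_ ?_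
  · rw [← orth_polar (σ g), C.inv_sigma, self_apply_inv]; exact h1
  · rw [← orth_polar (σ g), C.inv_sigma, self_apply_inv]; exact h2

/-- the root group at the base vector of a level, times the next level, contains the stabiliser -/
theorem Kg_form (i : Fin m) {g : E} (hg : g ∈ C.Kg i) :
    ∃ y ∈ Uk m F i.val, polar (MQ m a b) (ev i) y = 0 ∧
      ∃ h ∈ C.Gam (i.val + 1), g = C.X (ev i) y * h := by
  set k := i.val
  have hev : (ev i : MV m F) ∈ Uk m F k := ev_mem le_rfl
  let N : Subgroup E :=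
    { carrier := {g | ∃ y ∈ Uk m F k, polar (MQ m a b) (ev i) y = 0 ∧
        ∃ h ∈ C.Gam (k + 1), g = C.X (ev i) y * h}
      one_mem' := ⟨0, zero_mem _, by simp, 1, one_mem _, by rw [C.X_zero_right, one_mul]⟩
      mul_mem' := by
        rintro x x' ⟨y, hy, hyv, h, hh, rfl⟩ ⟨y', hy', hyv', h', hh', rfl⟩
        have hv : (σ h).1 (ev i) = ev i := C.Kg_fix (C.Gam_succ_le_Kg i hh)
        have hc := C.X_conj h (ev i) y'
        rw [hv] at hc
        have hyh : polar (MQ m a b) (ev i) ((σ h).1 y') = 0 := by rw [← hv, orth_polar]; exact hyv'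
        refine ⟨y + (σ h).1 y', add_mem hy (C.Gam_preserve (C.Gam_anti (Nat.le_succ k) hh) hy'),
          by rw [polar_add_right, hyv, hyh, add_zero], h * h', mul_mem hh hh', ?_⟩
        rw [C.X_add hyv hyh, ← hc]
        group
      inv_mem' := by
        rintro x ⟨y, hy, hyv, h, hh, rfl⟩
        have hv : (σ h⁻¹).1 (ev i) = ev i := C.Kg_fix (C.Gam_succ_le_Kg i (inv_mem hh))
        have hc := C.X_conj h⁻¹ (ev i) (-y)
        rw [hv, C.X_neg hyv] at hc
        refine ⟨(σ h⁻¹).1 (-y), C.Gam_preserve (C.Gam_anti (Nat.le_succ k) (inv_mem hh)) (neg_mem hy),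
          ?_, h⁻¹, inv_mem hh, ?_⟩
        · rw [← hv, orth_polar, polar_neg_right, hyv, neg_zero]
        · rw [← hc]; group }
  suffices C.Kg i ≤ N from this hg
  have hG : C.Gam (k + 1) ≤ N := fun h hh =>
    ⟨0, zero_mem _, by simp, h, hh, by rw [C.X_zero_right, one_mul]⟩
  have hX : ∀ y ∈ Uk m F k, polar (MQ m a b) (ev i) y = 0 → C.X (ev i) y ∈ N := fun y hy hyv =>
    ⟨y, hy, hyv, 1, one_mem _, by rw [mul_one]⟩
  refine (Subgroup.closure_le _).2 ?_
  rintro x ⟨u, hu, w, hw, hu1, hw1, rfl⟩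
  by_cases hval : MQ m a b u = 0 ∧ polar (MQ m a b) u w = 0 ∧ u ≠ 0
  swap
  · rw [X, dif_neg hval]; exact one_mem N
  obtain ⟨huQ, huw, hu0⟩ := hval
  set α := polar (MQ m a b) u (fv i)
  set u' := u - α • ev i
  have hsplit : u = u' + α • ev i := (sub_add_cancel _ _).symm
  have hu'U : u' ∈ Uk m F (k + 1) := by
    refine mem_Uk_succ (a := a) (b := b) (sub_mem hu (Submodule.smul_mem _ _ hev)) ?_ ?_
    · rw [polar_sub_left, polar_smul_left, hu1, polar_ev_ev, smul_zero, sub_zero]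
    · rw [polar_sub_left, polar_smul_left, polar_ev_fv_self, smul_eq_mul, mul_one, sub_self]
  by_cases hu'0 : u' = 0
  · rw [hsplit, hu'0, zero_add]
    rw [hsplit, hu'0, zero_add] at huw
    by_cases hα : α = 0
    · exact absurd (by rw [hsplit, hu'0, hα, zero_smul, add_zero]) hu0
    rw [polar_smul_left, smul_eq_mul] at huw
    have hvw : polar (MQ m a b) (ev i) w = 0 := (mul_eq_zero.1 huw).resolve_left hα
    rw [C.X_smul α (Q_ev i) hvw]
    exact hX _ (Submodule.smul_mem _ _ hw) (by rw [polar_smul_right, hvw, smul_zero])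
  have hu'Q : MQ m a b u' = 0 := by
    rw [show u' = u + (-α) • ev i by rw [neg_smul, ← sub_eq_add_neg],
      QuadraticMap.map_add (MQ m a b), huQ, QuadraticMap.map_smul, Q_ev, polar_smul_right, hu1]
    simp
  obtain ⟨z, hz, hzp⟩ := exists_dual_one C.aniso hu'U hu'0
  have hzv : polar (MQ m a b) (ev i) ((-α) • z) = 0 := by
    rw [polar_smul_right, polar_comm, polar_ev_of_mem hz (Nat.lt_succ_self _), smul_zero]
  set p := C.X (ev i) ((-α) • z)
  have hp : p ∈ N := hX _ (Submodule.smul_mem _ _ (Uk_mono (Nat.le_succ _) hz)) hzv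
  have hpu : (σ p).1 u' = u := by
    rw [C.X_sigma, T_apply (Q_ev i) hzv, polar_ev_of_mem hu'U (Nat.lt_succ_self _), polar_smul_right,
      hzp, hsplit]
    simp only [smul_eq_mul, mul_one, neg_neg, zero_smul, add_zero, mul_zero, sub_zero]
  set w₀ := ((σ p)⁻¹).1 w
  have hfix : (σ p).1 (ev i) = ev i := by
    rw [C.X_sigma]; exact T_fix (Q_ev i) hzv (polar_ev_ev i i) hzv
  have hw₀v : polar (MQ m a b) w₀ (ev i) = 0 := by
    rw [← orth_polar (σ p), self_apply_inv, hfix]; exact hw1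
  have hw₀u : polar (MQ m a b) u' w₀ = 0 := by
    rw [← orth_polar (σ p), self_apply_inv, hpu]; exact huw
  have hpG : p ∈ C.Gam k := C.X_mem_Gam hev (Submodule.smul_mem _ _ (Uk_mono (Nat.le_succ _) hz))
  have hw₀U : w₀ ∈ Uk m F k := by
    have := C.Gam_preserve (inv_mem hpG) hw
    rwa [map_inv] at this
  set β := polar (MQ m a b) w₀ (fv i)
  set w' := w₀ - β • ev i
  have hw'U : w' ∈ Uk m F (k + 1) := by
    refine mem_Uk_succ (a := a) (b := b) (sub_mem hw₀U (Submodule.smul_mem _ _ hev)) ?_ ?_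
    · rw [polar_sub_left, polar_smul_left, hw₀v, polar_ev_ev, smul_zero, sub_zero]
    · rw [polar_sub_left, polar_smul_left, polar_ev_fv_self, smul_eq_mul, mul_one, sub_self]
  have hu'v : polar (MQ m a b) u' (ev i) = 0 := polar_ev_of_mem hu'U (Nat.lt_succ_self _)
  have hu'e : polar (MQ m a b) u' (β • ev i) = 0 := by rw [polar_smul_right, hu'v, smul_zero]
  have hu'w : polar (MQ m a b) u' w' = 0 := by
    rw [polar_sub_right, hw₀u, hu'e, sub_zero]
  have key : C.X u w = p * C.X u' w₀ * p⁻¹ := by rw [C.X_conj, hpu, self_apply_inv]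
  rw [key]
  refine mul_mem (mul_mem hp ?_) (inv_mem hp)
  rw [show w₀ = w' + β • ev i from (sub_add_cancel _ _).symm, C.X_add hu'w hu'e]
  refine mul_mem (hG (C.X_mem_Gam hu'U hw'U)) ?_
  rw [C.X_swap hu'Q (by simp [QuadraticMap.map_smul]) hu'e,
    C.X_smul β (Q_ev i) (by rw [polar_neg_right, polar_comm, hu'v, neg_zero])]
  exact hX _ (Submodule.smul_mem _ _ (neg_mem (Uk_mono (Nat.le_succ _) hu'U)))
    (by rw [polar_smul_right, polar_neg_right, polar_comm, hu'v, neg_zero, smul_zero])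

/-- central elements of the stabiliser lie in the next level -/
theorem Kg_ker (i : Fin m) {g : E} (hg : g ∈ C.Kg i) (h1 : σ g = 1) : g ∈ C.Gam (i.val + 1) := by
  obtain ⟨y, hy, hyv, h, hh, rfl⟩ := C.Kg_form i hg
  have hf : (σ h).1 (fv i) = fv i := C.Gam_fix hh fun z hz => by
    rw [polar_comm]; exact polar_fv_of_mem hz (Nat.lt_succ_self _)
  have h2 : (σ (C.X (ev i) y * h)).1 (fv i) = fv i := by rw [h1, one_apply]
  rw [map_mul, mul_apply, hf, C.X_sigma, T_apply (Q_ev i) hyv, polar_fv_ev_self, one_smul,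
    add_assoc, add_eq_left] at h2
  rw [eq_neg_of_add_eq_zero_left h2, ← neg_smul, C.X_smul_self, one_mul]
  exact hh

end CExt

end CfsgLib.SpinMinus
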