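import Cfsg.Agent.Lib.SpinMinus.Phi

/-!
Equivariant lifts of all root elements.
-/

set_option autoImplicit false
set_option linter.unusedSectionVars false

namespace CfsgLib.SpinMinus

open QuadraticMap CfsgLib.Classical.Quad
open scoped commutatorElement

variable {F : Type*} [Field F] [Fintype F] {a b : F} {m : ℕ}

attribute [local instance] Classical.propDecidable

theorem hEl_diag (hab : IsAniso a b) (i : Fin m) {w w' : Fin 2 → F} (hw : w ≠ 0) (hw' : w' ≠ 0)
    (j : Fin m ⊕ Fin m) : ∃ d : F, (hEl a b i w w').1 (dv j) = d • dv j := by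
  obtain ⟨h1, h2, h3⟩ := hEl_spec hab i hw hw'
  by_cases hj : j = Sum.inl i
  · subst hj; exact ⟨_, h1⟩
  by_cases hj' : j = Sum.inr i
  · subst hj'; exact ⟨_, h2⟩
  refine ⟨1, ?_⟩
  rw [one_smul, h3 _ ?_ ?_, mul_apply, refl_fix (polar_dv_wv j _), refl_fix (polar_dv_wv j _)]
  · show polar (MQ m a b) (dv j) (dv (Sum.inl i)) = 0
    rw [polar_dv, if_neg]
    intro e
    exact hj' (by rw [← jbar_jbar j, ← e]; rfl)
  · show polar (MQ m a b) (dv j) (dv (Sum.inr i)) = 0
    rw [polar_dv, if_neg]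
    intro e
    exact hj (by rw [← jbar_jbar j, ← e]; rfl)

/-- a torus element scaling one vector and fixing the plane -/
theorem exists_scale_fix (hab : IsAniso a b) {i i' : Fin m} (hne : i ≠ i') {c : F} (hc : c ≠ 0) :
    ∃ g : Orth (MQ m a b), g ∈ siegelGroup (MQ m a b) ∧ g.1 (ev i) = c • ev i ∧
      (∀ w, g.1 (wv w) = wv w) ∧ ∀ j, ∃ d : F, d ≠ 0 ∧ g.1 (dv j) = d • dv j := by
  obtain ⟨w, hw⟩ := exists_binForm_eq hab c
  have hw0 : w ≠ 0 := by rintro rfl; rw [QuadraticMap.map_zero] at hw; exact hc hw.symm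
  have h1 : (![1, 0] : Fin 2 → F) ≠ 0 := by simp
  set g0 := hEl a b i w ![1, 0]
  set g1 := hEl a b i' w ![1, 0]
  obtain ⟨a1, a2, a3⟩ := hEl_spec hab i hw0 h1
  obtain ⟨b1, b2, b3⟩ := hEl_spec hab i' hw0 h1
  refine ⟨g1⁻¹ * g0, mul_mem (inv_mem (Mk_le _ (hEl_mem le_rfl _ _))) (Mk_le _ (hEl_mem le_rfl _ _)),
    ?_, fun x => ?_, fun j => ?_⟩
  · have hfix : g1.1 (ev i) = ev i := by
      rw [b3 _ (polar_ev_ev i i') (by rw [polar_ev_fv, if_neg (Ne.symm hne)]), mul_apply,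
        refl_fix (polar_ev_wv i _), refl_fix (polar_ev_wv i _)]
    rw [mul_apply, a1, hw, show binForm a b ![1, 0] = 1 by simp [binForm_apply], div_one, map_smul]
    congr 1
    conv_lhs => rw [← hfix]
    exact inv_apply_self _ _
  · rw [mul_apply, a3 _ (polar_wv_ev i x) (polar_wv_fv i x), ← b3 _ (polar_wv_ev i' x) (polar_wv_fv i' x)]
    exact inv_apply_self _ _
  · obtain ⟨d0, hd0⟩ := hEl_diag hab i hw0 h1 j
    obtain ⟨d1, hd1⟩ := hEl_diag hab i' hw0 h1 j
    have hd1' : d1 ≠ 0 := fun e => orth_ne_zero _ (dv_ne_zero j) (by rw [hd1, e, zero_smul])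
    have hd0' : d0 ≠ 0 := fun e => orth_ne_zero _ (dv_ne_zero j) (by rw [hd0, e, zero_smul])
    refine ⟨d0 * d1⁻¹, mul_ne_zero hd0' (inv_ne_zero hd1'), ?_⟩
    rw [mul_apply, hd0, map_smul, ← smul_smul]
    congr 1
    calc (g1⁻¹).1 (dv j) = (g1⁻¹).1 (d1⁻¹ • g1.1 (dv j)) := by rw [hd1, inv_smul_smul₀ hd1']
      _ = d1⁻¹ • dv j := by rw [map_smul, inv_apply_self]

variable {E : Type*} [Group E] {σ : E →* Orth (MQ m a b)}

namespace CExt

variable (C : CExt σ)
include C

/-- the first pair -/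
def i0 : Fin m := ⟨0, by have := C.three; omega⟩

/-- the second pair -/
def i1 : Fin m := ⟨1, by have := C.three; omega⟩

theorem i0_ne_i1 : C.i0 ≠ C.i1 := fun e => by simpa [i0, i1] using congrArg Fin.val e

theorem exists_lift_to {u : MV m F} (hu : MQ m a b u = 0) (hu0 : u ≠ 0) :
    ∃ e : E, (σ e).1 (ev C.i0) = u := by
  obtain ⟨g, hg, he⟩ := exists_to_ev C.aniso C.i0 (Uk_mono le_rfl (Uk_zero u)) hu0 hu
  exact ⟨sec σ g, by rw [C.sigma_sec (Mk_le _ hg)]; exact he⟩

/-- the lift of a root element -/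
noncomputable def X (u w : MV m F) : E :=
  if h : MQ m a b u = 0 ∧ polar (MQ m a b) u w = 0 ∧ u ≠ 0 then
    Classical.choose (C.exists_lift_to h.1 h.2.2) *
      Phi σ C.aniso C.i0 (((σ (Classical.choose (C.exists_lift_to h.1 h.2.2)))⁻¹).1 w) *
        (Classical.choose (C.exists_lift_to h.1 h.2.2))⁻¹
  else 1

theorem X_eq {u w : MV m F} (hw : polar (MQ m a b) u w = 0) {e : E}
    (he : (σ e).1 (ev C.i0) = u) :
    C.X u w = e * Phi σ C.aniso C.i0 (((σ e)⁻¹).1 w) * e⁻¹ := by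
  have hu : MQ m a b u = 0 := by rw [← he, orth_Q, Q_ev]
  have hu0 : u ≠ 0 := he ▸ orth_ne_zero _ (dv_ne_zero (Sum.inl C.i0))
  rw [X, dif_pos ⟨hu, hw, hu0⟩]
  generalize hd : Classical.choose (C.exists_lift_to hu hu0) = d
  have hd' : (σ d).1 (ev C.i0) = u := hd ▸ Classical.choose_spec (C.exists_lift_to hu hu0)
  obtain ⟨h1, h2⟩ := C.Phi_cov (i := C.i0) rfl (e := d⁻¹ * e) (by
    rw [map_mul, map_inv, mul_apply, he, ← hd']
    exact inv_apply_self _ _)
  have hp : polar (MQ m a b) (((σ e)⁻¹).1 w) (ev C.i0) = 0 := by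
    rw [← orth_polar (σ e), self_apply_inv, he, polar_comm]
    exact hw
  have h := h2 _ hp
  rw [map_mul, map_inv, mul_apply, self_apply_inv] at h
  rw [← h]
  group

theorem X_sigma (u w : MV m F) : σ (C.X u w) = T (MQ m a b) u w := by
  by_cases h : MQ m a b u = 0 ∧ polar (MQ m a b) u w = 0 ∧ u ≠ 0
  · obtain ⟨e, he⟩ := C.exists_lift_to h.1 h.2.2
    have hp : polar (MQ m a b) (((σ e)⁻¹).1 w) (ev C.i0) = 0 := by
      rw [← orth_polar (σ e), self_apply_inv, he, polar_comm]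
      exact h.2.1
    rw [C.X_eq h.2.1 he, map_mul, map_mul, map_inv, C.sigma_Phi _ hp, T_conj, he, self_apply_inv]
  · rw [X, dif_neg h, map_one]
    by_cases hu : u = 0
    · rw [hu, T_zero_left]
    · rw [T, dif_neg fun h' => h ⟨h'.1, h'.2, hu⟩]

theorem X_conj (e : E) (u w : MV m F) : e * C.X u w * e⁻¹ = C.X ((σ e).1 u) ((σ e).1 w) := by
  by_cases h : MQ m a b u = 0 ∧ polar (MQ m a b) u w = 0 ∧ u ≠ 0
  · obtain ⟨d, hd⟩ := C.exists_lift_to h.1 h.2.2
    rw [C.X_eq (u := (σ e).1 u) (w := (σ e).1 w) (e := e * d) (by rw [orth_polar]; exact h.2.1)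
        (by rw [map_mul, mul_apply, hd]),
      C.X_eq h.2.1 hd, map_mul, _root_.mul_inv_rev, _root_.mul_inv_rev, mul_apply, inv_apply_self]
    group
  · rw [X, X, dif_neg h, dif_neg]
    · group
    · rw [orth_Q, orth_polar]
      intro h'
      exact h ⟨h'.1, h'.2.1, fun e0 => h'.2.2 (by rw [e0, map_zero])⟩

theorem X_ev {x : MV m F} (hx : polar (MQ m a b) x (ev C.i0) = 0) :
    C.X (ev C.i0) x = Phi σ C.aniso C.i0 x := by
  rw [C.X_eq (e := 1) (by rw [polar_comm]; exact hx) (by rw [map_one, one_apply])]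
  simp

theorem X_add {u w w' : MV m F} (hw : polar (MQ m a b) u w = 0)
    (hw' : polar (MQ m a b) u w' = 0) : C.X u (w + w') = C.X u w * C.X u w' := by
  by_cases h : MQ m a b u = 0 ∧ u ≠ 0
  · obtain ⟨e, he⟩ := C.exists_lift_to h.1 h.2
    rw [C.X_eq (by rw [polar_add_right, hw, hw', add_zero]) he, C.X_eq hw he, C.X_eq hw' he, map_add,
      C.Phi_add]
    group
  · rw [X, X, X, dif_neg (by tauto), dif_neg (by tauto), dif_neg (by tauto), one_mul]

theorem X_zero_right (u : MV m F) : C.X u 0 = 1 := by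
  have h := C.X_add (u := u) (w := 0) (w' := 0) (by simp) (by simp)
  rw [add_zero] at h
  exact left_eq_mul.1 h

theorem X_zero_left (w : MV m F) : C.X 0 w = 1 := by rw [X, dif_neg]; simp

theorem X_neg {u w : MV m F} (hw : polar (MQ m a b) u w = 0) : C.X u (-w) = (C.X u w)⁻¹ := by
  have h := C.X_add (u := u) (w := -w) (w' := w) (by simp [hw]) hw
  rw [neg_add_cancel, C.X_zero_right] at h
  exact eq_inv_of_mul_eq_one_left h.symm

theorem X_smul_self (u : MV m F) (c : F) : C.X u (c • u) = 1 := by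
  by_cases h : MQ m a b u = 0 ∧ polar (MQ m a b) u (c • u) = 0 ∧ u ≠ 0
  · obtain ⟨e, he⟩ := C.exists_lift_to h.1 h.2.2
    have e' : ((σ e)⁻¹).1 u = ev C.i0 := by
      conv_lhs => rw [← he]
      exact inv_apply_self _ _
    rw [C.X_eq h.2.1 he, map_smul, e', C.Phi_ev]
    group
  · rw [X, dif_neg h]

theorem X_add_smul {u w : MV m F} (c : F) (hu : MQ m a b u = 0) (hw : polar (MQ m a b) u w = 0) :
    C.X u (w + c • u) = C.X u w := by
  rw [C.X_add hw (by simp [polar_singular_self hu]), C.X_smul_self, mul_one]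

/-- scalars move between the two parameters at the first vector -/
theorem X_smul_ev (c : F) {x : MV m F} (hx : polar (MQ m a b) x (ev C.i0) = 0) :
    C.X (c • ev C.i0) x = C.X (ev C.i0) (c • x) := by
  by_cases hc : c = 0
  · rw [hc, zero_smul, zero_smul, C.X_zero_left, C.X_zero_right]
  obtain ⟨g, hg, hge, hgw, hgd⟩ := exists_scale_fix C.aniso C.i0_ne_i1 hc
  set h := sec σ g
  have hh : σ h = g := C.sigma_sec hg
  rw [C.X_eq (e := h) (by rw [polar_smul_left, polar_comm, hx, smul_zero]) (by rw [hh]; exact hge),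
    C.X_ev (by rw [polar_smul_left, hx, smul_zero]), hh]
  refine perp_induction C.i0 (P := fun x => h * Phi σ C.aniso C.i0 ((g⁻¹).1 x) * h⁻¹ =
    Phi σ C.aniso C.i0 (c • x)) ?_ ?_ ?_ ?_ hx
  · intro x y _ _ ex ey
    show h * Phi σ C.aniso C.i0 ((g⁻¹).1 (x + y)) * h⁻¹ = _
    rw [map_add, C.Phi_add, smul_add, C.Phi_add, ← ex, ← ey]
    group
  · intro w
    have hgw' : (g⁻¹).1 (wv w) = wv w := by
      conv_lhs => rw [← hgw w]
      exact inv_apply_self _ _
    show h * Phi σ C.aniso C.i0 ((g⁻¹).1 (wv w)) * h⁻¹ = _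
    rw [hgw', ← map_smul, C.Phi_wv, C.Phi_wv,
      C.conj_Sl (e := h) (by rw [hh]; exact hgw), hh,
      show g.1 (dv (Sum.inl C.i0)) = c • dv (Sum.inl C.i0) from hge, C.Sl_smul (dv_snd _) (Q_dv _)]
  · intro t
    have e' : (g⁻¹).1 (ev C.i0) = c⁻¹ • ev C.i0 := by
      calc (g⁻¹).1 (ev C.i0) = (g⁻¹).1 (c⁻¹ • g.1 (ev C.i0)) := by rw [hge, inv_smul_smul₀ hc]
        _ = _ := by rw [map_smul, inv_apply_self]
    show h * Phi σ C.aniso C.i0 ((g⁻¹).1 (t • ev C.i0)) * h⁻¹ = _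
    rw [map_smul, e', smul_smul, C.Phi_ev, smul_smul, C.Phi_ev]
    group
  · intro j hj t
    obtain ⟨d, hd0, hd⟩ := hgd j
    have e' : (g⁻¹).1 (dv j) = d⁻¹ • dv j := by
      calc (g⁻¹).1 (dv j) = (g⁻¹).1 (d⁻¹ • g.1 (dv j)) := by rw [hd, inv_smul_smul₀ hd0]
        _ = _ := by rw [map_smul, inv_apply_self]
    have hj0 : jpos (Sum.inl C.i0 : Fin m ⊕ Fin m) ≠ jpos j := fun e => hj e.symm
    show h * Phi σ C.aniso C.i0 ((g⁻¹).1 (t • dv j)) * h⁻¹ = _
    rw [map_smul, e', smul_smul, smul_smul, C.Phi_dv _ hj, C.Phi_dv _ hj]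
    have key : ∀ s : F, Ll σ C.aniso (Sum.inl C.i0) j s =
        ⁅Sl σ C.aniso (dv (Sum.inl C.i0)) ![1, 0], Sl σ C.aniso (dv j) (s • wd C.aniso)⁆ := by
      intro s
      rw [C.Sl_comm hj0, polar_smul_right, wd_spec, smul_eq_mul, mul_one]
    rw [key, conjugate_commutatorElement, C.conj_Sl (e := h) (by rw [hh]; exact hgw),
      C.conj_Sl (e := h) (by rw [hh]; exact hgw), hh, hd,
      show g.1 (dv (Sum.inl C.i0)) = c • dv (Sum.inl C.i0) from hge,
      C.Sl_smul (dv_snd _) (Q_dv _), C.Sl_smul (dv_snd _) (Q_dv _), C.Sl_comm hj0, smul_smul,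
      polar_smul_left, polar_smul_right, wd_spec, smul_eq_mul, smul_eq_mul, mul_one]
    congr 1
    field_simp

theorem X_smul {u w : MV m F} (c : F) (hu : MQ m a b u = 0) (hw : polar (MQ m a b) u w = 0) :
    C.X (c • u) w = C.X u (c • w) := by
  by_cases hu0 : u = 0
  · rw [hu0, smul_zero, C.X_zero_left, C.X_zero_left]
  obtain ⟨e, he⟩ := C.exists_lift_to hu hu0
  set x := ((σ e)⁻¹).1 w
  have hx : polar (MQ m a b) x (ev C.i0) = 0 := by
    rw [← orth_polar (σ e), self_apply_inv, he, polar_comm]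
    exact hw
  have h1 := C.X_conj e (c • ev C.i0) x
  have h2 := C.X_conj e (ev C.i0) (c • x)
  rw [map_smul, he, self_apply_inv] at h1
  rw [map_smul, he, self_apply_inv] at h2
  rw [← h1, ← h2, C.X_smul_ev c hx]

theorem X_pair : C.X (dv (Sum.inl C.i1)) (-ev C.i0) = C.X (ev C.i0) (dv (Sum.inl C.i1)) := by
  set e : MV m F := ev C.i0
  set d : MV m F := ev C.i1
  set f0 : MV m F := fv C.i0
  set f1 : MV m F := fv C.i1
  have n01 := C.i0_ne_i1
  have ef : polar (MQ m a b) e f1 = 0 := by rw [polar_ev_fv, if_neg (Ne.symm n01)]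
  have df : polar (MQ m a b) d f0 = 0 := by rw [polar_ev_fv, if_neg n01]
  have hdQ : MQ m a b d = 0 := Q_ev _
  have heQ : MQ m a b e = 0 := Q_ev _
  have hA : ∀ x, (T (MQ m a b) d (-f0)).1 x =
      x + polar (MQ m a b) x d • (-f0) + polar (MQ m a b) x f0 • d := fun x => by
    rw [T_apply hdQ (by rw [polar_neg_right, df, neg_zero]), QuadraticMap.map_neg,
      show MQ m a b f0 = 0 from Q_fv _, polar_neg_right, zero_mul, sub_zero, neg_neg]
  have hB : ∀ x, (T (MQ m a b) e f1).1 x =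
      x + polar (MQ m a b) x e • f1 + (-polar (MQ m a b) x f1) • e := fun x => by
    rw [T_apply heQ ef, show MQ m a b f1 = 0 from Q_fv _, zero_mul, sub_zero]
  set g : Orth (MQ m a b) := T (MQ m a b) d (-f0) * T (MQ m a b) e f1 * T (MQ m a b) d (-f0)
  have hg : g ∈ siegelGroup (MQ m a b) := mul_mem (mul_mem (T_mem _ _) (T_mem _ _)) (T_mem _ _)
  have de : polar (MQ m a b) d e = 0 := polar_ev_ev _ _
  have ed : polar (MQ m a b) e d = 0 := polar_ev_ev _ _
  have ee : polar (MQ m a b) e e = 0 := polar_ev_ev _ _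
  have dd : polar (MQ m a b) d d = 0 := polar_ev_ev _ _
  have ef0 : polar (MQ m a b) e f0 = 1 := polar_ev_fv_self _
  have df1 : polar (MQ m a b) d f1 = 1 := polar_ev_fv_self _
  have a1 : (T (MQ m a b) d (-f0)).1 e = e + d := by rw [hA, ed, ef0]; module
  have a2 : (T (MQ m a b) d (-f0)).1 d = d := by rw [hA, dd, df]; module
  have b1 : (T (MQ m a b) e f1).1 e = e := by rw [hB, ee, ef]; module
  have b2 : (T (MQ m a b) e f1).1 d = d - e := by rw [hB, de, df1]; module
  have hge : g.1 e = d := by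
    rw [mul_apply, mul_apply, a1, map_add, b1, b2, add_sub_cancel, a2]
  have hgd : g.1 d = -e := by
    rw [mul_apply, mul_apply, a2, b2, map_sub, a1, a2]; module
  have hgw : ∀ w, g.1 (wv w) = wv w := by
    intro w
    have h1 : (T (MQ m a b) d (-f0)).1 (wv w) = wv w := by
      rw [hA, show polar (MQ m a b) (wv w) d = 0 from polar_wv_ev _ _,
        show polar (MQ m a b) (wv w) f0 = 0 from polar_wv_fv _ _]; module
    have h2 : (T (MQ m a b) e f1).1 (wv w) = wv w := by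
      rw [hB, show polar (MQ m a b) (wv w) e = 0 from polar_wv_ev _ _,
        show polar (MQ m a b) (wv w) f1 = 0 from polar_wv_fv _ _]; module
    rw [mul_apply, mul_apply, h1, h2, h1]
  set h := sec σ g
  have hh : σ h = g := C.sigma_sec hg
  have hde : polar (MQ m a b) d (ev C.i0) = 0 := de
  have hmv := C.X_conj h e d
  rw [hh, hge, hgd] at hmv
  show C.X d (-e) = C.X e d
  rw [← hmv, C.X_ev hde]
  have hj : jpos (Sum.inl C.i1 : Fin m ⊕ Fin m) ≠ C.i0.val := fun h => n01 (Fin.ext h.symm)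
  have hj' : jpos (Sum.inl C.i0 : Fin m ⊕ Fin m) ≠ jpos (Sum.inl C.i1) := fun h => hj h.symm
  have hd : Phi σ C.aniso C.i0 d = Ll σ C.aniso (Sum.inl C.i0) (Sum.inl C.i1) 1 := by
    rw [← one_smul F d]
    exact C.Phi_dv C.i0 hj 1
  have hgd' : g.1 (dv (Sum.inl C.i1)) = (-1 : F) • dv (Sum.inl C.i0) := by
    rw [neg_one_smul]; exact hgd
  rw [hd, show Ll σ C.aniso (Sum.inl C.i0) (Sum.inl C.i1) 1 =
      ⁅Sl σ C.aniso (dv (Sum.inl C.i0)) ![1, 0], Sl σ C.aniso (dv (Sum.inl C.i1)) (wd C.aniso)⁆ by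
    rw [C.Sl_comm hj', wd_spec],
    conjugate_commutatorElement, C.conj_Sl (e := h) (by rw [hh]; exact hgw),
    C.conj_Sl (e := h) (by rw [hh]; exact hgw), hh,
    show g.1 (dv (Sum.inl C.i0)) = dv (Sum.inl C.i1) from hge, hgd',
    C.Sl_smul (dv_snd _) (Q_dv _), C.Sl_comm hj'.symm, C.Sl_comm hj', C.Ll_symm hj']
  congr 1
  rw [polar_smul_right]
  simp

/-- the parameters of orthogonal singular vectors may be exchanged -/
theorem X_swap {u y : MV m F} (hu : MQ m a b u = 0) (hy : MQ m a b y = 0)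
    (huy : polar (MQ m a b) u y = 0) : C.X u y = C.X y (-u) := by
  by_cases hdep : ∃ c : F, y = c • u
  · obtain ⟨c, rfl⟩ := hdep
    rw [C.X_smul_self, C.X_smul c hu (by simp [polar_singular_self hu]), smul_neg, ← neg_smul,
      C.X_smul_self]
  by_cases hu0 : u = 0
  · subst hu0
    rw [C.X_zero_left, neg_zero, C.X_zero_right]
  obtain ⟨e, he⟩ := C.exists_lift_to hu hu0
  set z := ((σ e)⁻¹).1 y
  have hez : (σ e).1 z = y := self_apply_inv _ _
  suffices h : C.X (ev C.i0) z = C.X z (-ev C.i0) by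
    have h1 := congrArg (fun g => e * g * e⁻¹) h
    simpa [C.X_conj, hez, he] using h1
  have hzQ : MQ m a b z = 0 := by rw [← orth_Q (σ e), hez, hy]
  have hze : polar (MQ m a b) z (ev C.i0) = 0 := by
    rw [← orth_polar (σ e), hez, he, polar_comm]; exact huy
  have hzdep : ∀ c : F, z ≠ c • ev C.i0 := fun c h => hdep ⟨c, by rw [← hez, h, map_smul, he]⟩
  -- remove the component along the first vector
  set α := polar (MQ m a b) z (fv C.i0)
  set z' := z - α • ev C.i0
  have hz'U : z' ∈ Uk m F 1 := by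
    refine mem_Uk_succ (a := a) (b := b) (i := C.i0) (Uk_mono le_rfl (Uk_zero _)) ?_ ?_
    · rw [polar_sub_left, polar_smul_left, hze, polar_ev_ev, smul_zero, sub_zero]
    · rw [polar_sub_left, polar_smul_left, polar_ev_fv_self, smul_eq_mul, mul_one, sub_self]
  have hz'0 : z' ≠ 0 := fun h => hzdep α (sub_eq_zero.1 h)
  have hz'Q : MQ m a b z' = 0 := by
    rw [show z' = z + (-α) • ev C.i0 by rw [neg_smul, ← sub_eq_add_neg],
      QuadraticMap.map_add (MQ m a b), hzQ, QuadraticMap.map_smul, polar_smul_right, hze]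
    simp
  obtain ⟨g, hg, hgd⟩ := exists_to_ev C.aniso C.i1 hz'U hz'0 hz'Q
  have hg0 : g.1 (ev C.i0) = ev C.i0 := (Mk_fix hg C.i0 Nat.zero_lt_one).1
  set p := sec σ g
  have hp : σ p = g := C.sigma_sec (Mk_le _ hg)
  have base := congrArg (fun x => p * x * p⁻¹) C.X_pair
  simp only [C.X_conj, hp, map_neg, hg0, show g.1 (dv (Sum.inl C.i1)) = z' from hgd] at base
  -- shift along the first vector
  obtain ⟨x, hx⟩ := exists_polar_one (ndPolar C.aniso) hz'0
  set v := (-α) • (x - polar (MQ m a b) x (ev C.i0) • fv C.i0)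
  have hev : polar (MQ m a b) (ev C.i0) v = 0 := by
    simp only [v]
    rw [polar_smul_right, polar_sub_right, polar_smul_right, polar_ev_fv_self]
    simp only [smul_eq_mul, mul_one]
    rw [polar_comm, sub_self, mul_zero]
  have hz'v : polar (MQ m a b) z' v = -α := by
    simp only [v]
    rw [polar_smul_right, polar_sub_right, hx, polar_smul_right, polar_fv_of_mem hz'U Nat.zero_lt_one,
      smul_zero, sub_zero, smul_eq_mul, mul_one]
  set q := Phi σ C.aniso C.i0 v
  have hq : σ q = T (MQ m a b) (ev C.i0) v := C.sigma_Phi _ (by rw [polar_comm]; exact hev)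
  have hq0 : (σ q).1 (ev C.i0) = ev C.i0 := by
    rw [hq]; exact T_fix (Q_ev _) hev (polar_ev_ev _ _) hev
  have hqz : (σ q).1 z' = z := by
    rw [hq, T_apply (Q_ev _) hev, polar_ev_of_mem hz'U Nat.zero_lt_one, hz'v]
    simp only [z']
    module
  have shifted := congrArg (fun x => q * x * q⁻¹) base
  simp only [C.X_conj, map_neg, hq0, hqz] at shifted
  exact shifted.symm

end CExt

end CfsgLib.SpinMinus
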