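import Cfsg.Agent.Lib.SpinMinus.Level
import Cfsg.Agent.Lib.SpinCover.ShortSL2

/-!
The lifted special linear group of a totally singular line.
-/

set_option autoImplicit false
set_option linter.unusedSectionVars false

namespace CfsgLib.SpinMinus

open QuadraticMap CfsgLib.Classical.Quad CfsgLib.ChevClassical CfsgLib.SLCover
open scoped commutatorElement MatrixGroups

variable {F : Type*} [Field F] [Fintype F] {a b : F} {m : ℕ}
variable {E : Type*} [Group E] {σ : E →* Orth (MQ m a b)}

/-- the compatibility between the two components -/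
structure LineP (σ : E →* Orth (MQ m a b)) (i i' : Fin m) (g : E × SL(2, F)) : Prop where
  he : (σ g.1).1 (ev i) = g.2.1 0 0 • ev i + g.2.1 1 0 • ev i'
  he' : (σ g.1).1 (ev i') = g.2.1 0 1 • ev i + g.2.1 1 1 • ev i'
  hf : (σ g.1).1 (fv i) = g.2.1 1 1 • fv i + (-g.2.1 0 1) • fv i'
  hf' : (σ g.1).1 (fv i') = (-g.2.1 1 0) • fv i + g.2.1 0 0 • fv i'

namespace CExt

variable (C : CExt σ)
include C

/-- the generators of the paired line group -/
def lineSet (i i' : Fin m) : Set (E × SL(2, F)) :=
  {g | ∃ t : F, g = (C.X (ev i) ((-t) • fv i'), xt 0 1 t) ∨ g = (C.X (ev i') ((-t) • fv i), xt 1 0 t)}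

/-- the paired line group -/
def lineGrp (i i' : Fin m) : Subgroup (E × SL(2, F)) := Subgroup.closure (C.lineSet i i')

theorem line_T {i i' : Fin m} (hne : i ≠ i') (t : F) (x : MV m F) :
    (σ (C.X (ev i) ((-t) • fv i'))).1 x =
      x + polar (MQ m a b) x (ev i) • ((-t) • fv i') + (t * polar (MQ m a b) x (fv i')) • ev i := by
  rw [C.X_sigma, T_apply (Q_ev i) (by rw [polar_smul_right, polar_ev_fv, if_neg hne.symm, smul_zero]),
    QuadraticMap.map_smul, Q_fv, smul_zero, zero_mul, sub_zero, polar_smul_right, smul_eq_mul, neg_mul,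
    neg_neg]

theorem lineP_gen {i i' : Fin m} (hne : i ≠ i') : ∀ g ∈ C.lineSet i i', LineP σ i i' g := by
  have n1 : ¬ i' = i := fun e => hne e.symm
  rintro g ⟨t, rfl | rfl⟩
  all_goals refine ⟨?_, ?_, ?_, ?_⟩
  all_goals
    simp only [C.line_T hne, C.line_T (Ne.symm hne), polar_ev_ev, polar_ev_fv, polar_fv_ev,
      polar_fv_fv, if_neg n1, if_neg hne, if_true, xt_eq zero_ne_one, xt_eq (one_ne_zero (α := Fin 2)),
      Matrix.SpecialLinearGroup.transvection_coe]
    simp [Matrix.one_apply, Matrix.single]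
    try module

theorem lineP_inv_gen {i i' : Fin m} (hne : i ≠ i') : ∀ g ∈ C.lineSet i i', g⁻¹ ∈ C.lineSet i i' := by
  rintro g ⟨t, rfl | rfl⟩
  · refine ⟨-t, Or.inl (Prod.ext ?_ (xt_inv zero_ne_one t))⟩
    show (C.X (ev i) ((-t) • fv i'))⁻¹ = _
    rw [← C.X_neg (by rw [polar_smul_right, polar_ev_fv, if_neg hne.symm, smul_zero]), neg_smul (-t)]
  · refine ⟨-t, Or.inr (Prod.ext ?_ (xt_inv one_ne_zero t))⟩
    show (C.X (ev i') ((-t) • fv i))⁻¹ = _
    rw [← C.X_neg (by rw [polar_smul_right, polar_ev_fv, if_neg hne, smul_zero]), neg_smul (-t)]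

theorem lineP {i i' : Fin m} (hne : i ≠ i') : ∀ g ∈ C.lineGrp i i', LineP σ i i' g := by
  intro g hg
  induction hg using Subgroup.closure_induction'' with
  | mem x hx => exact C.lineP_gen hne x hx
  | inv_mem x hx => exact C.lineP_gen hne _ (C.lineP_inv_gen hne x hx)
  | one => constructor <;> simp [Matrix.one_apply]
  | mul x y _ _ hx hy =>
    have d1 := y.2.2
    constructor
    all_goals
      simp only [Prod.fst_mul, Prod.snd_mul, map_mul, mul_apply, hy.he, hy.he', hy.hf, hy.hf',
        map_add, map_smul, hx.he, hx.he', hx.hf, hx.hf', Matrix.SpecialLinearGroup.coe_mul,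
        Matrix.mul_apply, Fin.sum_univ_two]
      module

/-- the lifted line group is faithful -/
theorem line_injective [Finite E] {i i' : Fin m} (hne : i ≠ i') {g g' : E × SL(2, F)}
    (hg : g ∈ C.lineGrp i i') (hg' : g' ∈ C.lineGrp i i') (h : g.2 = g'.2) : g = g' := by
  classical
  set D := C.lineGrp i i'
  let f : D →* SL(2, F) := (MonoidHom.snd E _).comp D.subtype
  let x : F → D := fun t => ⟨_, Subgroup.subset_closure ⟨t, Or.inl rfl⟩⟩
  let y : F → D := fun t => ⟨_, Subgroup.subset_closure ⟨t, Or.inr rfl⟩⟩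
  have hsurj : Function.Surjective f := by
    rw [← MonoidHom.range_eq_top]
    refine CfsgLib.Linear.SL_eq_top_of_transvection_mem _ fun u v huv t => ?_
    fin_cases u <;> fin_cases v <;> (try exact absurd rfl huv)
    · exact ⟨x t, xt_eq zero_ne_one t⟩
    · exact ⟨y t, xt_eq one_ne_zero t⟩
  have gen : Subgroup.closure {g | ∃ t, g = x t ∨ g = y t} = ⊤ := by
    rw [eq_top_iff]
    rintro ⟨p, hp⟩ -
    induction hp using Subgroup.closure_induction with
    | mem z hz =>
      obtain ⟨t, rfl | rfl⟩ := hz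
      · exact Subgroup.subset_closure ⟨t, Or.inl rfl⟩
      · exact Subgroup.subset_closure ⟨t, Or.inr rfl⟩
    | one => exact one_mem _
    | mul u v _ _ hu hv => exact mul_mem hu hv
    | inv u _ hu => exact inv_mem hu
  have hcen : f.ker ≤ Subgroup.center D := by
    intro k hk
    have hk2 : k.1.2 = 1 := hk
    obtain ⟨h1, h2, h3, h4⟩ := C.lineP hne k.1 k.2
    rw [hk2] at h1 h2 h3 h4
    simp [Matrix.one_apply] at h1 h2 h3 h4
    have hc : Subgroup.closure {g | ∃ t, g = x t ∨ g = y t} ≤ Subgroup.centralizer {k} := by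
      refine (Subgroup.closure_le _).2 ?_
      rintro z ⟨t, rfl | rfl⟩
      all_goals
        refine Subgroup.mem_centralizer_singleton_iff.2 (Subtype.ext (Prod.ext ?_ ?_))
      · show C.X (ev i) ((-t) • fv i') * k.1.1 = k.1.1 * C.X (ev i) ((-t) • fv i')
        have e := C.X_conj k.1.1 (ev i) ((-t) • fv i')
        rw [map_smul, h1, h4] at e
        exact (mul_inv_eq_iff_eq_mul.1 e).symm
      · show _ * k.1.2 = k.1.2 * _
        rw [hk2, mul_one, one_mul]
      · show C.X (ev i') ((-t) • fv i) * k.1.1 = k.1.1 * C.X (ev i') ((-t) • fv i)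
        have e := C.X_conj k.1.1 (ev i') ((-t) • fv i)
        rw [map_smul, h2, h3] at e
        exact (mul_inv_eq_iff_eq_mul.1 e).symm
      · show _ * k.1.2 = k.1.2 * _
        rw [hk2, mul_one, one_mul]
    rw [gen] at hc
    exact Subgroup.mem_center_iff.2 fun z =>
      (Subgroup.mem_centralizer_singleton_iff.1 (hc (Subgroup.mem_top z)))
  have fx : ∀ t, f (x t) = xt 0 1 t := fun t => rfl
  have fy : ∀ t, f (y t) = xt 1 0 t := fun t => rfl
  have perp : ∀ t : F, polar (MQ m a b) (ev i) ((-t) • fv i') = 0 := fun t => by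
    rw [polar_smul_right, polar_ev_fv, if_neg hne.symm, smul_zero]
  have addx : ∀ t u, x (t + u) = x t * x u := fun t u => Subtype.ext (Prod.ext
    (by show C.X _ _ = C.X _ _ * C.X _ _; rw [← C.X_add (perp t) (perp u), ← add_smul, neg_add])
    (xt_add zero_ne_one t u))
  have nP : ∀ c : F, c ≠ 0 → ∀ w : D, w = x c * y (-c⁻¹) * x c →
      (σ w.1.1).1 (ev i) = (-c⁻¹) • ev i' ∧ (σ w.1.1).1 (ev i') = c • ev i ∧
      (σ w.1.1).1 (fv i) = (-c) • fv i' ∧ (σ w.1.1).1 (fv i') = c⁻¹ • fv i := by
    intro c hc w hw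
    obtain ⟨h1, h2, h3, h4⟩ := C.lineP hne w.1 w.2
    have e : w.1.2 = xt 0 1 c * xt 1 0 (-c⁻¹) * xt 0 1 c := by rw [hw]; rfl
    rw [e] at h1 h2 h3 h4
    simp [xt_eq, Matrix.SpecialLinearGroup.transvection_coe, Matrix.mul_apply, Fin.sum_univ_two,
      Matrix.one_apply, Matrix.single, hc] at h1 h2 h3 h4
    exact ⟨by rw [h1]; simp, by rw [h2], by rw [h3]; simp, by rw [h4]⟩
  have hinj := SpinCover.sl2_injective f hsurj hcen x y fx fy addx gen ?_ ?_
  · have := @hinj ⟨g, hg⟩ ⟨g', hg'⟩ h
    exact congrArg Subtype.val this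
  · intro s
    obtain ⟨w1, w2, w3, w4⟩ := nP 1 one_ne_zero _ rfl
    have h : (x 1 * y (-1) * x 1 : D) = x 1 * y (-1⁻¹) * x 1 := by rw [inv_one]
    rw [h]
    set n : D := x 1 * y (-1⁻¹) * x 1
    refine Subtype.ext (Prod.ext ?_ ?_)
    · show n.1.1 * C.X (ev i') ((-s) • fv i) * n.1.1⁻¹ = C.X (ev i) ((- -s) • fv i')
      rw [C.X_conj, w2, one_smul, map_smul, w3, smul_smul]
      congr 2
      ring
    · show n.1.2 * xt 1 0 s * n.1.2⁻¹ = xt 0 1 (-s)
      rw [mul_inv_eq_iff_eq_mul]
      apply Subtype.ext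
      ext u v
      fin_cases u <;> fin_cases v <;>
        simp [n, x, y, xt_eq, Matrix.SpecialLinearGroup.transvection_coe, Matrix.mul_apply,
          Fin.sum_univ_two, Matrix.one_apply, Matrix.single]
  · intro c hc t
    obtain ⟨w1, w2, w3, w4⟩ := nP c hc _ rfl
    obtain ⟨v1, v2, v3, v4⟩ := nP (-1) (by simp) _ rfl
    set nc : D := x c * y (-c⁻¹) * x c
    set n1 : D := x (-1) * y (-(-1 : F)⁻¹) * x (-1)
    refine Subtype.ext (Prod.ext ?_ ?_)
    · show nc.1.1 * n1.1.1 * C.X (ev i) ((-t) • fv i') * (nc.1.1 * n1.1.1)⁻¹ =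
        C.X (ev i) ((-(c ^ 2 * t)) • fv i')
      rw [C.X_conj, map_mul, mul_apply, mul_apply, v1, map_smul, w2, map_smul, v4, map_smul, map_smul,
        w3, smul_smul, smul_smul, smul_smul,
        C.X_smul _ (Q_ev i) (by rw [polar_smul_right, polar_ev_fv, if_neg hne.symm, smul_zero]),
        smul_smul]
      congr 2
      field_simp
      try ring
    · show nc.1.2 * n1.1.2 * xt 0 1 t * (nc.1.2 * n1.1.2)⁻¹ = xt 0 1 (c ^ 2 * t)
      rw [mul_inv_eq_iff_eq_mul]
      apply Subtype.ext
      ext u v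
      fin_cases u <;> fin_cases v <;>
        simp [nc, n1, x, y, xt_eq, Matrix.SpecialLinearGroup.transvection_coe, Matrix.mul_apply,
          Fin.sum_univ_two, Matrix.one_apply, Matrix.single, hc] <;> field_simp

/-- a root element of the line lies in the lifted line group -/
theorem line_mem {i i' : Fin m} (hne : i ≠ i') {s t r r' : F} (h : s * r + t * r' = 0) :
    ∃ A, (C.X (s • ev i + t • ev i') (r • fv i + r' • fv i'), A) ∈ C.lineGrp i i' := by
  by_cases ht : t = 0
  · subst ht
    rw [zero_mul, add_zero] at h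
    rw [zero_smul, add_zero]
    by_cases hs : s = 0
    · exact ⟨1, by rw [hs, zero_smul, C.X_zero_left]; exact one_mem _⟩
    rw [(mul_eq_zero.1 h).resolve_left hs, zero_smul, zero_add,
      C.X_smul s (Q_ev i) (by rw [polar_smul_right, polar_ev_fv, if_neg hne.symm, smul_zero]), smul_smul,
      show s * r' = -(-(s * r')) by rw [neg_neg]]
    exact ⟨_, Subgroup.subset_closure ⟨_, Or.inl rfl⟩⟩
  set c := s / t
  set p : E × SL(2, F) := (C.X (ev i) ((-c) • fv i'), xt 0 1 c)
  have hp : p ∈ C.lineGrp i i' := Subgroup.subset_closure ⟨c, Or.inl rfl⟩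
  have hq : (C.X (ev i') ((-(-(t * r))) • fv i), xt 1 0 (-(t * r))) ∈ C.lineGrp i i' :=
    Subgroup.subset_closure ⟨_, Or.inr rfl⟩
  obtain ⟨-, e2, e3, -⟩ := C.lineP hne p hp
  refine ⟨(p * (C.X (ev i') ((-(-(t * r))) • fv i), xt 1 0 (-(t * r))) * p⁻¹).2, ?_⟩
  have he : C.X (s • ev i + t • ev i') (r • fv i + r' • fv i') =
      p.1 * C.X (ev i') ((-(-(t * r))) • fv i) * p.1⁻¹ := by
    have hr' : t * r' = -(s * r) := by linear_combination h
    rw [C.X_conj, e2, map_smul, e3,
      show s • ev i + t • ev i' = t • (c • ev i + ev i' : MV m F) by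
        simp only [c, smul_add, smul_smul]; rw [mul_div_cancel₀ _ ht],
      C.X_smul t]
    · congr 1
      · simp [p, xt_eq, Matrix.SpecialLinearGroup.transvection_coe, Matrix.single]
      · have hct : t * c = s := mul_div_cancel₀ _ ht
        simp [p, xt_eq, Matrix.SpecialLinearGroup.transvection_coe, Matrix.single, smul_add, smul_smul]
        congr 1
        rw [hr', ← hct]
        module
    · rw [QuadraticMap.map_add (MQ m a b), QuadraticMap.map_smul, Q_ev, Q_ev, polar_smul_left,
        polar_ev_ev]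
      simp
    · simp only [polar_add_left, polar_add_right, polar_smul_left, polar_smul_right, polar_ev_fv,
        if_neg hne, if_neg hne.symm, if_true, smul_eq_mul, mul_zero, mul_one, add_zero, zero_add]
      have hct : t * c = s := mul_div_cancel₀ _ ht
      apply (mul_left_cancel₀ ht)
      linear_combination h + r * hct
  rw [he]
  exact mul_mem (mul_mem hp hq) (inv_mem hp)

/-- the triangle relation inside a line -/
theorem line_triangle [Finite E] {i i' : Fin m} (hne : i ≠ i') (hv : i.val ≤ i'.val) {α β : F}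
    (hα : α ≠ 0) (hβ : β ≠ 0) :
    (C.X (ev i - (α • ev i + β • ev i')) (fv i + ((1 - α) / β) • fv i'))⁻¹ *
      C.X (ev i' - (α • ev i + β • ev i')) (((1 - β) / α) • fv i + fv i') *
        C.X (ev i - ev i') (fv i + fv i') ∈ C.Kg i := by
  have h1 : ∃ A, (C.X (ev i - (α • ev i + β • ev i')) (fv i + ((1 - α) / β) • fv i'), A) ∈
      C.lineGrp i i' := by
    have := C.line_mem hne (s := 1 - α) (t := -β) (r := 1) (r' := (1 - α) / β) (by field_simp; ring)
    rw [one_smul] at this
    convert this using 5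
    module
  have h2 : ∃ A, (C.X (ev i' - (α • ev i + β • ev i')) (((1 - β) / α) • fv i + fv i'), A) ∈
      C.lineGrp i i' := by
    have := C.line_mem hne (s := -α) (t := 1 - β) (r := (1 - β) / α) (r' := 1) (by field_simp; ring)
    rw [one_smul] at this
    convert this using 5
    module
  have h3 : ∃ A, (C.X (ev i - ev i') (fv i + fv i'), A) ∈ C.lineGrp i i' := by
    have := C.line_mem hne (s := 1) (t := -1) (r := 1) (r' := 1) (by ring)
    simp only [one_smul, neg_one_smul] at this
    convert this using 5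
    module
  obtain ⟨A1, h1⟩ := h1
  obtain ⟨A2, h2⟩ := h2
  obtain ⟨A3, h3⟩ := h3
  set g1 := C.X (ev i - (α • ev i + β • ev i')) (fv i + ((1 - α) / β) • fv i')
  set g2 := C.X (ev i' - (α • ev i + β • ev i')) (((1 - β) / α) • fv i + fv i')
  set g3 := C.X (ev i - ev i') (fv i + fv i')
  have hg : (g1⁻¹ * g2 * g3, A1⁻¹ * A2 * A3) ∈ C.lineGrp i i' := mul_mem (mul_mem (inv_mem h1) h2) h3
  have e3 : (σ g3).1 (ev i) = ev i' := by
    rw [C.X_sigma, T_apply]
    · simp only [polar_sub_right, polar_sub_left, polar_add_right, polar_ev_ev, polar_ev_fv, if_neg hne,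
        if_neg hne.symm, if_true, sub_zero, zero_smul, add_zero, zero_add, mul_zero]
      module
    · simp [sub_eq_add_neg, QuadraticMap.map_add (MQ m a b), polar_neg_right]
    · simp [polar_sub_left, polar_add_right, polar_ev_fv, hne, hne.symm]
  have eq1 : ((1 - α) / β) * β = 1 - α := div_mul_cancel₀ _ hβ
  have eq2 : ((1 - β) / α) * α = 1 - β := div_mul_cancel₀ _ hα
  have hqQ : ∀ u : MV m F, ∀ s t : F, u = s • ev i + t • ev i' → MQ m a b u = 0 := by
    rintro u s t rfl
    rw [QuadraticMap.map_add (MQ m a b), QuadraticMap.map_smul, QuadraticMap.map_smul, Q_ev, Q_ev,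
      polar_smul_left, polar_smul_right, polar_ev_ev]
    simp
  have e2 : (σ g2).1 (ev i') = α • ev i + β • ev i' := by
    rw [C.X_sigma, T_apply]
    · simp only [polar_sub_right, polar_add_right, polar_smul_right, polar_ev_ev, polar_ev_fv, if_neg hne,
        if_neg hne.symm, if_true, sub_zero, zero_smul, add_zero, zero_add, mul_zero, smul_zero]
      module
    · exact hqQ _ (-α) (1 - β) (by module)
    · simp only [polar_sub_left, polar_add_left, polar_smul_left, polar_add_right, polar_smul_right,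
        polar_ev_fv, if_neg hne, if_neg hne.symm, if_true, smul_eq_mul, mul_zero, mul_one, add_zero,
        zero_add]
      linear_combination (-1 : F) * eq2
  have e1 : (σ g1).1 (ev i) = α • ev i + β • ev i' := by
    rw [C.X_sigma, T_apply]
    · simp only [polar_sub_right, polar_add_right, polar_smul_right, polar_ev_ev, polar_ev_fv, if_neg hne,
        if_neg hne.symm, if_true, sub_zero, zero_smul, add_zero, zero_add, mul_zero, smul_zero]
      module
    · exact hqQ _ (1 - α) (-β) (by module)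
    · simp only [polar_sub_left, polar_add_left, polar_smul_left, polar_add_right, polar_smul_right,
        polar_ev_fv, if_neg hne, if_neg hne.symm, if_true, smul_eq_mul, mul_zero, mul_one, add_zero,
        zero_add]
      linear_combination (-1 : F) * eq1
  have hfix : (σ (g1⁻¹ * g2 * g3)).1 (ev i) = ev i := by
    rw [map_mul, map_mul, map_inv, mul_apply, mul_apply, e3, e2, ← e1, inv_apply_self]
  obtain ⟨p1, -, -, -⟩ := C.lineP hne _ hg
  simp only at p1
  rw [hfix] at p1
  set A := A1⁻¹ * A2 * A3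
  have a00 : A.1 0 0 = 1 := by
    have := congrArg (fun z => polar (MQ m a b) z (fv i)) p1
    simp [polar_add_left, polar_smul_left, polar_ev_fv, hne, hne.symm] at this
    exact this.symm
  have a10 : A.1 1 0 = 0 := by
    have := congrArg (fun z => polar (MQ m a b) z (fv i')) p1
    simp [polar_add_left, polar_smul_left, polar_ev_fv, hne, hne.symm] at this
    exact this.symm
  have hA : A = xt 0 1 (A.1 0 1) := by
    apply Subtype.ext
    have hd := A.2
    rw [Matrix.det_fin_two, a00, a10, one_mul, mul_zero, sub_zero] at hd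
    ext u v
    fin_cases u <;> fin_cases v <;>
      simp [xt_eq, Matrix.SpecialLinearGroup.transvection_coe, Matrix.one_apply, Matrix.single, a00, a10, hd]
  have key := C.line_injective hne hg
    (g' := (C.X (ev i) ((-(A.1 0 1)) • fv i'), xt 0 1 (A.1 0 1))) (Subgroup.subset_closure ⟨_, Or.inl rfl⟩) hA
  rw [show g1⁻¹ * g2 * g3 = C.X (ev i) ((-(A.1 0 1)) • fv i') from congrArg Prod.fst key]
  exact C.X_mem_Kg (ev_mem le_rfl) (Submodule.smul_mem _ _ (fv_mem hv)) (polar_ev_ev i i)
    (by rw [polar_smul_left, polar_fv_ev, if_neg hne, smul_zero])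

end CExt

end CfsgLib.SpinMinus
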