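import Cfsg.Agent.Lib.SpinMinus.Siegel
import Cfsg.Agent.Lib.Classical.Quad.Std

/-!
The coordinate model of an orthogonal space of minus type.
-/

set_option autoImplicit false
set_option linter.unusedSectionVars false

namespace CfsgLib.SpinMinus

open QuadraticMap CfsgLib.Classical.Quad

variable {F : Type*} [Field F] [Fintype F] {a b : F} {m : ℕ}

/-- the underlying space -/
abbrev MV (m : ℕ) (F : Type*) := ((Fin m → F) × (Fin m → F)) × (Fin 2 → F)

/-- the form -/
noncomputable abbrev MQ (m : ℕ) (a b : F) : QuadraticForm F (MV m F) := hypForm m (binForm a b)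

/-- first vector of a hyperbolic pair -/
def ev (i : Fin m) : MV m F := ((Pi.single i 1, 0), 0)

/-- second vector of a hyperbolic pair -/
def fv (i : Fin m) : MV m F := ((0, Pi.single i 1), 0)

/-- vectors of the anisotropic plane -/
def wv : (Fin 2 → F) →ₗ[F] MV m F := LinearMap.inr F _ _

/-- the signed basis of the hyperbolic part -/
def dv : Fin m ⊕ Fin m → MV m F := Sum.elim ev fv

/-- the partner index -/
def jbar : Fin m ⊕ Fin m → Fin m ⊕ Fin m := Sum.elim Sum.inr Sum.inl

/-- the position of an index -/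
def jpos : Fin m ⊕ Fin m → ℕ := Sum.elim Fin.val Fin.val

theorem jbar_jbar (j : Fin m ⊕ Fin m) : jbar (jbar j) = j := by rcases j with i | i <;> rfl

theorem jbar_ne (j : Fin m ⊕ Fin m) : jbar j ≠ j := by rcases j with i | i <;> simp [jbar]

theorem jpos_bar (j : Fin m ⊕ Fin m) : jpos (jbar j) = jpos j := by rcases j with i | i <;> rfl

@[simp] theorem Q_ev (i : Fin m) : MQ m a b (ev i) = 0 := by
  simp [hypForm_apply, ev]

@[simp] theorem Q_fv (i : Fin m) : MQ m a b (fv i) = 0 := by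
  simp [hypForm_apply, fv]

@[simp] theorem Q_wv (w : Fin 2 → F) : MQ m a b (wv w) = binForm a b w := by
  simp [hypForm_apply, wv]

theorem polar_ev (x : MV m F) (i : Fin m) : polar (MQ m a b) x (ev i) = x.1.2 i := by
  simp [polar_hypForm, ev, Pi.single_apply]

theorem polar_fv (x : MV m F) (i : Fin m) : polar (MQ m a b) x (fv i) = x.1.1 i := by
  simp [polar_hypForm, fv, Pi.single_apply]

theorem polar_wv (x : MV m F) (w : Fin 2 → F) :
    polar (MQ m a b) x (wv w) = polar (binForm a b) x.2 w := by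
  simp [polar_hypForm, wv]

@[simp] theorem polar_ev_ev (i j : Fin m) : polar (MQ m a b) (ev i) (ev j) = 0 := by
  rw [polar_ev]; simp [ev]

@[simp] theorem polar_fv_fv (i j : Fin m) : polar (MQ m a b) (fv i) (fv j) = 0 := by
  rw [polar_fv]; simp [fv]

theorem polar_ev_fv (i j : Fin m) :
    polar (MQ m a b) (ev i) (fv j) = if j = i then 1 else 0 := by
  simp [polar_fv, ev, Pi.single_apply]

theorem polar_fv_ev (i j : Fin m) :
    polar (MQ m a b) (fv i) (ev j) = if j = i then 1 else 0 := by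
  simp [polar_ev, fv, Pi.single_apply]

@[simp] theorem polar_ev_fv_self (i : Fin m) : polar (MQ m a b) (ev i) (fv i) = 1 := by
  simp [polar_ev_fv]

@[simp] theorem polar_fv_ev_self (i : Fin m) : polar (MQ m a b) (fv i) (ev i) = 1 := by
  simp [polar_fv_ev]

@[simp] theorem polar_ev_wv (i : Fin m) (w : Fin 2 → F) :
    polar (MQ m a b) (ev i) (wv w) = 0 := by
  simp [polar_wv, ev, QuadraticMap.polar_zero_left]

@[simp] theorem polar_fv_wv (i : Fin m) (w : Fin 2 → F) :
    polar (MQ m a b) (fv i) (wv w) = 0 := by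
  simp [polar_wv, fv, QuadraticMap.polar_zero_left]

@[simp] theorem polar_wv_ev (i : Fin m) (w : Fin 2 → F) :
    polar (MQ m a b) (wv w) (ev i) = 0 := by
  simp [polar_ev, wv]

@[simp] theorem polar_wv_fv (i : Fin m) (w : Fin 2 → F) :
    polar (MQ m a b) (wv w) (fv i) = 0 := by
  simp [polar_fv, wv]

@[simp] theorem polar_wv_wv (v w : Fin 2 → F) :
    polar (MQ m a b) (wv v) (wv w) = polar (binForm a b) v w := by
  rw [polar_wv]; simp [wv]

@[simp] theorem Q_dv (j : Fin m ⊕ Fin m) : MQ m a b (dv j) = 0 := by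
  rcases j with i | i <;> simp [dv]

@[simp] theorem polar_dv_wv (j : Fin m ⊕ Fin m) (w : Fin 2 → F) :
    polar (MQ m a b) (dv j) (wv w) = 0 := by
  rcases j with i | i <;> simp [dv]

@[simp] theorem polar_wv_dv (j : Fin m ⊕ Fin m) (w : Fin 2 → F) :
    polar (MQ m a b) (wv w) (dv j) = 0 := by
  rw [polar_comm, polar_dv_wv]

theorem polar_dv (j k : Fin m ⊕ Fin m) :
    polar (MQ m a b) (dv j) (dv k) = if k = jbar j then 1 else 0 := by
  rcases j with i | i <;> rcases k with l | l <;>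
    simp [dv, jbar, polar_ev_fv, polar_fv_ev]

theorem dv_ne_zero (j : Fin m ⊕ Fin m) : (dv j : MV m F) ≠ 0 := by
  intro h
  have := polar_dv (a := (0 : F)) (b := (0 : F)) j (jbar j)
  rw [h] at this
  simp at this

theorem decomp (x : MV m F) :
    x = (∑ j, polar (MQ m a b) x (dv (jbar j)) • dv j) + wv x.2 := by
  refine Prod.ext (Prod.ext (funext fun i => ?_) (funext fun i => ?_)) ?_
  all_goals
    simp [Prod.fst_sum, Prod.snd_sum, dv, jbar, polar_ev, polar_fv]
    simp [ev, fv, wv, Finset.sum_apply, Pi.single_apply]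

theorem ndPolar (hab : IsAniso a b) : NDPolar (MQ m a b) := ndPolar_hypForm (ndPolar_binForm hab) m

theorem Q_wv_ne (hab : IsAniso a b) {w : Fin 2 → F} (hw : w ≠ 0) : MQ m a b (wv w) ≠ 0 := by
  rw [Q_wv]
  exact fun h => hw (binForm_eq_zero hab h)

/-- two orthogonal hyperbolic pairs and an anisotropic vector -/
theorem exists_frame (hm : 2 ≤ m) : Nonempty (Frame (MQ m a b)) :=
  ⟨hypFrameKernel hm ![1, 0] (by simp [binForm_apply])⟩

/-- The vectors orthogonal to the first `k` hyperbolic pairs. -/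
def Uk (m : ℕ) (F : Type*) [Field F] (k : ℕ) : Submodule F (MV m F) where
  carrier := {x | ∀ i : Fin m, i.val < k → x.1.1 i = 0 ∧ x.1.2 i = 0}
  add_mem' := fun hx hy i hi => by simp [(hx i hi).1, (hx i hi).2, (hy i hi).1, (hy i hi).2]
  zero_mem' := fun i _ => by simp
  smul_mem' := fun c x hx i hi => by simp [(hx i hi).1, (hx i hi).2]

theorem mem_Uk {k : ℕ} {x : MV m F} :
    x ∈ Uk m F k ↔ ∀ i : Fin m, i.val < k → x.1.1 i = 0 ∧ x.1.2 i = 0 := Iff.rfl

theorem mem_Uk_polar {k : ℕ} {x : MV m F} :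
    x ∈ Uk m F k ↔ ∀ i : Fin m, i.val < k →
      polar (MQ m a b) x (fv i) = 0 ∧ polar (MQ m a b) x (ev i) = 0 := by
  simp only [polar_ev, polar_fv]
  rfl

theorem Uk_zero (x : MV m F) : x ∈ Uk m F 0 := fun i hi => absurd hi (by omega)

theorem Uk_mono {k l : ℕ} (h : k ≤ l) {x : MV m F} (hx : x ∈ Uk m F l) : x ∈ Uk m F k :=
  fun i hi => hx i (lt_of_lt_of_le hi h)

theorem wv_mem (k : ℕ) (w : Fin 2 → F) : (wv w : MV m F) ∈ Uk m F k := fun i _ => by simp [wv]

theorem dv_mem {k : ℕ} {j : Fin m ⊕ Fin m} (h : k ≤ jpos j) : (dv j : MV m F) ∈ Uk m F k := by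
  intro i hi
  rcases j with l | l <;> simp only [jpos, Sum.elim_inl, Sum.elim_inr] at h <;>
    simp [dv, ev, fv, Pi.single_apply, show i ≠ l from fun e => by subst e; omega]

theorem ev_mem {k : ℕ} {i : Fin m} (h : k ≤ i.val) : (ev i : MV m F) ∈ Uk m F k :=
  dv_mem (j := Sum.inl i) h

theorem fv_mem {k : ℕ} {i : Fin m} (h : k ≤ i.val) : (fv i : MV m F) ∈ Uk m F k :=
  dv_mem (j := Sum.inr i) h

theorem polar_ev_of_mem {k : ℕ} {x : MV m F} (hx : x ∈ Uk m F k) {i : Fin m} (hi : i.val < k) :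
    polar (MQ m a b) x (ev i) = 0 := by rw [polar_ev]; exact (hx i hi).2

theorem polar_fv_of_mem {k : ℕ} {x : MV m F} (hx : x ∈ Uk m F k) {i : Fin m} (hi : i.val < k) :
    polar (MQ m a b) x (fv i) = 0 := by rw [polar_fv]; exact (hx i hi).1

theorem mem_Uk_succ {i : Fin m} {x : MV m F} (hx : x ∈ Uk m F i.val)
    (he : polar (MQ m a b) x (ev i) = 0) (hf : polar (MQ m a b) x (fv i) = 0) :
    x ∈ Uk m F (i.val + 1) := by
  intro l hl
  by_cases h : l = i
  · subst h; rw [polar_ev] at he; rw [polar_fv] at hf; exact ⟨hf, he⟩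
  · exact hx l (by
      have : l.val ≠ i.val := fun e => h (Fin.ext e)
      omega)

/-- isometries fixing the first pairs preserve the complement -/
theorem apply_mem_Uk {k : ℕ} {g : Orth (MQ m a b)}
    (hg : ∀ i : Fin m, i.val < k → g.1 (ev i) = ev i ∧ g.1 (fv i) = fv i) {x : MV m F}
    (hx : x ∈ Uk m F k) : g.1 x ∈ Uk m F k := by
  rw [mem_Uk_polar (a := a) (b := b)] at hx ⊢
  intro i hi
  constructor
  · rw [← (hg i hi).2, orth_polar]; exact (hx i hi).1
  · rw [← (hg i hi).1, orth_polar]; exact (hx i hi).2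

/-- a map is determined by the hyperbolic pairs and the plane -/
theorem orth_ext_basis {g h : Orth (MQ m a b)}
    (hd : ∀ j, g.1 (dv j) = h.1 (dv j)) (hw : ∀ w, g.1 (wv w) = h.1 (wv w)) : g = h := by
  refine orth_ext fun x => ?_
  rw [decomp (a := a) (b := b) x]
  simp only [map_add, map_sum, map_smul, hd, hw]

end CfsgLib.SpinMinus
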