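import Cfsg.Agent.Lib.SpinMinus.Model

/-!
The groups generated by short root elements of the lower levels: transitivity and stabilisers.
-/

set_option autoImplicit false
set_option linter.unusedSectionVars false

namespace CfsgLib.SpinMinus

open QuadraticMap CfsgLib.Classical.Quad
open scoped commutatorElement

variable {F : Type*} [Field F] [Fintype F] {a b : F} {m : ℕ}

/-- the reflection-swap of a hyperbolic pair -/
noncomputable def nEl (a b : F) (i : Fin m) (w : Fin 2 → F) : Orth (MQ m a b) :=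
  T (MQ m a b) (ev i) (wv w) * T (MQ m a b) (fv i) (wv ((binForm a b w)⁻¹ • w)) *
    T (MQ m a b) (ev i) (wv w)

theorem nEl_spec (hab : IsAniso a b) (i : Fin m) {w : Fin 2 → F} (hw : w ≠ 0) :
    (nEl a b i w).1 (ev i) = (-(binForm a b w)⁻¹) • fv i ∧
    (nEl a b i w).1 (fv i) = (-(binForm a b w)) • ev i ∧
    ∀ x, polar (MQ m a b) x (ev i) = 0 → polar (MQ m a b) x (fv i) = 0 →
      (nEl a b i w).1 x = (refl (MQ m a b) (wv w)).1 x := by
  set c := binForm a b w with hc
  have hc0 : c ≠ 0 := fun h => hw (binForm_eq_zero hab h)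
  set A := T (MQ m a b) (ev i) (wv w)
  set B' := T (MQ m a b) (fv i) (wv (c⁻¹ • w))
  have hA : ∀ x, A.1 x = x + polar (MQ m a b) x (ev i) • wv w +
      (-(polar (MQ m a b) x (wv w)) - c * polar (MQ m a b) x (ev i)) • ev i := fun x => by
    rw [T_apply (Q_ev i) (polar_ev_wv i w), Q_wv]
  have hB : ∀ x, B'.1 x = x + (c⁻¹ * polar (MQ m a b) x (fv i)) • wv w +
      (-(c⁻¹ * polar (MQ m a b) x (wv w)) - c⁻¹ * polar (MQ m a b) x (fv i)) • fv i := fun x => by
    rw [T_apply (Q_fv i) (polar_fv_wv i _), Q_wv, QuadraticMap.map_smul, map_smul, polar_smul_right,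
      smul_eq_mul, smul_eq_mul, ← hc]
    match_scalars <;> field_simp
  have hAe : A.1 (ev i) = ev i := by rw [hA]; simp
  have hww : polar (binForm a b) w w = 2 * c := polar_self' w
  refine ⟨?_, ?_, fun x h1 h2 => ?_⟩
  · show A.1 (B'.1 (A.1 (ev i))) = _
    rw [hAe, hB]
    simp only [polar_ev_fv_self, polar_ev_wv, mul_zero, neg_zero, mul_one, zero_sub, map_add,
      map_smul, hAe]
    rw [hA (wv w), hA (fv i)]
    simp only [polar_wv_ev, polar_wv_wv, hww, polar_fv_ev_self, polar_fv_wv]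
    match_scalars <;> field_simp <;> ring
  · show A.1 (B'.1 (A.1 (fv i))) = _
    rw [hA (fv i)]
    simp only [polar_fv_ev_self, polar_fv_wv]
    rw [hB]
    simp only [polar_add_left, polar_smul_left, polar_wv_fv, polar_ev_fv_self, polar_fv_fv,
      polar_fv_wv, polar_wv_wv, polar_ev_wv, hww, smul_eq_mul]
    simp only [map_add, map_smul, hAe]
    rw [hA (wv w), hA (fv i)]
    simp only [polar_wv_ev, polar_wv_wv, hww, polar_fv_ev_self, polar_fv_wv]
    match_scalars <;> field_simp <;> ring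
  · show A.1 (B'.1 (A.1 x)) = _
    rw [hA x, h1]
    rw [hB, refl_apply]
    simp only [polar_add_left, polar_smul_left, h2, polar_wv_fv, polar_ev_fv_self, polar_wv_wv,
      polar_ev_wv, Q_wv, ← hc, smul_eq_mul]
    simp only [map_add, map_smul, hAe]
    rw [hA x, hA (wv w), hA (fv i)]
    simp only [h1, polar_wv_ev, polar_wv_wv, hww, polar_fv_ev_self, polar_fv_wv]
    match_scalars <;> field_simp <;> ring

/-- the torus element of two anisotropic vectors -/
noncomputable def hEl (a b : F) (i : Fin m) (w w' : Fin 2 → F) : Orth (MQ m a b) :=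
  nEl a b i w * nEl a b i w'

theorem hEl_spec (hab : IsAniso a b) (i : Fin m) {w w' : Fin 2 → F} (hw : w ≠ 0) (hw' : w' ≠ 0) :
    (hEl a b i w w').1 (ev i) = (binForm a b w / binForm a b w') • ev i ∧
    (hEl a b i w w').1 (fv i) = (binForm a b w' / binForm a b w) • fv i ∧
    ∀ x, polar (MQ m a b) x (ev i) = 0 → polar (MQ m a b) x (fv i) = 0 →
      (hEl a b i w w').1 x = (refl (MQ m a b) (wv w) * refl (MQ m a b) (wv w')).1 x := by
  obtain ⟨a1, a2, a3⟩ := nEl_spec hab i hw
  obtain ⟨b1, b2, b3⟩ := nEl_spec hab i hw'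
  refine ⟨?_, ?_, fun x h1 h2 => ?_⟩
  · rw [hEl, mul_apply, b1, map_smul, a2, smul_smul]
    congr 1
    ring
  · rw [hEl, mul_apply, b2, map_smul, a1, smul_smul]
    congr 1
    ring
  · rw [hEl, mul_apply, mul_apply, b3 x h1 h2, a3]
    · rw [refl_apply]; simp [h1, polar_add_left]
    · rw [refl_apply]; simp [h2, polar_add_left]

/-- the group generated by the short root elements of the levels at least `k` -/
noncomputable def Mk (m : ℕ) (a b : F) (k : ℕ) : Subgroup (Orth (MQ m a b)) :=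
  Subgroup.closure {g | ∃ (j : Fin m ⊕ Fin m) (w : Fin 2 → F), k ≤ jpos j ∧
    g = T (MQ m a b) (dv j) (wv w)}

theorem T_mem_Mk {k : ℕ} {j : Fin m ⊕ Fin m} (h : k ≤ jpos j) (w : Fin 2 → F) :
    T (MQ m a b) (dv j) (wv w) ∈ Mk m a b k :=
  Subgroup.subset_closure ⟨j, w, h, rfl⟩

theorem Mk_anti {k l : ℕ} (h : k ≤ l) : Mk m a b l ≤ Mk m a b k :=
  Subgroup.closure_mono fun _ ⟨j, w, hj, e⟩ => ⟨j, w, h.trans hj, e⟩

theorem Mk_le (k : ℕ) : Mk m a b k ≤ siegelGroup (MQ m a b) :=
  (Subgroup.closure_le _).2 fun _ ⟨_, _, _, e⟩ => e ▸ T_mem _ _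

theorem nEl_mem {k : ℕ} {i : Fin m} (h : k ≤ i.val) (w : Fin 2 → F) :
    nEl a b i w ∈ Mk m a b k :=
  mul_mem (mul_mem (T_mem_Mk (j := Sum.inl i) h w) (T_mem_Mk (j := Sum.inr i) h _))
    (T_mem_Mk (j := Sum.inl i) h w)

theorem hEl_mem {k : ℕ} {i : Fin m} (h : k ≤ i.val) (w w' : Fin 2 → F) :
    hEl a b i w w' ∈ Mk m a b k := mul_mem (nEl_mem h w) (nEl_mem h w')

theorem Mk_fix {k : ℕ} {g : Orth (MQ m a b)} (hg : g ∈ Mk m a b k) :
    ∀ i : Fin m, i.val < k → g.1 (ev i) = ev i ∧ g.1 (fv i) = fv i := by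
  intro i hi
  have key : ∀ j' : Fin m ⊕ Fin m, jpos j' < k → g.1 (dv j') = dv j' := by
    induction hg using Subgroup.closure_induction with
    | mem x hx =>
      obtain ⟨j, w, hj, rfl⟩ := hx
      intro j' hj'
      refine T_fix (Q_dv j) (polar_dv_wv j w) ?_ (polar_dv_wv j' w)
      rw [polar_dv, if_neg]
      intro e
      rw [e, jpos_bar] at hj
      omega
    | one => intro j' _; rfl
    | mul x y _ _ hx hy => intro j' hj'; rw [mul_apply, hy j' hj', hx j' hj']
    | inv x _ hx =>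
      intro j' hj'
      conv_lhs => rw [← hx j' hj']
      exact inv_apply_self x _
  exact ⟨key (Sum.inl i) hi, key (Sum.inr i) hi⟩

theorem Mk_apply_mem {k : ℕ} {g : Orth (MQ m a b)} (hg : g ∈ Mk m a b k) {x : MV m F}
    (hx : x ∈ Uk m F k) : g.1 x ∈ Uk m F k := apply_mem_Uk (Mk_fix hg) hx

theorem T_long_mem {k : ℕ} {j j' : Fin m ⊕ Fin m} (hj : k ≤ jpos j) (hj' : k ≤ jpos j')
    (h : j' ≠ jbar j) (w w' : Fin 2 → F) :
    T (MQ m a b) (dv j) (polar (binForm a b) w w' • dv j') ∈ Mk m a b k := by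
  have hp : polar (MQ m a b) (dv j) (dv j') = 0 := by rw [polar_dv, if_neg h]
  have e := T_comm (w := wv w) (w' := wv w') (Q_dv j) (Q_dv j') hp (polar_dv_wv j w) (polar_dv_wv j' w)
    (polar_dv_wv (a := a) (b := b) j w') (polar_dv_wv j' w')
  rw [polar_wv_wv] at e
  rw [← e, commutatorElement_def]
  exact mul_mem (mul_mem (mul_mem (T_mem_Mk hj w) (T_mem_Mk hj' w')) (inv_mem (T_mem_Mk hj w)))
    (inv_mem (T_mem_Mk hj' w'))

theorem exists_binPolar (hab : IsAniso a b) (t : F) : ∃ w w', polar (binForm a b) w w' = t := by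
  obtain ⟨x, hx⟩ := exists_polar_one (ndPolar_binForm hab) (u := ![1, 0]) (by simp)
  exact ⟨![1, 0], t • x, by rw [polar_smul_right, hx, smul_eq_mul, mul_one]⟩

/-- every root element at a basis vector inside the level -/
theorem T_basis_mem (hab : IsAniso a b) {k : ℕ} {j : Fin m ⊕ Fin m} (hj : k ≤ jpos j) {y : MV m F}
    (hy : y ∈ Uk m F k) (hjy : polar (MQ m a b) (dv j) y = 0) :
    T (MQ m a b) (dv j) y ∈ Mk m a b k := by
  classical
  let P : MV m F → Prop := fun z =>
    polar (MQ m a b) (dv j) z = 0 ∧ T (MQ m a b) (dv j) z ∈ Mk m a b k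
  have padd : ∀ z z', P z → P z' → P (z + z') := fun z z' hz hz' =>
    ⟨by rw [polar_add_right, hz.1, hz'.1, add_zero], by
      rw [← T_add (Q_dv j) hz.1 hz'.1]; exact mul_mem hz.2 hz'.2⟩
  suffices P y from this.2
  rw [decomp (a := a) (b := b) y]
  refine padd _ _ (Finset.sum_induction _ P padd ⟨by simp, by rw [T_zero_right]; exact one_mem _⟩ ?_)
    ⟨polar_dv_wv _ _, T_mem_Mk hj _⟩
  intro l _
  set t := polar (MQ m a b) y (dv (jbar l))
  by_cases ht : t = 0
  · rw [ht, zero_smul]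
    exact ⟨by simp, by rw [T_zero_right]; exact one_mem _⟩
  have hl : k ≤ jpos l := by
    by_contra hh
    push Not at hh
    apply ht
    show polar (MQ m a b) y _ = 0
    rcases l with i | i
    · exact polar_fv_of_mem hy (i := i) hh
    · exact polar_ev_of_mem hy (i := i) hh
  have hlj : l ≠ jbar j := by
    intro e
    apply ht
    show polar (MQ m a b) y _ = 0
    rw [e, jbar_jbar, polar_comm]
    exact hjy
  obtain ⟨w, w', hww⟩ := exists_binPolar hab t
  refine ⟨by rw [polar_smul_right, polar_dv, if_neg hlj, smul_zero], ?_⟩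
  rw [← hww]
  exact T_long_mem hj hl hlj w w'

/-- scaling a basis vector -/
theorem exists_scale (hab : IsAniso a b) (i : Fin m) {c : F} (hc : c ≠ 0) :
    ∃ g ∈ Mk m a b i.val, g.1 (ev i) = c • ev i := by
  obtain ⟨w, hw⟩ := exists_binForm_eq hab c
  have hw0 : w ≠ 0 := by rintro rfl; rw [QuadraticMap.map_zero] at hw; exact hc hw.symm
  have h1 : (![1, 0] : Fin 2 → F) ≠ 0 := by simp
  refine ⟨hEl a b i w ![1, 0], hEl_mem le_rfl _ _, ?_⟩
  rw [(hEl_spec hab i hw0 h1).1, hw]
  simp [binForm_apply]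

/-- transitivity on singular vectors of a level -/
theorem exists_to_ev (hab : IsAniso a b) (i : Fin m) {v : MV m F} (hv : v ∈ Uk m F i.val)
    (hv0 : v ≠ 0) (hQ : MQ m a b v = 0) : ∃ g ∈ Mk m a b i.val, g.1 (ev i) = v := by
  have step1 : ∀ x ∈ Uk m F i.val, MQ m a b x = 0 → polar (MQ m a b) x (fv i) ≠ 0 →
      ∃ g ∈ Mk m a b i.val, g.1 (ev i) = x := by
    intro x hx hxQ hc
    set c := polar (MQ m a b) x (fv i) with hcdef
    set y := c⁻¹ • x - ev i - (c⁻¹ * polar (MQ m a b) x (ev i)) • fv i with hy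
    have hyU : y ∈ Uk m F i.val := by
      refine Submodule.sub_mem _ (Submodule.sub_mem _ (Submodule.smul_mem _ _ hx) (ev_mem le_rfl))
        (Submodule.smul_mem _ _ (fv_mem le_rfl))
    have hyf : polar (MQ m a b) (fv i) y = 0 := by
      rw [polar_comm, hy]
      simp [polar_sub_left, ← hcdef, inv_mul_cancel₀ hc]
    have hye : polar (MQ m a b) y (ev i) = 0 := by
      rw [hy]; simp [polar_sub_left]
    obtain ⟨g, hg, hge⟩ := exists_scale hab i hc
    refine ⟨g * T (MQ m a b) (g⁻¹.1 (fv i)) (g⁻¹.1 y), ?_, ?_⟩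
    · rw [← T_conj g⁻¹, inv_inv, ← mul_assoc, ← mul_assoc, mul_inv_cancel, one_mul]
      exact mul_mem (T_basis_mem hab (j := Sum.inr i) le_rfl hyU hyf) hg
    · rw [← T_conj g⁻¹, inv_inv, ← mul_assoc, ← mul_assoc, mul_inv_cancel, one_mul, mul_apply, hge,
        map_smul, T_apply (Q_fv i) hyf, polar_ev_fv_self, polar_comm _ (ev i) y, hye, one_smul,
        neg_zero, zero_sub, mul_one]
      have hQy : MQ m a b y = -(c⁻¹ * polar (MQ m a b) x (ev i)) := by
        have e : y + (ev i + (c⁻¹ * polar (MQ m a b) x (ev i)) • fv i) = c⁻¹ • x := by rw [hy]; abel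
        have h := congrArg (MQ m a b) e
        rw [QuadraticMap.map_smul, hxQ, smul_zero, QuadraticMap.map_add (MQ m a b),
          QuadraticMap.map_add (MQ m a b) (ev i), polar_add_right, polar_smul_right,
          polar_smul_right, QuadraticMap.map_smul, Q_ev, Q_fv, hye, polar_comm _ y (fv i), hyf,
          polar_ev_fv_self] at h
        simp only [smul_eq_mul, mul_zero, mul_one, add_zero, zero_add] at h
        linear_combination h
      rw [hQy, neg_neg, hy]
      match_scalars <;> field_simp <;> ring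
  by_cases h1 : polar (MQ m a b) v (fv i) = 0
  swap
  · exact step1 v hv hQ h1
  suffices ∃ y ∈ Uk m F i.val, polar (MQ m a b) (ev i) y = 0 ∧ polar (MQ m a b) y (fv i) = 0 ∧
      polar (MQ m a b) v y + MQ m a b y * polar (MQ m a b) v (ev i) ≠ 0 by
    obtain ⟨y, hy, hey, hyf, hne⟩ := this
    have hS := T_basis_mem (j := Sum.inl i) hab le_rfl hy hey
    set S := T (MQ m a b) (ev i) y
    have hS' : T (MQ m a b) (dv (Sum.inl i)) y = S := rfl
    rw [hS'] at hS
    have hc : polar (MQ m a b) (S.1 v) (fv i) ≠ 0 := by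
      rw [T_apply (Q_ev i) hey, polar_add_left, polar_add_left, polar_smul_left, polar_smul_left, h1,
        hyf, polar_ev_fv_self]
      simp only [smul_eq_mul, mul_zero, mul_one, zero_add]
      exact fun h0 => hne (by linear_combination -h0)
    obtain ⟨g, hg, hge⟩ := step1 _ (Mk_apply_mem hS hv) (by rw [orth_Q]; exact hQ) hc
    exact ⟨S⁻¹ * g, mul_mem (inv_mem hS) hg, by rw [mul_apply, hge, inv_apply_self]⟩
  by_cases h2 : ∃ l, i.val < jpos l ∧ polar (MQ m a b) v (dv l) ≠ 0
  · obtain ⟨l, hl, hne⟩ := h2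
    have h3 : dv (F := F) l ∈ Uk m F (i.val + 1) := dv_mem hl
    exact ⟨dv l, dv_mem hl.le, by rw [polar_comm]; exact polar_ev_of_mem h3 (Nat.lt_succ_self _),
      polar_fv_of_mem h3 (Nat.lt_succ_self _), by rwa [Q_dv, zero_mul, add_zero]⟩
  push Not at h2
  have hvd : v = polar (MQ m a b) v (ev i) • fv i + wv v.2 := by
    conv_lhs => rw [decomp (a := a) (b := b) v]
    congr 1
    rw [Finset.sum_eq_single (Sum.inr i)]
    · rfl
    · intro l _ hl
      by_cases h3 : i.val < jpos l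
      · rw [h2 _ (by rwa [jpos_bar]), zero_smul]
      by_cases h4 : l = Sum.inl i
      · subst h4
        show polar (MQ m a b) v (fv i) • _ = 0
        rw [h1, zero_smul]
      · have h5 : jpos l < i.val := by
          rcases l with l | l
          · have : l.val ≠ i.val := fun e => h4 (by rw [Fin.ext e])
            simp only [jpos, Sum.elim_inl] at h3 ⊢
            omega
          · have : l.val ≠ i.val := fun e => hl (by rw [Fin.ext e])
            simp only [jpos, Sum.elim_inr] at h3 ⊢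
            omega
        rcases l with l | l
        · show polar (MQ m a b) v (fv l) • _ = 0
          rw [polar_fv_of_mem hv h5, zero_smul]
        · show polar (MQ m a b) v (ev l) • _ = 0
          rw [polar_ev_of_mem hv h5, zero_smul]
    · simp
  have hw : v.2 = 0 := by
    refine binForm_eq_zero hab ?_
    have h := congrArg (MQ m a b) hvd
    rw [hQ, QuadraticMap.map_add (MQ m a b), QuadraticMap.map_smul, Q_fv, polar_smul_left,
      polar_fv_wv, Q_wv] at h
    simpa using h.symm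
  rw [hw, map_zero, add_zero] at hvd
  have hve : polar (MQ m a b) v (ev i) ≠ 0 := fun e => hv0 (by rw [hvd, e, zero_smul])
  refine ⟨wv ![1, 0], wv_mem _ _, polar_ev_wv _ _, polar_wv_fv _ _, ?_⟩
  have h6 : polar (MQ m a b) v (wv (![1, 0] : Fin 2 → F)) = 0 := by
    rw [hvd]; simp
  rw [h6, zero_add, Q_wv]
  exact mul_ne_zero (by simp [binForm_apply]) hve

/-- transitivity on hyperbolic pairs of a level -/
theorem exists_to_pair (hab : IsAniso a b) (i : Fin m) {v z : MV m F} (hv : v ∈ Uk m F i.val)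
    (hz : z ∈ Uk m F i.val) (h : IsHPair (MQ m a b) v z) :
    ∃ g ∈ Mk m a b i.val, g.1 (ev i) = v ∧ g.1 (fv i) = z := by
  obtain ⟨g, hg, hge⟩ := exists_to_ev hab i hv h.left_ne_zero h.1
  have h' := h.map g⁻¹
  rw [← hge, inv_apply_self] at h'
  set z' := g⁻¹.1 z with hz'
  have hzU : z' ∈ Uk m F i.val := Mk_apply_mem (inv_mem hg) hz
  have hyU : z' - fv i ∈ Uk m F i.val := Submodule.sub_mem _ hzU (fv_mem le_rfl)
  have hy' : polar (MQ m a b) (ev i) (z' - fv i) = 0 := by
    rw [polar_sub_right, h'.2.2, polar_ev_fv_self, sub_self]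
  have hS2 := T_basis_mem (j := Sum.inl i) hab le_rfl hyU hy'
  refine ⟨g * T (MQ m a b) (ev i) (z' - fv i), mul_mem hg hS2, ?_, ?_⟩
  · rw [mul_apply, T_fix (Q_ev i) hy' (polar_singular_self (Q_ev i)) hy', hge]
  · have hQz : MQ m a b (z' - fv i) = -polar (MQ m a b) z' (fv i) := by
      rw [sub_eq_add_neg, QuadraticMap.map_add (MQ m a b), QuadraticMap.map_neg, h'.2.1, Q_fv,
        polar_neg_right]
      ring
    rw [mul_apply, T_apply (Q_ev i) hy', polar_fv_ev_self, hQz, one_smul, polar_sub_right,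
      polar_fv_fv, polar_comm _ (fv i) z', sub_zero, mul_one, neg_sub_neg, sub_self, zero_smul,
      add_zero, add_sub_cancel, hz', self_apply_inv]

end CfsgLib.SpinMinus
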