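import Cfsg.Agent.Lib.SpinMinus.Vanish

/-!
The lifted root group at the first basis vector, and its covariance under the stabiliser.
-/

set_option autoImplicit false
set_option linter.unusedSectionVars false

namespace CfsgLib.SpinMinus

open QuadraticMap CfsgLib.Classical.Quad
open scoped commutatorElement

variable {F : Type*} [Field F] [Fintype F] {a b : F} {m : ℕ}

theorem dv_snd (j : Fin m ⊕ Fin m) : (dv j : MV m F).2 = 0 := by rcases j with i | i <;> rfl

theorem iso_ne {j k : Fin m ⊕ Fin m} (h : jpos j ≠ jpos k) : Iso2 a b (dv j : MV m F) (dv k) :=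
  iso_dv (jbar_of_pos h)

theorem iso_self (j : Fin m ⊕ Fin m) : Iso2 a b (dv j : MV m F) (dv j) :=
  Iso2.refl' (dv_snd j) (Q_dv j)

/-- the indices away from a pair -/
def Jx (i : Fin m) : Finset (Fin m ⊕ Fin m) := Finset.univ.filter fun j => jpos j ≠ i.val

theorem mem_Jx {i : Fin m} {j : Fin m ⊕ Fin m} : j ∈ Jx i ↔ jpos j ≠ i.val := by simp [Jx]

/-- coordinate along a basis vector -/
noncomputable def coef (j : Fin m ⊕ Fin m) : MV m F →ₗ[F] F :=
  match j with
  | .inl i => (LinearMap.proj i).comp ((LinearMap.fst F _ _).comp (LinearMap.fst F _ _))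
  | .inr i => (LinearMap.proj i).comp ((LinearMap.snd F _ _).comp (LinearMap.fst F _ _))

theorem coef_eq (j : Fin m ⊕ Fin m) (x : MV m F) :
    coef j x = polar (MQ m a b) x (dv (jbar j)) := by
  rcases j with i | i
  · exact (polar_fv x i).symm
  · exact (polar_ev x i).symm

theorem coef_dv (j k : Fin m ⊕ Fin m) : coef j (dv k : MV m F) = if k = j then 1 else 0 := by
  rcases j with i | i <;> rcases k with l | l <;>
    simp [coef, dv, ev, fv, Pi.single_apply, eq_comm]

theorem coef_wv (j : Fin m ⊕ Fin m) (w : Fin 2 → F) : coef j (wv w : MV m F) = 0 := by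
  rcases j with i | i <;> simp [coef, wv]

variable {E : Type*} [Group E] {σ : E →* Orth (MQ m a b)}

/-- the generators of the lifted root group -/
def Aset (σ : E →* Orth (MQ m a b)) (hab : IsAniso a b) (i : Fin m) : Set E :=
  {g | (∃ w, g = Sl σ hab (dv (Sum.inl i)) w) ∨
    ∃ j t, jpos j ≠ i.val ∧ g = Ll σ hab (Sum.inl i) j t}

namespace CExt

variable (C : CExt σ)
include C

theorem Sl_commute (j : Fin m ⊕ Fin m) (w w' : Fin 2 → F) :
    Commute (Sl σ C.aniso (dv j) w) (Sl σ C.aniso (dv j) w') :=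
  C.commute_of_cm (C.sigma_Sl (dv_snd j) (Q_dv j) w) (C.sigma_Sl (dv_snd j) (Q_dv j) w')
    (C.phi_one j w w')

theorem Ll_commute_Sl {j k p : Fin m ⊕ Fin m} (hjk : jpos j ≠ jpos k)
    (h1 : j ≠ jbar p) (h2 : k ≠ jbar p) (t : F) (w : Fin 2 → F) :
    Commute (Ll σ C.aniso j k t) (Sl σ C.aniso (dv p) w) :=
  C.commute_of_cm (C.Ll_image hjk t) (C.sigma_Sl (dv_snd p) (Q_dv p) w)
    (C.long_short_cm (iso_ne hjk) (iso_dv h1) (iso_dv h2) t w)

theorem Ll_commute_common {j k l : Fin m ⊕ Fin m} (hjk : jpos j ≠ jpos k) (hjl : jpos j ≠ jpos l)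
    (s t : F) : Commute (Ll σ C.aniso j k s) (Ll σ C.aniso j l t) := by
  set x := Ll σ C.aniso j k s
  set u : MV m F := dv j
  have hx : σ x = T (MQ m a b) u (s • dv k) := C.Ll_image hjk s
  have hW : ∀ w, (σ x).1 (wv w) = wv w := fun w => by rw [hx]; exact long_fix_wv (iso_ne hjk) s w
  show x * Gc σ u (dv l) _ _ = Gc σ u (dv l) _ _ * x
  rw [← mul_inv_eq_iff_eq_mul, C.conj_Gc hW, hx]
  have hu : (T (MQ m a b) u (s • dv k)).1 u = u :=
    long_fix (iso_ne hjk) (iso_self j) (iso_ne hjk) s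
  have hk : polar (MQ m a b) (dv l) u = (0 : F) := (iso_ne hjl).symm.huc
  have hl : (T (MQ m a b) u (s • dv k)).1 (dv l) =
      dv l + (-(s * polar (MQ m a b) (dv l) (dv k))) • u := by
    rw [T_apply (Q_dv j) (by rw [polar_smul_right,
      show polar (MQ m a b) u (dv k) = (0 : F) from (iso_ne hjk).huc, smul_zero]), hk,
      polar_smul_right, zero_smul, add_zero, mul_zero, sub_zero, smul_eq_mul]
  rw [hu, hl]
  set c := -(s * polar (MQ m a b) (dv l : MV m F) (dv k))
  have hiso : Iso2 a b u (c • u) := by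
    have := (iso_self (a := a) (b := b) (F := F) j).smul 1 c
    rwa [one_smul] at this
  have hiso' : Iso2 a b (dv l) (c • u) := by
    have := (iso_ne (a := a) (b := b) (F := F) hjl.symm).smul 1 c
    rwa [one_smul] at this
  rw [C.Gc_add_right (iso_ne hjl) hiso hiso']
  have hone : ∀ w w', Gc σ u (c • u) w w' = 1 := fun w w' => by
    rw [Gc, T_smul_left c (Q_dv j) (polar_dv_wv j w'), ← map_smul]
    exact C.phi_one j w (c • w')
  rw [hone, mul_one]

theorem Aset_comm (i : Fin m) : ∀ x ∈ Aset σ C.aniso i, ∀ y ∈ Aset σ C.aniso i, x * y = y * x := by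
  have hb : ∀ j : Fin m ⊕ Fin m, jpos j ≠ i.val → j ≠ jbar (Sum.inl i) := by
    intro j hj e
    exact hj (by rw [e, jpos_bar]; rfl)
  have h0 : (Sum.inl i : Fin m ⊕ Fin m) ≠ jbar (Sum.inl i) := (jbar_ne _).symm
  rintro x (⟨w, rfl⟩ | ⟨j, s, hj, rfl⟩) y (⟨w', rfl⟩ | ⟨k, t, hk, rfl⟩)
  · exact (C.Sl_commute _ w w').eq
  · exact (C.Ll_commute_Sl (fun e => hk e.symm) h0 (hb k hk) t w).eq.symm
  · exact (C.Ll_commute_Sl (fun e => hj e.symm) h0 (hb j hj) s w').eq
  · exact (C.Ll_commute_common (fun e => hj e.symm) (fun e => hk e.symm) s t).eq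

end CExt

/-- the lifted root group at the first vector of pair `i` -/
def Agrp (σ : E →* Orth (MQ m a b)) (hab : IsAniso a b) (i : Fin m) : Subgroup E :=
  Subgroup.closure (Aset σ hab i)

/-- the canonical lift of a root element at the first vector of pair `i` -/
noncomputable def Phi (σ : E →* Orth (MQ m a b)) (hab : IsAniso a b) (i : Fin m) (x : MV m F) : E :=
  Sl σ hab (dv (Sum.inl i)) x.2 *
    ((Jx i).toList.map fun j => Ll σ hab (Sum.inl i) j (coef j x)).prod

theorem list_prod_mul {A B : Type*} [Group B] (f g : A → B) (S : Subgroup B)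
    (hS : ∀ x ∈ S, ∀ y ∈ S, x * y = y * x) :
    ∀ (l : List A), (∀ j ∈ l, f j ∈ S ∧ g j ∈ S) →
      (l.map fun j => f j * g j).prod = (l.map f).prod * (l.map g).prod
  | [], _ => by simp
  | j :: l, h => by
    have hf : ∀ k ∈ l, f k ∈ S ∧ g k ∈ S := fun k hk => h k (List.mem_cons_of_mem _ hk)
    have hp : (l.map f).prod ∈ S := by
      refine list_prod_mem fun x hx => ?_
      obtain ⟨k, hk, rfl⟩ := List.mem_map.1 hx
      exact (hf k hk).1
    simp only [List.map_cons, List.prod_cons]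
    rw [list_prod_mul f g S hS l hf]
    have e := hS _ hp _ (h j List.mem_cons_self).2
    calc f j * g j * ((l.map f).prod * (l.map g).prod)
        = f j * (g j * (l.map f).prod) * (l.map g).prod := by group
      _ = _ := by rw [← e]; group

namespace CExt

variable (C : CExt σ)
include C

theorem Agrp_comm (i : Fin m) : ∀ x ∈ Agrp σ C.aniso i, ∀ y ∈ Agrp σ C.aniso i, x * y = y * x := by
  have h : Agrp σ C.aniso i ≤ Subgroup.centralizer (Aset σ C.aniso i) :=
    (Subgroup.closure_le _).2 fun x hx =>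
      Subgroup.mem_centralizer_iff.2 fun y hy => C.Aset_comm i y hy x hx
  have h' : Agrp σ C.aniso i ≤ Subgroup.centralizer (Agrp σ C.aniso i : Set E) := by
    rw [Agrp, Subgroup.centralizer_closure]
    exact h
  exact fun x hx y hy => (Subgroup.mem_centralizer_iff.1 (h' hx) y hy).symm

theorem Phi_mem (i : Fin m) (x : MV m F) : Phi σ C.aniso i x ∈ Agrp σ C.aniso i := by
  refine mul_mem (Subgroup.subset_closure (Or.inl ⟨_, rfl⟩)) (list_prod_mem fun y hy => ?_)
  obtain ⟨j, hj, rfl⟩ := List.mem_map.1 hy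
  exact Subgroup.subset_closure (Or.inr ⟨j, _, mem_Jx.1 (Finset.mem_toList.1 hj), rfl⟩)

theorem Phi_add (i : Fin m) (x y : MV m F) :
    Phi σ C.aniso i (x + y) = Phi σ C.aniso i x * Phi σ C.aniso i y := by
  have e : ((Jx i).toList.map fun j => Ll σ C.aniso (Sum.inl i) j (coef j (x + y))) =
      (Jx i).toList.map fun j =>
        Ll σ C.aniso (Sum.inl i) j (coef j x) * Ll σ C.aniso (Sum.inl i) j (coef j y) := by
    refine List.map_congr_left fun j hj => ?_
    rw [map_add, C.Ll_add (fun e => mem_Jx.1 (Finset.mem_toList.1 hj) e.symm)]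
  rw [Phi, Phi, Phi, e, list_prod_mul _ _ (Agrp σ C.aniso i) (C.Agrp_comm i) _ (fun j hj =>
    ⟨Subgroup.subset_closure (Or.inr ⟨j, _, mem_Jx.1 (Finset.mem_toList.1 hj), rfl⟩),
      Subgroup.subset_closure (Or.inr ⟨j, _, mem_Jx.1 (Finset.mem_toList.1 hj), rfl⟩)⟩),
    Prod.snd_add, C.Sl_add]
  set S := Sl σ C.aniso (dv (Sum.inl i)) y.2
  set P := ((Jx i).toList.map fun j => Ll σ C.aniso (Sum.inl i) j (coef j x)).prod
  have hS : S ∈ Agrp σ C.aniso i := Subgroup.subset_closure (Or.inl ⟨_, rfl⟩)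
  have hP : P ∈ Agrp σ C.aniso i := by
    refine list_prod_mem fun z hz => ?_
    obtain ⟨j, hj, rfl⟩ := List.mem_map.1 hz
    exact Subgroup.subset_closure (Or.inr ⟨j, _, mem_Jx.1 (Finset.mem_toList.1 hj), rfl⟩)
  generalize ((Jx i).toList.map fun j => Ll σ C.aniso (Sum.inl i) j (coef j y)).prod = R
  calc Sl σ C.aniso (dv (Sum.inl i)) x.2 * S * (P * R)
      = Sl σ C.aniso (dv (Sum.inl i)) x.2 * (S * P) * R := by group
    _ = _ := by rw [C.Agrp_comm i S hS P hP]; group

theorem Phi_zero (i : Fin m) : Phi σ C.aniso i 0 = 1 := by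
  have h := C.Phi_add i 0 0
  rw [add_zero] at h
  exact left_eq_mul.1 h

theorem Phi_neg (i : Fin m) (x : MV m F) : Phi σ C.aniso i (-x) = (Phi σ C.aniso i x)⁻¹ := by
  have h := C.Phi_add i (-x) x
  rw [neg_add_cancel, C.Phi_zero] at h
  exact eq_inv_of_mul_eq_one_left h.symm

theorem Phi_ev (i : Fin m) (c : F) : Phi σ C.aniso i (c • ev i) = 1 := by
  have h1 : (c • (ev i : MV m F)).2 = 0 := by simp [ev]
  have h2 : Sl σ C.aniso (dv (Sum.inl i)) 0 = 1 := by
    have := C.Sl_add (Sum.inl i) 0 0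
    rw [add_zero] at this
    exact left_eq_mul.1 this
  rw [Phi, h1, h2, one_mul]
  refine List.prod_eq_one fun y hy => ?_
  obtain ⟨j, hj, rfl⟩ := List.mem_map.1 hy
  have hj' := mem_Jx.1 (Finset.mem_toList.1 hj)
  rw [map_smul, show coef j (ev i : MV m F) = 0 by
    rw [show (ev i : MV m F) = dv (Sum.inl i) from rfl, coef_dv, if_neg]
    exact fun e => hj' (by rw [← e]; rfl), smul_zero]
  exact C.Ll_zero (fun e => hj' e.symm)

theorem Phi_wv (i : Fin m) (w : Fin 2 → F) :
    Phi σ C.aniso i (wv w) = Sl σ C.aniso (dv (Sum.inl i)) w := by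
  rw [Phi, show (wv w : MV m F).2 = w from rfl]
  refine mul_eq_left.2 (List.prod_eq_one fun y hy => ?_)
  obtain ⟨j, hj, rfl⟩ := List.mem_map.1 hy
  rw [coef_wv]
  exact C.Ll_zero (fun e => mem_Jx.1 (Finset.mem_toList.1 hj) e.symm)

theorem Phi_dv (i : Fin m) {k : Fin m ⊕ Fin m} (hk : jpos k ≠ i.val) (t : F) :
    Phi σ C.aniso i (t • dv k) = Ll σ C.aniso (Sum.inl i) k t := by
  classical
  have h2 : Sl σ C.aniso (dv (Sum.inl i)) 0 = 1 := by
    have := C.Sl_add (Sum.inl i) 0 0
    rw [add_zero] at this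
    exact left_eq_mul.1 this
  rw [Phi, show (t • (dv k : MV m F)).2 = 0 by simp [dv_snd], h2, one_mul]
  obtain ⟨l₁, l₂, hl⟩ := List.append_of_mem (Finset.mem_toList.2 (mem_Jx.2 hk : k ∈ Jx i))
  have hnd : (l₁ ++ k :: l₂).Nodup := hl ▸ Finset.nodup_toList _
  have hmem : ∀ j ∈ l₁ ++ k :: l₂, jpos j ≠ i.val := fun j hj =>
    mem_Jx.1 (Finset.mem_toList.1 (hl ▸ hj))
  rw [List.nodup_append, List.nodup_cons] at hnd
  have hz : ∀ j ∈ l₁ ++ k :: l₂, j ≠ k → Ll σ C.aniso (Sum.inl i) j (coef j (t • dv k)) = 1 := by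
    intro j hj hne
    rw [map_smul, coef_dv, if_neg (Ne.symm hne), smul_zero]
    exact C.Ll_zero (fun e => hmem j hj e.symm)
  rw [hl, List.map_append, List.prod_append, List.map_cons, List.prod_cons]
  rw [List.prod_eq_one, List.prod_eq_one, one_mul, mul_one, map_smul, coef_dv, if_pos rfl,
    smul_eq_mul, mul_one]
  · intro y hy
    obtain ⟨j, hj, rfl⟩ := List.mem_map.1 hy
    exact hz j (by simp [hj]) (fun e => hnd.2.1.1 (e ▸ hj))
  · intro y hy
    obtain ⟨j, hj, rfl⟩ := List.mem_map.1 hy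
    exact hz j (by simp [hj]) (hnd.2.2 j hj k List.mem_cons_self)

omit C in
/-- an additive statement on the orthogonal complement of a basis vector reduces to generators -/
theorem perp_induction (i : Fin m) {P : MV m F → Prop}
    (hadd : ∀ x y, polar (MQ m a b) x (ev i) = 0 → polar (MQ m a b) y (ev i) = 0 → P x → P y → P (x + y))
    (hw : ∀ w, P (wv w)) (he : ∀ c : F, P (c • ev i))
    (hd : ∀ j, jpos j ≠ i.val → ∀ t : F, P (t • dv j))
    {x : MV m F} (hx : polar (MQ m a b) x (ev i) = 0) : P x := by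
  classical
  let P' : MV m F → Prop := fun z => polar (MQ m a b) z (ev i) = 0 ∧ P z
  have padd : ∀ z z', P' z → P' z' → P' (z + z') := fun z z' hz hz' =>
    ⟨by rw [polar_add_left, hz.1, hz'.1, add_zero], hadd _ _ hz.1 hz'.1 hz.2 hz'.2⟩
  suffices P' x from this.2
  rw [decomp (a := a) (b := b) x]
  refine padd _ _ (Finset.sum_induction _ P' padd ⟨by simp, by simpa using he 0⟩ ?_)
    ⟨polar_wv_ev _ _, hw _⟩
  intro j _
  by_cases hj : jpos j = i.val
  · rcases j with l | l <;> simp only [jpos, Sum.elim_inl, Sum.elim_inr] at hj <;>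
      (have el : l = i := Fin.ext hj) <;> subst el
    · exact ⟨by simp [dv], he _⟩
    · have : polar (MQ m a b) x (dv (jbar (Sum.inr l))) = 0 := hx
      rw [this, zero_smul]
      exact ⟨by simp, by simpa using he 0⟩
  · refine ⟨?_, hd j hj _⟩
    rw [polar_smul_left, show (ev i : MV m F) = dv (Sum.inl i) from rfl, polar_dv, if_neg, smul_zero]
    intro e
    exact hj (by rw [← jpos_bar j, ← e]; rfl)

theorem sigma_Phi (i : Fin m) {x : MV m F} (hx : polar (MQ m a b) x (ev i) = 0) :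
    σ (Phi σ C.aniso i x) = T (MQ m a b) (ev i) x := by
  refine perp_induction i (P := fun x => σ (Phi σ C.aniso i x) = T (MQ m a b) (ev i) x) ?_ ?_ ?_ ?_ hx
  · intro x y hx hy ex ey
    show σ (Phi σ C.aniso i (x + y)) = _
    rw [C.Phi_add, map_mul, ex, ey, T_add (Q_ev i) (by rw [polar_comm]; exact hx)
      (by rw [polar_comm]; exact hy)]
  · intro w
    show σ (Phi σ C.aniso i (wv w)) = _
    rw [C.Phi_wv, C.sigma_Sl (dv_snd _) (Q_dv _)]
    rfl
  · intro c
    show σ (Phi σ C.aniso i (c • ev i)) = _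
    rw [C.Phi_ev, map_one, ← zero_add (c • ev i), T_add_smul c (Q_ev i) (by simp), T_zero_right]
  · intro j hj t
    show σ (Phi σ C.aniso i (t • dv j)) = _
    rw [C.Phi_dv i hj, C.Ll_image (fun e => hj e.symm)]
    rfl

end CExt

/-- the covariance subgroup -/
noncomputable def CExt.Hcov (C : CExt σ) (i : Fin m) : Subgroup E where
  carrier := {g | (σ g).1 (ev i) = ev i ∧ ∀ x : MV m F, polar (MQ m a b) x (ev i) = 0 →
    g * Phi σ C.aniso i x * g⁻¹ = Phi σ C.aniso i ((σ g).1 x)}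
  one_mem' := ⟨by simp, fun x _ => by simp⟩
  mul_mem' := by
    rintro g h ⟨g1, g2⟩ ⟨h1, h2⟩
    refine ⟨by rw [map_mul, mul_apply, h1, g1], fun x hx => ?_⟩
    have hx' : polar (MQ m a b) ((σ h).1 x) (ev i) = 0 := by rw [← h1, orth_polar, hx]
    rw [map_mul, mul_apply, ← g2 _ hx', ← h2 x hx]
    group
  inv_mem' := by
    rintro g ⟨g1, g2⟩
    have e1 : ((σ g)⁻¹).1 (ev i) = ev i := by
      conv_lhs => rw [← g1]
      exact inv_apply_self _ _
    refine ⟨by rw [map_inv]; exact e1, fun x hx => ?_⟩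
    have hx' : polar (MQ m a b) (((σ g)⁻¹).1 x) (ev i) = 0 := by rw [← e1, orth_polar, hx]
    have h := g2 _ hx'
    rw [self_apply_inv] at h
    rw [map_inv, inv_inv, ← h]
    group

namespace CExt

variable (C : CExt σ)
include C

theorem ker_le_Hcov (i : Fin m) : σ.ker ≤ C.Hcov i := by
  intro g hg
  refine ⟨by rw [MonoidHom.mem_ker.1 hg]; simp, fun x _ => ?_⟩
  rw [MonoidHom.mem_ker.1 hg, one_apply]
  exact (mul_inv_eq_iff_eq_mul.2 (Subgroup.mem_center_iff.1 (C.central hg) _).symm)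

theorem Phi_mem_Hcov (i : Fin m) {y : MV m F} (hy : polar (MQ m a b) y (ev i) = 0) :
    Phi σ C.aniso i y ∈ C.Hcov i := by
  have hy' : polar (MQ m a b) (ev i) y = 0 := by rw [polar_comm]; exact hy
  refine ⟨?_, fun x hx => ?_⟩
  · rw [C.sigma_Phi i hy]
    exact T_fix (Q_ev i) hy' (polar_ev_ev i i) hy'
  rw [C.sigma_Phi i hy, T_apply (Q_ev i) hy', hx, zero_smul, add_zero, C.Phi_add, C.Phi_ev, mul_one,
    C.Agrp_comm i _ (C.Phi_mem i y) _ (C.Phi_mem i x), mul_inv_cancel_right]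

theorem Rot_mem_Hcov (i : Fin m) : sec σ (Rot m C.aniso) ∈ C.Hcov i := by
  refine ⟨by rw [C.sigma_sec C.Rot_mem]; exact Rot_apply_hyp C.aniso rfl, fun x hx => ?_⟩
  rw [C.sigma_sec C.Rot_mem]
  refine perp_induction i (P := fun x => sec σ (Rot m C.aniso) * Phi σ C.aniso i x *
    (sec σ (Rot m C.aniso))⁻¹ = Phi σ C.aniso i ((Rot m C.aniso).1 x)) ?_ ?_ ?_ ?_ hx
  · intro x y _ _ ex ey
    show _ * _ * _ = _
    rw [map_add, C.Phi_add, C.Phi_add, ← ex, ← ey]
    group
  · intro w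
    show _ * _ * _ = _
    rw [Rot_wv, C.Phi_wv, C.Phi_wv, C.Rot_conj_Sl (dv_snd _)]
  · intro c
    show _ * _ * _ = _
    rw [map_smul, Rot_apply_hyp C.aniso rfl, C.Phi_ev]
    group
  · intro j hj t
    show _ * _ * _ = _
    rw [map_smul, Rot_apply_hyp C.aniso (dv_snd j), C.Phi_dv i hj]
    exact mul_inv_eq_iff_eq_mul.2 (C.Rot_Gc (fun e => hj e.symm) _ _).eq

theorem Sl_mem_Hcov (i : Fin m) {k : Fin m ⊕ Fin m} (hk : jpos k ≠ i.val) (w' : Fin 2 → F) :
    Sl σ C.aniso (dv k) w' ∈ C.Hcov i := by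
  set j0 : Fin m ⊕ Fin m := Sum.inl i
  have hek : polar (MQ m a b) (ev i : MV m F) (dv k) = 0 :=
    (iso_ne (a := a) (b := b) (j := j0) (fun e => hk e.symm)).huc
  have hke : polar (MQ m a b) (dv k) (ev i : MV m F) = 0 := by rw [polar_comm]; exact hek
  have fixe : ∀ w, (σ (Sl σ C.aniso (dv k) w)).1 (ev i) = ev i := fun w => by
    rw [C.sigma_Sl (dv_snd k) (Q_dv k)]
    exact T_fix (Q_dv k) (polar_dv_wv k w) hek (polar_ev_wv i w)
  refine ⟨fixe w', fun x hx => ?_⟩
  -- the generators away from the partner of `k`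
  have easy : ∀ (v : Fin 2 → F) (z : MV m F), polar (MQ m a b) z (ev i) = 0 →
      coef (jbar k) z = 0 → Sl σ C.aniso (dv k) v * Phi σ C.aniso i z * (Sl σ C.aniso (dv k) v)⁻¹ =
        Phi σ C.aniso i ((σ (Sl σ C.aniso (dv k) v)).1 z) := by
    intro v z hz hzc
    set g := Sl σ C.aniso (dv k) v
    let P : MV m F → Prop := fun z => coef (jbar k) z = 0 → g * Phi σ C.aniso i z * g⁻¹ =
      Phi σ C.aniso i ((σ g).1 z)
    have key : ∀ z, polar (MQ m a b) z (ev i) = 0 →
        g * Phi σ C.aniso i (z - coef (jbar k) z • dv (jbar k)) * g⁻¹ =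
          Phi σ C.aniso i ((σ g).1 (z - coef (jbar k) z • dv (jbar k))) := by
      intro z hz
      refine perp_induction i (P := fun z => g * Phi σ C.aniso i (z - coef (jbar k) z • dv (jbar k)) *
        g⁻¹ = Phi σ C.aniso i ((σ g).1 (z - coef (jbar k) z • dv (jbar k)))) ?_ ?_ ?_ ?_ hz
      · intro x y _ _ ex ey
        show _ * _ * _ = _
        rw [show x + y - coef (jbar k) (x + y) • dv (jbar k) =
          (x - coef (jbar k) x • dv (jbar k)) + (y - coef (jbar k) y • dv (jbar k)) by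
            rw [map_add]; module, map_add, C.Phi_add, C.Phi_add, ← ex, ← ey]
        group
      · intro w
        show _ * _ * _ = _
        rw [coef_wv, zero_smul, sub_zero, C.sigma_Sl (dv_snd k) (Q_dv k),
          T_apply (Q_dv k) (polar_dv_wv k v), polar_wv_dv, zero_smul, add_zero, mul_zero, sub_zero,
          polar_wv_wv, C.Phi_add, C.Phi_wv, C.Phi_dv i hk]
        have h := C.Sl_comm (j := k) (k := j0) hk v w
        rw [commutatorElement_def] at h
        rw [← C.Agrp_comm i _ (Subgroup.subset_closure (Or.inr ⟨k, _, hk, rfl⟩)) _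
          (Subgroup.subset_closure (Or.inl ⟨w, rfl⟩)), polar_comm (binForm a b) w v,
          ← C.Ll_symm (fun e => hk e.symm), ← h]
        simp only [g, j0]
        group
      · intro c
        show _ * _ * _ = _
        rw [map_smul, show coef (jbar k) (ev i : MV m F) = 0 by
          rw [show (ev i : MV m F) = dv j0 from rfl, coef_dv, if_neg]
          exact fun e => hk (by rw [← jpos_bar k, ← e]; rfl), smul_zero, zero_smul, sub_zero,
          map_smul, fixe, C.Phi_ev]
        group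
      · intro j hj t
        show _ * _ * _ = _
        rw [map_smul, coef_dv]
        by_cases hjk : j = jbar k
        · subst hjk
          rw [if_pos rfl, smul_eq_mul, mul_one, sub_self, map_zero, C.Phi_zero]
          group
        rw [if_neg hjk, smul_zero, zero_smul, sub_zero, map_smul, C.sigma_Sl (dv_snd k) (Q_dv k),
          T_fix (Q_dv k) (polar_dv_wv k v) (by
            rw [polar_dv, if_neg]; exact fun e => hjk (by rw [e, jbar_jbar]))
            (polar_dv_wv j v), C.Phi_dv i hj]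
        exact mul_inv_eq_iff_eq_mul.2 (C.Ll_commute_Sl (fun e => hj e.symm)
          (fun e => hk (by rw [← jpos_bar k, ← e]; rfl)) hjk t v).eq.symm
    have := key z hz
    rwa [hzc, zero_smul, sub_zero] at this
  -- the discrepancy at the partner
  set c := jbar k
  have hc : jpos c ≠ i.val := by rw [jpos_bar]; exact hk
  set t := coef c x
  have hzero : coef c (x - t • dv c) = 0 := by simp [coef_dv, t]
  have htc : polar (MQ m a b) (t • dv c) (ev i : MV m F) = 0 := by
    rw [polar_smul_left, show polar (MQ m a b) (dv c) (ev i : MV m F) = 0 from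
      (iso_ne (a := a) (b := b) (k := j0) hc).huc, smul_zero]
  have hxz : polar (MQ m a b) (x - t • dv c) (ev i) = 0 := by rw [polar_sub_left, hx, htc, sub_zero]
  let δ : (Fin 2 → F) → E := fun v => (Phi σ C.aniso i ((σ (Sl σ C.aniso (dv k) v)).1 (t • dv c)))⁻¹ *
    (Sl σ C.aniso (dv k) v * Phi σ C.aniso i (t • dv c) * (Sl σ C.aniso (dv k) v)⁻¹)
  have hperp : ∀ v, polar (MQ m a b) ((σ (Sl σ C.aniso (dv k) v)).1 (t • dv c)) (ev i) = 0 := fun v => by
    rw [← fixe v, orth_polar, htc]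
  have hcen : ∀ v, δ v ∈ Subgroup.center E := fun v => C.central (by
    rw [MonoidHom.mem_ker, map_mul, map_inv, C.sigma_Phi i (hperp v), map_mul, map_mul, map_inv,
      C.sigma_Phi i htc, T_conj, fixe, inv_mul_cancel])
  have hδ : ∀ v, Sl σ C.aniso (dv k) v * Phi σ C.aniso i (t • dv c) * (Sl σ C.aniso (dv k) v)⁻¹ =
      Phi σ C.aniso i ((σ (Sl σ C.aniso (dv k) v)).1 (t • dv c)) * δ v := fun v => by
    simp only [δ]; group
  have hone : δ w' = 1 := by
    refine C.kill δ (fun v w => ?_) (fun w => ?_) w'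
    · set gv := Sl σ C.aniso (dv k) v
      set gw := Sl σ C.aniso (dv k) w
      set y := (σ gw).1 (t • dv c)
      have hyc : coef c (y - t • dv c) = 0 := by
        simp only [y, gw]
        rw [C.sigma_Sl (dv_snd k) (Q_dv k), map_smul, T_apply (Q_dv k) (polar_dv_wv k w),
          polar_dv, if_pos (jbar_jbar k).symm, one_smul]
        have h1 : coef c (dv k : MV m F) = 0 := by rw [coef_dv, if_neg]; exact (jbar_ne k).symm
        simp [coef_wv, coef_dv, h1]
      have hyp : polar (MQ m a b) (y - t • dv c) (ev i) = 0 := by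
        rw [polar_sub_left, htc, sub_zero]; exact hperp w
      have hgy : gv * Phi σ C.aniso i y * gv⁻¹ = Phi σ C.aniso i ((σ gv).1 y) * δ v := by
        rw [← sub_add_cancel y (t • dv c), C.Phi_add, map_add, C.Phi_add, ← easy v _ hyp hyc,
          mul_assoc _ (Phi σ C.aniso i ((σ gv).1 (t • dv c))) (δ v), ← hδ v]
        simp only [gv]
        group
      have hvw : Sl σ C.aniso (dv k) (v + w) = gv * gw := C.Sl_add k v w
      show (Phi σ C.aniso i ((σ (Sl σ C.aniso (dv k) (v + w))).1 (t • dv c)))⁻¹ *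
        (Sl σ C.aniso (dv k) (v + w) * Phi σ C.aniso i (t • dv c) *
          (Sl σ C.aniso (dv k) (v + w))⁻¹) = _
      rw [hvw, map_mul, mul_apply]
      calc (Phi σ C.aniso i ((σ gv).1 y))⁻¹ * (gv * gw * Phi σ C.aniso i (t • dv c) * (gv * gw)⁻¹)
          = (Phi σ C.aniso i ((σ gv).1 y))⁻¹ * (gv * (gw * Phi σ C.aniso i (t • dv c) * gw⁻¹) * gv⁻¹) := by
            group
        _ = (Phi σ C.aniso i ((σ gv).1 y))⁻¹ * ((gv * Phi σ C.aniso i y * gv⁻¹) * (gv * δ w * gv⁻¹)) := by
            rw [hδ w]; simp only [y, gw]; group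
        _ = _ := by rw [hgy, C.conj_central (hcen w)]; group
    · obtain ⟨r1, r2⟩ := C.Rot_mem_Hcov i
      set r := sec σ (Rot m C.aniso)
      have e : Sl σ C.aniso (dv k) (rW C.aniso m w) = r * Sl σ C.aniso (dv k) w * r⁻¹ :=
        (C.Rot_conj_Sl (dv_snd k) w).symm
      have hr : (σ r).1 (t • dv c) = t • dv c := by
        rw [C.sigma_sec C.Rot_mem, map_smul, Rot_apply_hyp C.aniso (dv_snd c)]
      have hr' : r⁻¹ * Phi σ C.aniso i (t • dv c) * r = Phi σ C.aniso i (t • dv c) := by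
        have := r2 _ htc
        rw [hr] at this
        nth_rewrite 1 [← this]
        group
      have hr'' : ((σ r)⁻¹).1 (t • dv c) = t • dv c := by
        conv_lhs => rw [← hr]
        exact inv_apply_self _ _
      show (Phi σ C.aniso i ((σ (Sl σ C.aniso (dv k) (rW C.aniso m w))).1 (t • dv c)))⁻¹ * (Sl σ C.aniso (dv k)
        (rW C.aniso m w) * Phi σ C.aniso i (t • dv c) * (Sl σ C.aniso (dv k) (rW C.aniso m w))⁻¹) = _
      rw [e, map_mul, map_mul, map_inv, mul_apply, mul_apply, hr'', ← r2 _ (hperp w)]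
      calc (r * Phi σ C.aniso i ((σ (Sl σ C.aniso (dv k) w)).1 (t • dv c)) * r⁻¹)⁻¹ *
            (r * Sl σ C.aniso (dv k) w * r⁻¹ * Phi σ C.aniso i (t • dv c) *
              (r * Sl σ C.aniso (dv k) w * r⁻¹)⁻¹)
          = r * ((Phi σ C.aniso i ((σ (Sl σ C.aniso (dv k) w)).1 (t • dv c)))⁻¹ *
              (Sl σ C.aniso (dv k) w * (r⁻¹ * Phi σ C.aniso i (t • dv c) * r) *
                (Sl σ C.aniso (dv k) w)⁻¹)) * r⁻¹ := by group
        _ = _ := by rw [hr']; exact C.conj_central (hcen w) r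
  have h1 := easy w' _ hxz hzero
  have h2 := hδ w'
  rw [hone, mul_one] at h2
  rw [← sub_add_cancel x (t • dv c), C.Phi_add, map_add, C.Phi_add, ← h1, ← h2]
  group

/-- every element fixing the first vector is covariant -/
theorem Phi_cov {i : Fin m} (hi : i.val = 0) {e : E} (he : (σ e).1 (ev i) = ev i) : e ∈ C.Hcov i := by
  have hm := C.three
  obtain ⟨y, hy, hyz⟩ := exists_siegel_partner (Q := MQ m a b) (Q_ev i) (Q_fv i)
    (z' := (σ e).1 (fv i)) (by rw [orth_Q, Q_fv]) (polar_ev_fv_self i)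
    (by nth_rewrite 1 [← he]; rw [orth_polar, polar_ev_fv_self])
  have hy' : polar (MQ m a b) y (ev i) = 0 := by rw [polar_comm]; exact hy
  set p := Phi σ C.aniso i y
  have hp : σ p = T (MQ m a b) (ev i) y := C.sigma_Phi i hy'
  suffices hmem : p⁻¹ * e ∈ C.Hcov i by
    have := mul_mem (C.Phi_mem_Hcov i hy') hmem
    rwa [mul_inv_cancel_left] at this
  have hM : σ (p⁻¹ * e) ∈ Mk m a b 1 := by
    refine stab_mem C.aniso C.hm 1 (by omega) _ (C.range ▸ ⟨_, rfl⟩) fun l hl => ?_
    obtain rfl : l = i := Fin.ext (by omega)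
    rw [← T_eq (Q_ev l) hy, ← hp] at hyz
    refine ⟨?_, ?_⟩
    · rw [map_mul, map_inv, mul_apply, he]
      conv_lhs => rw [← (C.Phi_mem_Hcov l hy').1]
      exact inv_apply_self _ _
    · rw [map_mul, map_inv, mul_apply, ← hyz]
      exact inv_apply_self _ _
  have hle : Mk m a b 1 ≤ (C.Hcov i).map σ := by
    refine (Subgroup.closure_le _).2 ?_
    rintro g ⟨j, w, hj, rfl⟩
    exact ⟨_, C.Sl_mem_Hcov i (k := j) (by omega) w, C.sigma_Sl (dv_snd j) (Q_dv j) w⟩
  obtain ⟨g, hg, hge⟩ := hle hM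
  have hk : g⁻¹ * (p⁻¹ * e) ∈ C.Hcov i :=
    C.ker_le_Hcov i (by rw [MonoidHom.mem_ker, map_mul, map_inv, hge, inv_mul_cancel])
  have := mul_mem hg hk
  rwa [mul_inv_cancel_left] at this

end CExt

end CfsgLib.SpinMinus
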