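import Cfsg.Agent.Lib.SpinMinus.Stab

/-!
Short root lifts in a central extension of the Siegel group, and the vanishing of the central
discrepancies.
-/

set_option autoImplicit false
set_option linter.unusedSectionVars false

namespace CfsgLib.SpinMinus

open QuadraticMap CfsgLib.Classical.Quad
open scoped commutatorElement

variable {F : Type*} [Field F] [Fintype F] {a b : F} {m : ℕ}

/-- the split of a root element at a sum of orthogonal singular vectors -/
theorem T_split {y z w : MV m F} (hy : MQ m a b y = 0) (hz : MQ m a b z = 0)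
    (hyz : polar (MQ m a b) y z = 0) (hyw : polar (MQ m a b) y w = 0)
    (hzw : polar (MQ m a b) z w = 0) :
    T (MQ m a b) (y + z) w =
      T (MQ m a b) y w * T (MQ m a b) z w * T (MQ m a b) y ((-(MQ m a b w)) • z) := by
  have hzy : polar (MQ m a b) z y = 0 := by rw [polar_comm, hyz]
  refine orth_ext fun x => ?_
  rw [mul_apply, mul_apply, T_apply hy (by simp [hyz]) x]
  have hQ : MQ m a b (y + z) = 0 := by
    rw [QuadraticMap.map_add (MQ m a b), hy, hz, hyz]; simp
  rw [T_apply hQ (by simp [hyw, hzw]), T_apply hz hzw, T_apply hy hyw]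
  simp only [polar_add_left, polar_smul_left, polar_add_right, polar_smul_right,
    QuadraticMap.map_smul, hz, hyz, hzy, hzw, hyw, polar_singular_self hy, polar_singular_self hz,
    polar_comm (MQ m a b) w y, polar_comm (MQ m a b) w z, polar_self', smul_eq_mul]
  module

/-- the parameters fixed for the rotation -/
theorem exists_rot (hab : IsAniso a b) : ∃ w : Fin 2 → F, binForm a b w = 1 ∧
    ∀ c : F, w ≠ c • ![1, 0] := by
  by_contra hcon
  push Not at hcon
  have h := card_level_binForm hab (c := (1 : F)) one_ne_zero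
  have hsub : ∀ x : {v : Fin 2 → F // binForm a b v = 1}, x.1 = ![1, 0] ∨ x.1 = -![1, 0] := by
    intro x
    obtain ⟨c, hc⟩ := hcon x.1 x.2
    have hc2 : c * c = 1 := by
      have := x.2
      rw [hc, QuadraticMap.map_smul, binForm_apply] at this
      simpa using this
    rcases mul_self_eq_one_iff.1 hc2 with e | e <;> subst e
    · left; rw [hc, one_smul]
    · right; rw [hc, neg_one_smul]
  classical
  have hle : Nat.card {v : Fin 2 → F // binForm a b v = 1} ≤ 2 := by
    have hinj : Function.Injective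
        (fun x : {v : Fin 2 → F // binForm a b v = 1} => decide (x.1 = ![1, 0])) := by
      intro x y e
      rcases hsub x with h1 | h1 <;> rcases hsub y with h2 | h2
      · exact Subtype.ext (h1.trans h2.symm)
      · have ey : y.1 = ![1, 0] := by simpa [h1] using e
        exact Subtype.ext (h1.trans ey.symm)
      · have ex : x.1 = ![1, 0] := by simpa [h2] using e
        exact Subtype.ext (ex.trans h2.symm)
      · exact Subtype.ext (h1.trans h2.symm)
    have := Nat.card_le_card_of_injective _ hinj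
    simpa using this
  have hq : 2 ≤ Nat.card F := Finite.one_lt_card
  simp only [Nat.card_eq_fintype_card] at h hle hq
  omega

/-- hypotheses on a central extension -/
structure CExt {E : Type*} [Group E] (σ : E →* Orth (MQ m a b)) : Prop where
  aniso : IsAniso a b
  three : 3 ≤ m
  central : σ.ker ≤ Subgroup.center E
  range : σ.range = siegelGroup (MQ m a b)

variable {E : Type*} [Group E] (σ : E →* Orth (MQ m a b))

/-- a chosen preimage -/
noncomputable def sec (g : Orth (MQ m a b)) : E := Function.invFun σ g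

/-- the commutator of chosen preimages -/
noncomputable def cm (g h : Orth (MQ m a b)) : E := ⁅sec σ g, sec σ h⁆

/-- second parameter of the rotation -/
noncomputable def wb (hab : IsAniso a b) : Fin 2 → F := Classical.choose (exists_rot hab)

theorem wb_spec (hab : IsAniso a b) :
    binForm a b (wb hab) = 1 ∧ ∀ c : F, wb hab ≠ c • ![1, 0] :=
  Classical.choose_spec (exists_rot hab)

/-- the rotation of the plane -/
noncomputable def Rot (m : ℕ) (hab : IsAniso a b) : Orth (MQ m a b) :=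
  refl (MQ m a b) (wv ![1, 0]) * refl (MQ m a b) (wv (wb hab))

namespace CExt

variable {σ} (C : CExt σ)
include C

theorem hm : 2 ≤ m := le_trans (by norm_num) C.three

theorem sigma_sec {g : Orth (MQ m a b)} (hg : g ∈ siegelGroup (MQ m a b)) : σ (sec σ g) = g := by
  rw [← C.range] at hg
  exact Function.invFun_eq (f := σ) hg

theorem comm_congr {x x' y y' : E} (hx : σ x = σ x') (hy : σ y = σ y') : ⁅x, y⁆ = ⁅x', y'⁆ := by
  have hz : x'⁻¹ * x ∈ Subgroup.center E :=
    C.central (by rw [MonoidHom.mem_ker, map_mul, map_inv, hx, inv_mul_cancel])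
  have hz' : y'⁻¹ * y ∈ Subgroup.center E :=
    C.central (by rw [MonoidHom.mem_ker, map_mul, map_inv, hy, inv_mul_cancel])
  obtain ⟨c, hc, rfl⟩ : ∃ c ∈ Subgroup.center E, x = x' * c := ⟨_, hz, by group⟩
  obtain ⟨d, hd, rfl⟩ : ∃ d ∈ Subgroup.center E, y = y' * d := ⟨_, hz', by group⟩
  have hc' := Subgroup.mem_center_iff.1 hc
  have hd' := Subgroup.mem_center_iff.1 hd
  simp only [commutatorElement_def]
  calc x' * c * (y' * d) * (x' * c)⁻¹ * (y' * d)⁻¹
      = x' * (c * y') * (d * c⁻¹) * x'⁻¹ * d⁻¹ * y'⁻¹ := by group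
    _ = x' * y' * c * (c⁻¹ * d) * x'⁻¹ * d⁻¹ * y'⁻¹ := by
        rw [← hc' y', ← hd' c⁻¹]
        group
    _ = x' * y' * (d * x'⁻¹) * d⁻¹ * y'⁻¹ := by group
    _ = _ := by rw [← hd' x'⁻¹]; group

theorem cm_eq {g h : Orth (MQ m a b)} {x y : E} (hx : σ x = g) (hy : σ y = h) :
    cm σ g h = ⁅x, y⁆ :=
  C.comm_congr (by rw [C.sigma_sec (C.range ▸ ⟨x, hx⟩), hx])
    (by rw [C.sigma_sec (C.range ▸ ⟨y, hy⟩), hy])

theorem commute_of_cm {g h : Orth (MQ m a b)} {x y : E} (hx : σ x = g) (hy : σ y = h)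
    (e : cm σ g h = 1) : Commute x y := by
  rw [C.cm_eq hx hy] at e
  exact commutatorElement_eq_one_iff_commute.1 e

theorem cm_conj {g h : Orth (MQ m a b)} (hg : g ∈ siegelGroup (MQ m a b))
    (hh : h ∈ siegelGroup (MQ m a b)) (e : E) :
    e * cm σ g h * e⁻¹ = cm σ (σ e * g * (σ e)⁻¹) (σ e * h * (σ e)⁻¹) := by
  rw [C.cm_eq (C.sigma_sec hg) (C.sigma_sec hh), conjugate_commutatorElement]
  exact (C.cm_eq (by rw [map_mul, map_mul, map_inv, C.sigma_sec hg])
    (by rw [map_mul, map_mul, map_inv, C.sigma_sec hh])).symm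

theorem cm_central {g h : Orth (MQ m a b)} (hg : g ∈ siegelGroup (MQ m a b))
    (hh : h ∈ siegelGroup (MQ m a b)) (hc : Commute g h) : cm σ g h ∈ Subgroup.center E := by
  refine C.central ?_
  rw [MonoidHom.mem_ker, cm, map_commutatorElement, C.sigma_sec hg, C.sigma_sec hh]
  exact commutatorElement_eq_one_iff_commute.2 hc

theorem cm_mul_right {g h h' : Orth (MQ m a b)} (hg : g ∈ siegelGroup (MQ m a b))
    (hh : h ∈ siegelGroup (MQ m a b)) (hh' : h' ∈ siegelGroup (MQ m a b)) (hc : Commute g h') :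
    cm σ g (h * h') = cm σ g h * cm σ g h' := by
  have e := Subgroup.mem_center_iff.1 (C.cm_central hg hh' hc)
  rw [C.cm_eq (C.sigma_sec hg) (y := sec σ h * sec σ h')
    (by rw [map_mul, C.sigma_sec hh, C.sigma_sec hh'])]
  calc ⁅sec σ g, sec σ h * sec σ h'⁆ = cm σ g h * (sec σ h * cm σ g h' * (sec σ h)⁻¹) := by
        simp only [cm, commutatorElement_def]; group
    _ = _ := by rw [e, mul_inv_cancel_right]

theorem conj_central {z : E} (hz : z ∈ Subgroup.center E) (e : E) : e * z * e⁻¹ = z := by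
  rw [Subgroup.mem_center_iff.1 hz e, mul_inv_cancel_right]

theorem Rot_mem : Rot m C.aniso ∈ siegelGroup (MQ m a b) := by
  have hb0 : wb C.aniso ≠ 0 := fun e => (wb_spec C.aniso).2 0 (by rw [e, zero_smul])
  have h1 : (![1, 0] : Fin 2 → F) ≠ 0 := by simp
  let i : Fin m := ⟨0, by have := C.three; omega⟩
  suffices hEl a b i ![1, 0] (wb C.aniso) = Rot m C.aniso by
    rw [← this]; exact Mk_le _ (hEl_mem le_rfl _ _)
  obtain ⟨e1, e2, e3⟩ := hEl_spec C.aniso i h1 hb0
  have hr : ∀ j : Fin m ⊕ Fin m, (Rot m C.aniso).1 (dv j) = dv j := fun j => by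
    rw [Rot, mul_apply, refl_fix (polar_dv_wv j _), refl_fix (polar_dv_wv j _)]
  refine orth_ext_basis (fun j => ?_) fun w => ?_
  · by_cases hj : j = Sum.inl i
    · subst hj
      rw [hr]
      show (hEl a b i ![1, 0] (wb C.aniso)).1 (ev i) = ev i
      rw [e1, (wb_spec C.aniso).1]
      simp [binForm_apply]
    by_cases hj' : j = Sum.inr i
    · subst hj'
      rw [hr]
      show (hEl a b i ![1, 0] (wb C.aniso)).1 (fv i) = fv i
      rw [e2, (wb_spec C.aniso).1]
      simp [binForm_apply]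
    rw [e3 _ ?_ ?_]
    · rfl
    · show polar (MQ m a b) (dv j) (dv (Sum.inl i)) = 0
      rw [polar_dv, if_neg]
      rcases j with l | l <;> simp [jbar] at hj' ⊢
      exact fun e => hj' e.symm
    · show polar (MQ m a b) (dv j) (dv (Sum.inr i)) = 0
      rw [polar_dv, if_neg]
      rcases j with l | l <;> simp [jbar] at hj ⊢
      exact fun e => hj e.symm
  · rw [e3 _ (polar_wv_ev _ _) (polar_wv_fv _ _)]
    rfl

omit C in
theorem Rot_apply_hyp (hab : IsAniso a b) {u : MV m F} (hu : u.2 = 0) :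
    (Rot m hab).1 u = u := by
  have h : ∀ w, polar (MQ m a b) u (wv w) = 0 := fun w => by simp [polar_wv, hu]
  rw [Rot, mul_apply, refl_fix (h _), refl_fix (h _)]

omit C in
/-- the rotation on the plane -/
noncomputable def rW (hab : IsAniso a b) (m : ℕ) : (Fin 2 → F) →ₗ[F] (Fin 2 → F) :=
  (LinearMap.snd F _ _).comp ((Rot m hab).1.toLinearMap.comp wv)

omit C in
theorem Rot_wv (hab : IsAniso a b) (w : Fin 2 → F) :
    (Rot m hab).1 (wv w) = wv (rW hab m w) := by
  conv_lhs => rw [decomp (a := a) (b := b) ((Rot m hab).1 (wv w))]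
  rw [add_eq_right.2]
  · rfl
  refine Finset.sum_eq_zero fun j _ => ?_
  rw [← Rot_apply_hyp hab (u := dv (jbar j)) (by rcases j with i | i <;> simp [jbar, dv, ev, fv]),
    orth_polar, polar_wv_dv, zero_smul]

omit C in
theorem rW_fixed (hab : IsAniso a b) {w : Fin 2 → F} (h : rW hab m w = w) : w = 0 := by
  have e : (Rot m hab).1 (wv w) = wv w := by rw [Rot_wv, h]
  rw [Rot, mul_apply] at e
  have e2 : (refl (MQ m a b) (wv (wb hab))).1 (wv w) = (refl (MQ m a b) (wv ![1, 0])).1 (wv w) := by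
    nth_rewrite 2 [← e]
    rw [← mul_apply (refl (MQ m a b) (wv ![1, 0])), refl_mul_self, one_apply]
  rw [refl_apply, refl_apply, add_right_inj, Q_wv, Q_wv, (wb_spec hab).1, polar_wv_wv, polar_wv_wv,
    show binForm a b ![1, 0] = 1 by simp [binForm_apply]] at e2
  simp only [div_one] at e2
  rw [← map_smul, ← map_smul] at e2
  have e3 : (-(polar (binForm a b) w (wb hab))) • wb hab = (-(polar (binForm a b) w ![1, 0])) • ![1, 0] :=
    congrArg Prod.snd e2
  have hb : polar (binForm a b) w (wb hab) = 0 := by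
    by_contra hne
    refine (wb_spec hab).2 ((-(polar (binForm a b) w (wb hab)))⁻¹ • (-(polar (binForm a b) w ![1, 0]))) ?_
    rw [smul_assoc, ← e3, inv_smul_smul₀ (neg_ne_zero.2 hne)]
  have ha : polar (binForm a b) w ![1, 0] = 0 := by
    rw [hb, neg_zero, zero_smul] at e3
    have := congrFun e3 0
    simpa using this
  refine ndPolar_binForm hab w fun y => ?_
  have hy : ∃ c d : F, y = c • ![1, 0] + d • wb hab := by
    have hb1 : wb hab 1 ≠ 0 := fun e0 => (wb_spec hab).2 (wb hab 0) (by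
      funext l; fin_cases l <;> simp [e0])
    refine ⟨y 0 - y 1 / wb hab 1 * wb hab 0, y 1 / wb hab 1, ?_⟩
    funext l
    fin_cases l <;> simp [hb1]
  obtain ⟨c, d, rfl⟩ := hy
  rw [polar_add_right, polar_smul_right, polar_smul_right, ha, hb, smul_zero, smul_zero, add_zero]

omit C in
/-- the inverse of rotation minus identity -/
theorem exists_dinv (hab : IsAniso a b) :
    ∃ D : (Fin 2 → F) ≃ₗ[F] (Fin 2 → F), ∀ w, D w = rW hab m w - w := by
  have hinj : Function.Injective (rW hab m - LinearMap.id : (Fin 2 → F) →ₗ[F] (Fin 2 → F)) := by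
    rw [← LinearMap.ker_eq_bot, eq_bot_iff]
    intro w hw
    exact rW_fixed hab (sub_eq_zero.1 hw)
  exact ⟨LinearEquiv.ofInjectiveEndo _ hinj, fun w => by simp⟩

omit C in
/-- inverse of rotation minus identity -/
noncomputable def dinv (hab : IsAniso a b) (m : ℕ) : (Fin 2 → F) →ₗ[F] (Fin 2 → F) :=
  (Classical.choose (exists_dinv (m := m) hab)).symm

omit C in
theorem dinv_spec (hab : IsAniso a b) (w : Fin 2 → F) :
    rW hab m (dinv hab m w) - dinv hab m w = w := by
  rw [← Classical.choose_spec (exists_dinv (m := m) hab)]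
  exact (Classical.choose (exists_dinv (m := m) hab)).apply_symm_apply w

omit C in
theorem dinv_rW (hab : IsAniso a b) (w : Fin 2 → F) :
    dinv hab m (rW hab m w) = rW hab m (dinv hab m w) := by
  apply (Classical.choose (exists_dinv (m := m) hab)).injective
  rw [show dinv hab m (rW hab m w) = (Classical.choose (exists_dinv (m := m) hab)).symm (rW hab m w)
    from rfl, LinearEquiv.apply_symm_apply, Classical.choose_spec (exists_dinv (m := m) hab),
    ← map_sub, dinv_spec]

theorem kill (δ : (Fin 2 → F) → E) (hadd : ∀ v w, δ (v + w) = δ v * δ w)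
    (hinv : ∀ w, δ (rW C.aniso m w) = δ w) (w : Fin 2 → F) : δ w = 1 := by
  have h := hinv (dinv C.aniso m w)
  have e : rW C.aniso m (dinv C.aniso m w) = w + dinv C.aniso m w :=
    eq_add_of_sub_eq (dinv_spec C.aniso w)
  rw [e, hadd] at h
  exact mul_eq_right.1 h

omit C in
theorem Rot_commute (hab : IsAniso a b) {g : Orth (MQ m a b)}
    (hg : ∀ w, g.1 (wv w) = wv w) : Commute g (Rot m hab) := by
  show g * Rot m hab = Rot m hab * g
  rw [← mul_inv_eq_iff_eq_mul, Rot]
  calc g * (refl (MQ m a b) (wv ![1, 0]) * refl (MQ m a b) (wv (wb hab))) * g⁻¹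
      = (g * refl (MQ m a b) (wv ![1, 0]) * g⁻¹) * (g * refl (MQ m a b) (wv (wb hab)) * g⁻¹) := by
        group
    _ = _ := by rw [refl_conj, refl_conj, hg, hg]

omit C in
theorem Rot_conj_T (hab : IsAniso a b) {u : MV m F} (hu : u.2 = 0) (w : Fin 2 → F) :
    Rot m hab * T (MQ m a b) u (wv w) * (Rot m hab)⁻¹ = T (MQ m a b) u (wv (rW hab m w)) := by
  rw [T_conj, Rot_apply_hyp hab hu, Rot_wv]

omit C in
theorem polar_hyp {u : MV m F} (hu : u.2 = 0) (w : Fin 2 → F) :
    polar (MQ m a b) u (wv w) = 0 := by simp [polar_wv, hu]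

/-- first vanishing lemma: long elements against short ones -/
theorem cm_long_short {g : Orth (MQ m a b)} (hg : g ∈ siegelGroup (MQ m a b))
    (hgw : ∀ w, g.1 (wv w) = wv w) {u : MV m F} (hu : u.2 = 0) (huQ : MQ m a b u = 0)
    (hgu : g.1 u = u) (w : Fin 2 → F) : cm σ g (T (MQ m a b) u (wv w)) = 1 := by
  refine C.kill (fun w => cm σ g (T (MQ m a b) u (wv w))) (fun v w => ?_) (fun w => ?_) w
  · show cm σ g (T (MQ m a b) u (wv (v + w))) = _
    rw [map_add, ← T_add huQ (polar_hyp hu v) (polar_hyp hu w)]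
    exact C.cm_mul_right hg (T_mem _ _) (T_mem _ _) (T_commute_of_fix hgu (hgw w))
  · have h := C.cm_conj hg (T_mem u (wv w)) (sec σ (Rot m C.aniso))
    rw [C.conj_central (C.cm_central hg (T_mem _ _) (T_commute_of_fix hgu (hgw w))),
      C.sigma_sec C.Rot_mem, Rot_conj_T C.aniso hu,
      show Rot m C.aniso * g * (Rot m C.aniso)⁻¹ = g by
        rw [← (Rot_commute C.aniso hgw).eq, mul_inv_cancel_right]] at h
    exact h.symm

/-- moving elements fixing the plane -/
theorem exists_move {u v z : MV m F} (huQ : MQ m a b u = 0) (hvQ : MQ m a b v = 0)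
    (hzQ : MQ m a b z = 0) (hu : u.2 = 0) (hv : v.2 = 0) (hz : z.2 = 0)
    (huv : polar (MQ m a b) u v = 0) (huz : polar (MQ m a b) u z = 1)
    (hvz : polar (MQ m a b) v z = 1) :
    ∃ e : E, (∀ w, (σ e).1 (wv w) = wv w) ∧ (σ e).1 u = v ∧
      ∀ p, polar (MQ m a b) p z = 0 → polar (MQ m a b) p (v - u) = 0 → (σ e).1 p = p := by
  have hd : polar (MQ m a b) z (v - u) = 0 := by
    rw [polar_sub_right, polar_comm _ z v, polar_comm _ z u, huz, hvz, sub_self]
  refine ⟨sec σ (T (MQ m a b) z (v - u)), fun w => ?_, ?_, fun p h1 h2 => ?_⟩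
  all_goals rw [C.sigma_sec (T_mem _ _)]
  · refine T_fix hzQ hd ?_ ?_
    · rw [polar_comm]; exact polar_hyp hz w
    · rw [polar_comm]; exact polar_hyp (by simp [hu, hv]) w
  · have hQ : MQ m a b (v - u) = 0 := by
      rw [sub_eq_add_neg, QuadraticMap.map_add (MQ m a b), QuadraticMap.map_neg, huQ, hvQ,
        polar_neg_right, polar_comm _ v u, huv]
      simp
    rw [T_apply hzQ hd, huz, hQ, polar_sub_right, huv, polar_singular_self huQ]
    module
  · exact T_fix hzQ hd h1 h2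

end CExt

/-- commutator of lifts of two short root elements -/
noncomputable def Gc (u c : MV m F) (w w' : Fin 2 → F) : E :=
  cm σ (T (MQ m a b) u (wv w)) (T (MQ m a b) c (wv w'))

/-- pairwise orthogonal singular hyperbolic vectors -/
structure Iso2 (a b : F) (u c : MV m F) : Prop where
  hu : u.2 = 0
  hc : c.2 = 0
  qu : MQ m a b u = 0
  qc : MQ m a b c = 0
  huc : polar (MQ m a b) u c = 0

theorem Iso2.symm {u c : MV m F} (h : Iso2 a b u c) : Iso2 a b c u :=
  ⟨h.hc, h.hu, h.qc, h.qu, by rw [polar_comm]; exact h.huc⟩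

theorem Iso2.add {u c c' : MV m F} (h : Iso2 a b u c) (h' : Iso2 a b u c')
    (hcc : Iso2 a b c c') : Iso2 a b u (c + c') :=
  ⟨h.hu, by simp [h.hc, h'.hc], h.qu,
    by rw [QuadraticMap.map_add (MQ m a b), h.qc, h'.qc, hcc.huc]; simp,
    by rw [polar_add_right, h.huc, h'.huc, add_zero]⟩

theorem Iso2.refl' {u : MV m F} (hu : u.2 = 0) (hq : MQ m a b u = 0) : Iso2 a b u u :=
  ⟨hu, hu, hq, hq, polar_singular_self hq⟩

theorem Iso2.smul {u c : MV m F} (h : Iso2 a b u c) (s t : F) : Iso2 a b (s • u) (t • c) :=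
  ⟨by simp [h.hu], by simp [h.hc], by simp [QuadraticMap.map_smul, h.qu],
    by simp [QuadraticMap.map_smul, h.qc], by simp [h.huc]⟩

namespace CExt

variable {σ} (C : CExt σ)
include C

theorem Gc_image {u c : MV m F} (h : Iso2 a b u c) (w w' : Fin 2 → F) :
    σ (Gc σ u c w w') = T (MQ m a b) u (polar (binForm a b) w w' • c) := by
  rw [Gc, cm, map_commutatorElement, C.sigma_sec (T_mem _ _), C.sigma_sec (T_mem _ _),
    T_comm h.qu h.qc h.huc (polar_hyp h.hu w) (polar_hyp h.hc w) (polar_hyp h.hu w')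
      (polar_hyp h.hc w'), polar_wv_wv]

omit C in
theorem long_fix_wv {u c : MV m F} (h : Iso2 a b u c) (t : F) (w : Fin 2 → F) :
    (T (MQ m a b) u (t • c)).1 (wv w) = wv w := by
  refine T_fix h.qu (by simp [h.huc]) ?_ ?_
  · rw [polar_comm]; exact polar_hyp h.hu w
  · rw [polar_comm]; exact polar_hyp (by simp [h.hc]) w

omit C in
theorem long_fix {u c p : MV m F} (h : Iso2 a b u c) (h1 : Iso2 a b p u) (h2 : Iso2 a b p c) (t : F) :
    (T (MQ m a b) u (t • c)).1 p = p :=
  T_fix h.qu (by simp [h.huc]) h1.huc (by simp [h2.huc])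

theorem long_short_cm {u c p : MV m F} (h : Iso2 a b u c) (h1 : Iso2 a b p u) (h2 : Iso2 a b p c)
    (t : F) (w : Fin 2 → F) : cm σ (T (MQ m a b) u (t • c)) (T (MQ m a b) p (wv w)) = 1 :=
  C.cm_long_short (T_mem _ _) (long_fix_wv h t) h1.hu h1.qu (long_fix h h1 h2 t) w

theorem Gc_commute_short {u c p : MV m F} (h : Iso2 a b u c) (h1 : Iso2 a b p u)
    (h2 : Iso2 a b p c) (w w' w'' : Fin 2 → F) {x : E} (hx : σ x = T (MQ m a b) p (wv w'')) :
    Commute (Gc σ u c w w') x :=
  C.commute_of_cm (C.Gc_image h w w') hx (C.long_short_cm h h1 h2 _ _)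

theorem Gc_commute_Gc {u c u' c' : MV m F} (h : Iso2 a b u c) (h' : Iso2 a b u' c')
    (h1 : Iso2 a b u' u) (h2 : Iso2 a b u' c) (h3 : Iso2 a b c' u) (h4 : Iso2 a b c' c)
    (w w' v v' : Fin 2 → F) : Commute (Gc σ u c w w') (Gc σ u' c' v v') := by
  have k1 := C.Gc_commute_short h h1 h2 w w' v (C.sigma_sec (T_mem u' (wv v)))
  have k2 := C.Gc_commute_short h h3 h4 w w' v' (C.sigma_sec (T_mem c' (wv v')))
  show Commute (Gc σ u c w w') ⁅sec σ (T (MQ m a b) u' (wv v)), sec σ (T (MQ m a b) c' (wv v'))⁆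
  exact ((k1.mul_right k2).mul_right k1.inv_right).mul_right k2.inv_right

theorem Gc_inv (u c : MV m F) (w w' : Fin 2 → F) : Gc σ u c w w' = (Gc σ c u w' w)⁻¹ := by
  rw [Gc, Gc, cm, cm, commutatorElement_inv]

theorem long_cm {u c u' c' : MV m F} (h : Iso2 a b u c) (h' : Iso2 a b u' c')
    (h1 : Iso2 a b u' u) (h2 : Iso2 a b u' c) (h3 : Iso2 a b c' u) (h4 : Iso2 a b c' c) (t t' : F) :
    cm σ (T (MQ m a b) u (t • c)) (T (MQ m a b) u' (t' • c')) = 1 := by
  obtain ⟨w, w', e⟩ := exists_binPolar C.aniso t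
  obtain ⟨v, v', e'⟩ := exists_binPolar C.aniso t'
  rw [C.cm_eq (x := Gc σ u c w w') (y := Gc σ u' c' v v') (by rw [C.Gc_image h, e])
    (by rw [C.Gc_image h', e'])]
  exact commutatorElement_eq_one_iff_commute.2 (C.Gc_commute_Gc h h' h1 h2 h3 h4 w w' v v')

/-- additivity in the second vector -/
theorem Gc_add_right {x y z : MV m F} (hxy : Iso2 a b x y) (hxz : Iso2 a b x z)
    (hyz : Iso2 a b y z) (w w' : Fin 2 → F) :
    Gc σ x (y + z) w w' = Gc σ x y w w' * Gc σ x z w w' := by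
  set a0 := sec σ (T (MQ m a b) x (wv w))
  set b0 := sec σ (T (MQ m a b) y (wv w'))
  set c0 := sec σ (T (MQ m a b) z (wv w'))
  set l := sec σ (T (MQ m a b) y ((-((MQ m a b) (wv w'))) • z))
  have hsplit : T (MQ m a b) (y + z) (wv w') = σ (b0 * c0 * l) := by
    rw [map_mul, map_mul, C.sigma_sec (T_mem _ _), C.sigma_sec (T_mem _ _), C.sigma_sec (T_mem _ _)]
    exact T_split hyz.qu hyz.qc hyz.huc (polar_hyp hyz.hu _) (polar_hyp hyz.hc _)
  rw [Gc, C.cm_eq (C.sigma_sec (T_mem _ _)) hsplit.symm]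
  have hal : Commute a0 l := (C.commute_of_cm (C.sigma_sec (T_mem _ _)) (C.sigma_sec (T_mem _ _))
    (C.long_short_cm hyz hxy hxz (-((MQ m a b) (wv w'))) w)).symm
  have e2 : ⁅a0, c0⁆ = Gc σ x z w w' := rfl
  have hb : Commute (Gc σ x z w w') b0 :=
    C.Gc_commute_short hxz hxy.symm hyz w w' w' (C.sigma_sec (T_mem _ _))
  calc ⁅a0, b0 * c0 * l⁆ = ⁅a0, b0⁆ * (b0 * ⁅a0, c0⁆ * b0⁻¹) *
        ((b0 * c0) * ⁅a0, l⁆ * (b0 * c0)⁻¹) := by simp only [commutatorElement_def]; group
    _ = _ := by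
      rw [commutatorElement_eq_one_iff_commute.2 hal, mul_one, mul_inv_cancel, mul_one, e2, ← hb.eq,
        mul_inv_cancel_right]
      rfl

theorem Gc_add_left {x y z : MV m F} (hxy : Iso2 a b x y) (hxz : Iso2 a b x z)
    (hyz : Iso2 a b y z) (w w' : Fin 2 → F) :
    Gc σ (x + y) z w w' = Gc σ x z w w' * Gc σ y z w w' := by
  rw [C.Gc_inv (x + y), C.Gc_add_right hxz.symm hyz.symm hxy, _root_.mul_inv_rev, ← C.Gc_inv,
    ← C.Gc_inv]
  exact (C.Gc_commute_Gc hyz hxz hxy hxz hyz.symm (Iso2.refl' hxz.hc hxz.qc) w w' w w').eq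

theorem Gc_add_param {x y : MV m F} (hxy : Iso2 a b x y) (w w' w'' : Fin 2 → F) :
    Gc σ x y w (w' + w'') = Gc σ x y w w' * Gc σ x y w w'' := by
  set a0 := sec σ (T (MQ m a b) x (wv w))
  set b0 := sec σ (T (MQ m a b) y (wv w'))
  set c0 := sec σ (T (MQ m a b) y (wv w''))
  have hb : Commute (Gc σ x y w w'') b0 := C.Gc_commute_short hxy hxy.symm
    (Iso2.refl' hxy.hc hxy.qc) w w'' w' (C.sigma_sec (T_mem _ _))
  rw [Gc, C.cm_eq (C.sigma_sec (T_mem _ _)) (y := b0 * c0) (by
    rw [map_mul, C.sigma_sec (T_mem _ _), C.sigma_sec (T_mem _ _), map_add,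
      T_add hxy.qc (polar_hyp hxy.hc _) (polar_hyp hxy.hc _)])]
  calc ⁅a0, b0 * c0⁆ = ⁅a0, b0⁆ * (b0 * ⁅a0, c0⁆ * b0⁻¹) := by
        simp only [commutatorElement_def]; group
    _ = _ := by
      rw [show ⁅a0, c0⁆ = Gc σ x y w w'' from rfl, ← hb.eq, mul_inv_cancel_right]
      rfl

theorem conj_Gc {e : E} (he : ∀ w, (σ e).1 (wv w) = wv w) (u c : MV m F) (w w' : Fin 2 → F) :
    e * Gc σ u c w w' * e⁻¹ = Gc σ ((σ e).1 u) ((σ e).1 c) w w' := by
  rw [Gc, C.cm_conj (T_mem _ _) (T_mem _ _), T_conj, T_conj, he, he, ← Gc]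

/-- commutator of lifts at the same vector -/
theorem phi_split {x y : MV m F} (hxy : Iso2 a b x y) (w w' : Fin 2 → F) :
    Gc σ (x + y) (x + y) w w' =
      Gc σ x x w w' * Gc σ y y w w' * (Gc σ x y w w' * Gc σ y x w w') := by
  have hx := Iso2.refl' hxy.hu hxy.qu
  have hy := Iso2.refl' hxy.hc hxy.qc
  set a1 := sec σ (T (MQ m a b) x (wv w))
  set a2 := sec σ (T (MQ m a b) y (wv w))
  set b1 := sec σ (T (MQ m a b) x (wv w'))
  set b2 := sec σ (T (MQ m a b) y (wv w'))
  set l := sec σ (T (MQ m a b) x ((-((MQ m a b) (wv w))) • y))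
  set l' := sec σ (T (MQ m a b) x ((-((MQ m a b) (wv w'))) • y))
  have hA : ∀ v, T (MQ m a b) (x + y) (wv v) = σ (sec σ (T (MQ m a b) x (wv v)) * sec σ (T (MQ m a b) y (wv v)) *
      sec σ (T (MQ m a b) x ((-((MQ m a b) (wv v))) • y))) := fun v => by
    rw [map_mul, map_mul, C.sigma_sec (T_mem _ _), C.sigma_sec (T_mem _ _), C.sigma_sec (T_mem _ _)]
    exact T_split hxy.qu hxy.qc hxy.huc (polar_hyp hxy.hu _) (polar_hyp hxy.hc _)
  have hcomm : ∀ (t : F) {p : MV m F}, (p = x ∨ p = y) → ∀ v,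
      Commute (sec σ (T (MQ m a b) x (t • y))) (sec σ (T (MQ m a b) p (wv v))) := by
    intro t p hp v
    refine C.commute_of_cm (C.sigma_sec (T_mem _ _)) (C.sigma_sec (T_mem _ _)) ?_
    rcases hp with rfl | rfl
    · exact C.long_short_cm hxy hx hxy t v
    · exact C.long_short_cm hxy hxy.symm hy t v
  have hll : Commute l l' := C.commute_of_cm (C.sigma_sec (T_mem _ _)) (C.sigma_sec (T_mem _ _))
    (C.long_cm hxy hxy hx hxy hxy.symm hy _ _)
  have hl1 : Commute l (b1 * b2 * l') :=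
    ((hcomm _ (Or.inl rfl) _).mul_right (hcomm _ (Or.inr rfl) _)).mul_right hll
  have hl2 : Commute (a1 * a2) l' :=
    ((hcomm _ (Or.inl rfl) _).mul_right (hcomm _ (Or.inr rfl) _)).symm
  rw [Gc, C.cm_eq (hA w).symm (hA w').symm]
  have key : ⁅a1 * a2, b1 * b2⁆ =
      a1 * (Gc σ y x w w' * (b1 * Gc σ y y w w' * b1⁻¹)) * a1⁻¹ *
        (Gc σ x x w w' * (b1 * Gc σ x y w w' * b1⁻¹)) := by
    simp only [Gc, cm, commutatorElement_def, a1, a2, b1, b2]; group
  have c1 : Gc σ x x w w' ∈ Subgroup.center E :=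
    C.cm_central (T_mem _ _) (T_mem _ _) (by
      show _ = _
      rw [T_add hxy.qu (polar_hyp hxy.hu _) (polar_hyp hxy.hu _),
        T_add hxy.qu (polar_hyp hxy.hu _) (polar_hyp hxy.hu _), add_comm])
  have c2 : Gc σ y y w w' ∈ Subgroup.center E :=
    C.cm_central (T_mem _ _) (T_mem _ _) (by
      show _ = _
      rw [T_add hxy.qc (polar_hyp hxy.hc _) (polar_hyp hxy.hc _),
        T_add hxy.qc (polar_hyp hxy.hc _) (polar_hyp hxy.hc _), add_comm])
  have k1 : Commute (Gc σ x y w w') b1 :=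
    C.Gc_commute_short hxy hx hxy w w' w' (C.sigma_sec (T_mem _ _))
  have k2 : Commute (Gc σ y x w w') a1 :=
    C.Gc_commute_short hxy.symm hxy hx w w' w (C.sigma_sec (T_mem _ _))
  have k3 : Commute (Gc σ y x w w') (Gc σ x y w w') :=
    C.Gc_commute_Gc hxy.symm hxy hxy hx hy hxy.symm w w' w w'
  calc ⁅a1 * a2 * l, b1 * b2 * l'⁆ = ⁅a1 * a2, b1 * b2⁆ := by
        simp only [commutatorElement_def]
        calc a1 * a2 * l * (b1 * b2 * l') * (a1 * a2 * l)⁻¹ * (b1 * b2 * l')⁻¹
            = a1 * a2 * (l * (b1 * b2 * l')) * l⁻¹ * (a1 * a2)⁻¹ * l'⁻¹ * (b1 * b2)⁻¹ := by group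
          _ = a1 * a2 * (b1 * b2) * (l' * (a1 * a2)⁻¹) * l'⁻¹ * (b1 * b2)⁻¹ := by
              rw [hl1.eq]; group
          _ = _ := by rw [← hl2.inv_left.eq]; group
    _ = _ := by
      rw [key, C.conj_central c2, ← k1.eq, mul_inv_cancel_right,
        show a1 * (Gc σ y x w w' * Gc σ y y w w') * a1⁻¹ = Gc σ y x w w' * Gc σ y y w w' by
          rw [← mul_assoc, ← k2.eq, mul_assoc (Gc σ y x w w'), Subgroup.mem_center_iff.1 c2 a1]
          group]
      have d1 := Subgroup.mem_center_iff.1 c1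
      have d2 := Subgroup.mem_center_iff.1 c2
      set g1 := Gc σ x x w w'
      set g2 := Gc σ y y w w'
      set p := Gc σ x y w w'
      set q := Gc σ y x w w'
      calc q * g2 * (g1 * p) = q * (g2 * g1) * p := by group
        _ = (q * g1) * (g2 * p) := by rw [← d2 g1]; group
        _ = g1 * q * (g2 * p) := by rw [d1 q]
        _ = g1 * (q * g2) * p := by group
        _ = g1 * g2 * (q * p) := by rw [d2 q]; group
        _ = _ := by rw [k3.eq]

end CExt

end CfsgLib.SpinMinus
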