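import Cfsg.Agent.Lib.Classical.Quad.Index

/-!
Siegel transformations as a total function of their two parameters.
-/

set_option autoImplicit false
set_option linter.unusedSectionVars false

namespace CfsgLib.SpinMinus

open QuadraticMap CfsgLib.Classical.Quad

variable {F V : Type*} [Field F] [AddCommGroup V] [Module F V] {Q : QuadraticForm F V}

open scoped commutatorElement

attribute [local instance] Classical.propDecidable

/-- the Siegel transformation, trivial for unsuitable parameters -/
noncomputable def T (Q : QuadraticForm F V) (u w : V) : Orth Q :=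
  if h : Q u = 0 ∧ polar Q u w = 0 then siegel Q u w h.1 h.2 else 1

theorem T_eq {u w : V} (hu : Q u = 0) (hw : polar Q u w = 0) :
    T Q u w = siegel Q u w hu hw := dif_pos ⟨hu, hw⟩

theorem T_mem (u w : V) : T Q u w ∈ siegelGroup Q := by
  unfold T
  split_ifs with h
  · exact siegel_mem h.1 h.2
  · exact one_mem _

theorem T_apply {u w : V} (hu : Q u = 0) (hw : polar Q u w = 0) (x : V) :
    (T Q u w).1 x = x + polar Q x u • w + (-(polar Q x w) - Q w * polar Q x u) • u := by
  rw [T_eq hu hw, siegel_apply]

theorem T_conj (g : Orth Q) (u w : V) : g * T Q u w * g⁻¹ = T Q (g.1 u) (g.1 w) := by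
  by_cases h : Q u = 0 ∧ polar Q u w = 0
  · rw [T_eq h.1 h.2, T_eq (by rw [orth_Q, h.1]) (by rw [orth_polar, h.2]), siegel_conj]
  · rw [T, dif_neg h, T, dif_neg (by rwa [orth_Q, orth_polar]), mul_one, mul_inv_cancel]

theorem T_add {u w w' : V} (hu : Q u = 0) (hw : polar Q u w = 0) (hw' : polar Q u w' = 0) :
    T Q u w * T Q u w' = T Q u (w + w') := by
  rw [T_eq hu hw, T_eq hu hw', T_eq hu (by rw [polar_add_right, hw, hw', add_zero]), siegel_mul]

theorem T_zero_right (u : V) : T Q u 0 = 1 := by
  unfold T
  split_ifs with h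
  · exact siegel_zero h.1
  · rfl

theorem T_zero_left (w : V) : T Q 0 w = 1 := by
  unfold T
  split_ifs with h
  · exact orth_ext fun x => by simp [siegel_apply]
  · rfl

theorem T_inv {u w : V} (hu : Q u = 0) (hw : polar Q u w = 0) : (T Q u w)⁻¹ = T Q u (-w) := by
  rw [T_eq hu hw, T_eq hu (by simp [hw]), siegel_inv]

theorem T_smul_left {u w : V} (c : F) (hu : Q u = 0) (hw : polar Q u w = 0) :
    T Q (c • u) w = T Q u (c • w) := by
  rw [T_eq (by simp [QuadraticMap.map_smul, hu]) (by simp [hw]), T_eq hu (by simp [hw]),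
    siegel_smul_left c hu hw]

theorem T_add_smul {u w : V} (c : F) (hu : Q u = 0) (hw : polar Q u w = 0) :
    T Q u (w + c • u) = T Q u w := by
  rw [T_eq hu (by simp [hw, polar_singular_self hu]), T_eq hu hw, siegel_add_smul _ hu hw]

theorem T_swap {u y : V} (hu : Q u = 0) (hy : Q y = 0) (h : polar Q u y = 0) :
    T Q u y = T Q y (-u) := by
  refine orth_ext fun x => ?_
  rw [T_apply hu h, T_apply hy (by simp [polar_comm Q y u, h]), hy, QuadraticMap.map_neg, hu]
  simp only [polar_neg_right]
  module

theorem T_fix {u w x : V} (hu : Q u = 0) (hw : polar Q u w = 0) (h1 : polar Q x u = 0)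
    (h2 : polar Q x w = 0) : (T Q u w).1 x = x := by
  rw [T_eq hu hw, siegel_fix hu hw h1 h2]

/-- elements commute when one fixes the parameters of the other -/
theorem T_commute_of_fix {g : Orth Q} {u w : V} (h1 : g.1 u = u) (h2 : g.1 w = w) :
    Commute g (T Q u w) := by
  have h := T_conj g u w
  rw [h1, h2, mul_inv_eq_iff_eq_mul] at h
  exact h

/-- the commutator of two short root elements -/
theorem T_comm {u c w w' : V} (hu : Q u = 0) (hc : Q c = 0) (huc : polar Q u c = 0)
    (h1 : polar Q u w = 0) (h2 : polar Q c w = 0) (h3 : polar Q u w' = 0) (h4 : polar Q c w' = 0) :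
    ⁅T Q u w, T Q c w'⁆ = T Q u (polar Q w w' • c) := by
  rw [commutatorElement_def, T_conj, T_inv hc h4, T_fix hu h1 (by rw [polar_comm]; exact huc) h2,
    T_apply hu h1]
  rw [show polar Q w' u = 0 by rw [polar_comm]; exact h3, zero_smul, add_zero, mul_zero, sub_zero,
    T_add hc (by simp [h4, polar_comm Q c u, huc]) (by simp [h4]),
    show w' + -(polar Q w' w) • u + -w' = (-(polar Q w' w)) • u by module,
    ← T_smul_left _ hc (by rw [polar_comm]; exact huc), ]
  rw [T_swap (by simp [QuadraticMap.map_smul, hc]) hu (by simp [polar_comm Q c u, huc]),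
    polar_comm Q w' w]
  congr 1
  module

end CfsgLib.SpinMinus
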