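import Cfsg.Agent.Lib.SpinMinus.Cliff
import Cfsg.Agent.Lib.SpinMinus.Short
import Cfsg.Agent.Lib.SpinCover.Plus
import Cfsg.Agent.Lib.SLCover.Universal

/-!
The double cover of the minus-type Siegel group and the Schur multiplier of the simple quotient,
from the bound on kernels of perfect central extensions.
-/

set_option autoImplicit false
set_option linter.unusedSectionVars false

namespace CfsgLib.SpinMinus

open QuadraticMap CfsgLib.Classical.Quad

section Lifts

variable {F : Type*} [Field F] [Fintype F] {a b : F} {m : ℕ}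

noncomputable instance : Finite (Orth (MQ m a b)) :=
  Finite.of_injective (fun g => (g.1 : MV m F → MV m F))
    fun g h e => orth_ext fun x => congrFun e x

/-- action of a lift -/
noncomputable abbrev act (p : S0 m a b) (v : MV m F) : MV m F := (pr m a b p).1 v

theorem act_mul (p q : S0 m a b) (v : MV m F) : act (p * q) v = act p (act q v) := by
  simp [act]

theorem pair_near {c : F} (hc : c ≠ 0) {w w' : MV m F} (hw : MQ m a b w = c)
    (hw' : MQ m a b w' = c) (h : polar (MQ m a b) w w' = 2 * c) :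
    ∃ p : S0 m a b, val' p = c⁻¹ • G2 m a b w' w := by
  have hQ : MQ m a b (c⁻¹ • (w - w')) = 0 := by
    rw [QuadraticMap.map_smul, sub_eq_add_neg, QuadraticMap.map_add (MQ m a b), QuadraticMap.map_neg,
      hw, hw', polar_neg_right, h, smul_eq_mul]
    ring
  have hp : polar (MQ m a b) (c⁻¹ • (w - w')) w = 0 := by
    rw [polar_smul_left, polar_sub_left, polar_self', hw, polar_comm _ w' w, h, sub_self, smul_zero]
  obtain ⟨p, hp, -⟩ := gen_exists hQ hp
  refine ⟨p, ?_⟩
  rw [hp, G2, G2, map_smul, map_sub, smul_mul_assoc, sub_mul, Gam_sq, hw, smul_sub, smul_smul,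
    inv_mul_cancel₀ hc, one_smul, sub_sub_cancel]

theorem pair_orth {c : F} (hc : c ≠ 0) {w w' z : MV m F} (hw : MQ m a b w = c)
    (hw' : MQ m a b w' = c) (h : polar (MQ m a b) w w' = 0) (hz : MQ m a b z = -c)
    (hwz : polar (MQ m a b) w z = 0) (hw'z : polar (MQ m a b) w' z = 0) :
    ∃ p : S0 m a b, val' p = c⁻¹ • G2 m a b w w' := by
  set y := w + w' + z
  have hy : MQ m a b y = c := by
    simp only [y, QuadraticMap.map_add (MQ m a b), polar_add_left, hw, hw', hz, h, hwz, hw'z]
    ring
  obtain ⟨p, hp⟩ := pair_near hc hy hw (by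
    simp only [y, polar_add_left, polar_self', hw, polar_comm _ w' w, h, polar_comm _ z w, hwz]
    ring)
  obtain ⟨q, hq⟩ := pair_near hc hw' hy (by
    simp only [y, polar_add_right, polar_self', hw', polar_comm _ w' w, h, hw'z]
    ring)
  refine ⟨p * q, ?_⟩
  rw [val'_mul, hp, hq, smul_mul_smul_comm, G2, G2, G2, mul_assoc, ← mul_assoc (Gam m a b y),
    Gam_sq, hy, smul_mul_assoc, one_mul, mul_smul_comm, smul_smul, mul_assoc, inv_mul_cancel₀ hc,
    mul_one]

/-- the properties of the lift of a product of two orthogonal reflections -/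
structure IsPair (g : S0 m a b) (w w' : MV m F) : Prop where
  sq : val' (g * g) = -1
  flip₁ : act g w = -w
  flip₂ : act g w' = -w'
  fix : ∀ v, polar (MQ m a b) v w = 0 → polar (MQ m a b) v w' = 0 → act g v = v
  comm : ∀ p : S0 m a b, act p w = w → act p w' = w' → p * g = g * p

theorem exists_pair {c : F} (hc : c ≠ 0) {w w' z : MV m F} (hw : MQ m a b w = c)
    (hw' : MQ m a b w' = c) (h : polar (MQ m a b) w w' = 0) (hz : MQ m a b z = -c)
    (hwz : polar (MQ m a b) w z = 0) (hw'z : polar (MQ m a b) w' z = 0) :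
    ∃ g : S0 m a b, IsPair g w w' := by
  obtain ⟨g, hg⟩ := pair_orth hc hw hw' h hz hwz hw'z
  have sw : Gam m a b w' * Gam m a b w = -(Gam m a b w * Gam m a b w') := by
    rw [Gam_swap w w', h, zero_smul, zero_sub]
  refine ⟨g, ⟨?_, act_eq ?_, act_eq ?_, fun v h1 h2 => act_eq ?_, fun p h1 h2 => S0_ext ?_⟩⟩
  · rw [val'_mul, hg, smul_mul_smul_comm, G2, mul_assoc, ← mul_assoc (Gam m a b w'), sw, neg_mul,
      mul_assoc, Gam_sq, hw', mul_neg, mul_smul_comm, mul_one, mul_smul_comm, Gam_sq, hw, smul_smul,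
      smul_neg, smul_smul]
    rw [show c⁻¹ * c⁻¹ * (c * c) = 1 by field_simp, one_smul]
  · rw [hg, G2, map_neg, neg_mul, mul_smul_comm, smul_mul_assoc, mul_assoc, sw, mul_neg, smul_neg]
  · rw [hg, G2, map_neg, neg_mul, mul_smul_comm, smul_mul_assoc, ← mul_assoc (Gam m a b w'), sw,
      neg_mul, smul_neg, neg_neg]
  · rw [hg, G2, mul_smul_comm, smul_mul_assoc, mul_assoc, Gam_swap v w', h2, zero_smul, zero_sub,
      mul_neg, ← mul_assoc, Gam_swap v w, h1, zero_smul, zero_sub, neg_mul, neg_neg, mul_assoc]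
  · rw [val'_mul, val'_mul, hg, G2, mul_smul_comm, smul_mul_assoc, ← mul_assoc, S0_conj,
      show (pr m a b p).1 w = w from h1, mul_assoc (Gam m a b w) (val' p), S0_conj,
      show (pr m a b p).1 w' = w' from h2, ← mul_assoc]

/-- `e + s f` in the `i`-th hyperbolic pair -/
def xv (i : Fin m) (s : F) : MV m F := ev i + s • fv i

theorem Q_xv (i : Fin m) (s : F) : MQ m a b (xv i s) = s := by
  simp [xv, QuadraticMap.map_add (MQ m a b), QuadraticMap.map_smul, polar_smul_right]

theorem polar_xv {i j : Fin m} (h : i ≠ j) (s t : F) :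
    polar (MQ m a b) (xv i s) (xv j t) = 0 := by
  simp [xv, polar_add_left, polar_add_right, polar_ev_fv, polar_fv_ev,
    h, Ne.symm h]

theorem polar_xv_self (i : Fin m) (s t : F) :
    polar (MQ m a b) (xv i s) (xv i t) = s + t := by
  simp [xv, polar_add_left, polar_add_right, add_comm]

theorem exists_other (hm : 3 ≤ m) (i j : Fin m) : ∃ k : Fin m, i ≠ k ∧ j ≠ k := by
  obtain ⟨k, h1, h2⟩ : ∃ k : ℕ, k < 3 ∧ k ≠ i.val ∧ k ≠ j.val := by
    by_cases h0 : 0 ≠ i.val ∧ 0 ≠ j.val
    · exact ⟨0, by omega, h0⟩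
    by_cases h1 : 1 ≠ i.val ∧ 1 ≠ j.val
    · exact ⟨1, by omega, h1⟩
    exact ⟨2, by omega, by omega⟩
  exact ⟨⟨k, by omega⟩, fun e => h2.1 (by rw [e]), fun e => h2.2 (by rw [e])⟩

/-- an involution negating two hyperbolic pairs -/
theorem exists_flip (hm : 3 ≤ m) (h2 : (2 : F) ≠ 0) {i j : Fin m} (hij : i ≠ j) :
    ∃ h : S0 m a b, h * h = 1 ∧
      (∀ l : Fin m ⊕ Fin m, (jpos l = i.val ∨ jpos l = j.val) → act h (dv l) = -dv l) ∧
      (∀ v, (∀ s, polar (MQ m a b) v (xv i s) = 0) → (∀ s, polar (MQ m a b) v (xv j s) = 0) →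
        act h v = v) ∧
      (∀ p : S0 m a b, (∀ s, act p (xv i s) = xv i s) → (∀ s, act p (xv j s) = xv j s) →
        p * h = h * p) := by
  obtain ⟨k, hik, hjk⟩ := exists_other hm i j
  obtain ⟨g, hg⟩ := exists_pair (a := a) (b := b) (one_ne_zero (α := F)) (Q_xv i 1) (Q_xv j 1)
    (polar_xv hij _ _) (Q_xv k (-1)) (polar_xv hik _ _) (polar_xv hjk _ _)
  obtain ⟨g', hg'⟩ := exists_pair (a := a) (b := b) (neg_ne_zero.2 (one_ne_zero (α := F)))
    (Q_xv i (-1)) (Q_xv j (-1)) (polar_xv hij _ _) (z := xv k 1) (by rw [Q_xv, neg_neg])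
    (polar_xv hik _ _) (polar_xv hjk _ _)
  have c1 : g * g' = g' * g := hg'.comm g
    (hg.fix _ (by rw [polar_xv_self, neg_add_cancel]) (polar_xv hij _ _))
    (hg.fix _ (polar_xv hij.symm _ _) (by rw [polar_xv_self, neg_add_cancel]))
  have hflip : ∀ (l : Fin m), l = i ∨ l = j →
      act (g * g') (xv l 1) = -xv l 1 ∧ act (g * g') (xv l (-1)) = -xv l (-1) := by
    intro l hl
    rcases hl with rfl | rfl
    · constructor
      · rw [act_mul, hg'.fix _ (by rw [polar_xv_self, add_neg_cancel]) (polar_xv hij _ _), hg.flip₁]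
      · rw [c1, act_mul, hg.fix _ (by rw [polar_xv_self, neg_add_cancel]) (polar_xv hij _ _),
          hg'.flip₁]
    · constructor
      · rw [act_mul, hg'.fix _ (polar_xv hij.symm _ _) (by rw [polar_xv_self, add_neg_cancel]),
          hg.flip₂]
      · rw [c1, act_mul, hg.fix _ (polar_xv hij.symm _ _) (by rw [polar_xv_self, neg_add_cancel]),
          hg'.flip₂]
  refine ⟨g * g', S0_ext ?_, fun l hl => ?_, fun v h1 h1' => ?_, fun p h1 h1' => ?_⟩
  · rw [show g * g' * (g * g') = g * g * (g' * g') by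
      rw [mul_assoc, ← mul_assoc g', ← c1, mul_assoc, ← mul_assoc], val'_mul, hg.sq, hg'.sq,
      neg_mul_neg, one_mul]
    rfl
  · have key : ∀ n : Fin m, n.val = i.val ∨ n.val = j.val →
        act (g * g') (ev n : MV m F) = -ev n ∧ act (g * g') (fv n : MV m F) = -fv n := by
      intro n hn
      obtain ⟨e1, e2⟩ := hflip n (hn.imp Fin.ext Fin.ext)
      have half : (2⁻¹ : F) + 2⁻¹ = 1 := by rw [← two_mul, mul_inv_cancel₀ h2]
      have de : (ev n : MV m F) = (2⁻¹ : F) • xv n 1 + (2⁻¹ : F) • xv n (-1) := by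
        unfold xv; linear_combination (norm := module) -half • ev n
      have df : (fv n : MV m F) = (2⁻¹ : F) • xv n 1 - (2⁻¹ : F) • xv n (-1) := by
        unfold xv; linear_combination (norm := module) -half • fv n
      constructor
      · rw [de]
        show (pr m a b _).1 _ = _
        rw [map_add, map_smul, map_smul, show (pr m a b _).1 (xv n 1) = _ from e1,
          show (pr m a b _).1 (xv n (-1)) = _ from e2, smul_neg, smul_neg, neg_add]
      · rw [df]
        show (pr m a b _).1 _ = _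
        rw [map_sub, map_smul, map_smul, show (pr m a b _).1 (xv n 1) = _ from e1,
          show (pr m a b _).1 (xv n (-1)) = _ from e2, smul_neg, smul_neg]
        abel
    rcases l with n | n
    · exact (key n hl).1
    · exact (key n hl).2
  · rw [act_mul, hg'.fix _ (h1 _) (h1' _), hg.fix _ (h1 _) (h1' _)]
  · rw [← mul_assoc, hg.comm p (h1 _) (h1' _), mul_assoc, hg'.comm p (h1 _) (h1' _), mul_assoc]

theorem dv_xv (i : Fin m) (s : F) : xv i s = dv (.inl i) + s • dv (.inr i) := rfl

theorem exists_signs (hm : 3 ≤ m) (h2 : (2 : F) ≠ 0) : ∀ k, 2 * k ≤ m → ∃ p : S0 m a b,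
    p * p = 1 ∧ (∀ l, jpos l < 2 * k → act p (dv l) = -dv l) ∧
      (∀ l, 2 * k ≤ jpos l → act p (dv l) = dv l) ∧ ∀ w, act p (wv w) = wv w := by
  intro k
  induction k with
  | zero =>
    intro _
    exact ⟨1, one_mul 1, fun l h => absurd h (by omega), fun l _ => by simp [act],
      fun w => by simp [act]⟩
  | succ k ih =>
    intro hk
    obtain ⟨p, hp, p1, p2, p3⟩ := ih (by omega)
    let i : Fin m := ⟨2 * k, by omega⟩
    let j : Fin m := ⟨2 * k + 1, by omega⟩
    have hij : i ≠ j := by simp [i, j]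
    obtain ⟨h, hh, f1, f2, f3⟩ := exists_flip (a := a) (b := b) hm h2 hij
    have pfix : ∀ (n : Fin m), 2 * k ≤ n.val → ∀ s, act p (xv n s) = xv n s := by
      intro n hn s
      show (pr m a b p).1 _ = _
      rw [dv_xv, map_add, map_smul, show (pr m a b p).1 (dv (Sum.inl n)) = _ from p2 _ hn,
        show (pr m a b p).1 (dv (Sum.inr n)) = _ from p2 _ hn]
    have hc : p * h = h * p := f3 p (pfix i le_rfl) (pfix j (by simp [j]))
    have hfix : ∀ l, jpos l ≠ 2 * k → jpos l ≠ 2 * k + 1 → act h (dv l) = dv l := by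
      intro l l1 l2
      have e : ∀ (n : Fin m), jpos l ≠ n.val → ∀ s, polar (MQ m a b) (dv l) (xv n s) = 0 := by
        intro n hn s
        rw [dv_xv, polar_add_right, polar_smul_right, polar_dv, polar_dv, if_neg, if_neg]
        · simp
        · intro e; exact hn (by rw [← jpos_bar, ← e]; rfl)
        · intro e; exact hn (by rw [← jpos_bar, ← e]; rfl)
      exact f2 _ (e i l1) (e j l2)
    refine ⟨p * h, ?_, fun l hl => ?_, fun l hl => ?_, fun w => ?_⟩
    · rw [show p * h * (p * h) = p * p * (h * h) by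
        rw [mul_assoc, ← mul_assoc h, ← hc, mul_assoc, ← mul_assoc], hp, hh, one_mul]
    · rw [act_mul]
      by_cases hl' : jpos l < 2 * k
      · rw [hfix l (by omega) (by omega), p1 l hl']
      · rw [f1 l (by simp only [i, j]; omega)]
        show (pr m a b p).1 _ = _
        rw [map_neg, show (pr m a b p).1 (dv l) = _ from p2 l (by omega)]
    · rw [act_mul, hfix l (by omega) (by omega), p2 l (by omega)]
    · rw [act_mul, f2 _ (fun s => by simp [xv, polar_add_right])
        (fun s => by simp [xv, polar_add_right]), p3]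

/-- the kernel element `-1` -/
theorem exists_z (hm : 3 ≤ m) (h2 : (2 : F) ≠ 0) :
    ∃ z ∈ commutator (S0 m a b), pr m a b z = 1 ∧ z ≠ 1 := by
  obtain ⟨k, hk1, hk2⟩ := exists_other hm ⟨0, by omega⟩ ⟨1, by omega⟩
  obtain ⟨g, hg⟩ := exists_pair (a := a) (b := b) (one_ne_zero (α := F)) (Q_xv ⟨0, by omega⟩ 1)
    (Q_xv ⟨1, by omega⟩ 1) (polar_xv (by simp) _ _) (Q_xv k (-1)) (polar_xv hk1 _ _)
    (polar_xv hk2 _ _)
  refine ⟨g * g, ?_, orth_ext fun x => ?_, fun e => ?_⟩
  · refine Subgroup.mul_mem _ ?_ ?_ <;>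
    · refine mem_derived_of_pow_four h2 (S0_ext ?_)
      rw [show g ^ 4 = g * g * (g * g) by simp only [pow_succ, pow_zero, one_mul, mul_assoc], val'_mul, hg.sq, neg_mul_neg, one_mul]
      rfl
  · show (pr m a b (g * g)).1 x = x
    exact act_eq (by rw [hg.sq, neg_one_mul, mul_neg_one])
  · have := hg.sq
    rw [e, val'_one] at this
    exact SpinCover.spinor_one_ne_neg_one h2 this

/-- a lift of `-1` whose square is not trivial -/
theorem exists_negOne_lift (hm : 3 ≤ m) (hab : IsAniso a b) (h4 : Fintype.card F % 4 = 3)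
    (hev : Even m) :
    ∃ x ∈ commutator (S0 m a b), pr m a b x = negOne (MQ m a b) ∧ x * x ≠ 1 := by
  have h2 : (2 : F) ≠ 0 := two_ne_zero_iff_odd.2 (by rw [Nat.card_eq_fintype_card, Nat.odd_iff]; omega)
  have hns : ¬ IsSquare (-1 : F) := by rw [FiniteField.isSquare_neg_one_iff]; simp [h4]
  have hD : ¬ IsSquare (a * a - 4 * b) := by
    rintro ⟨s, hs⟩
    have := (hab ((s - a) / 2) 1 (by field_simp; linear_combination -hs)).2
    exact one_ne_zero this
  obtain ⟨r, hr⟩ : IsSquare ((-1) * (a * a - 4 * b)) := by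
    classical
    have hD0 : (a * a - 4 * b) ≠ 0 := fun e => hD (by rw [e]; exact IsSquare.zero)
    rw [← quadraticChar_one_iff_isSquare (mul_ne_zero (neg_ne_zero.2 one_ne_zero) hD0),
      map_mul, quadraticChar_neg_one_iff_not_isSquare.2 hns,
      quadraticChar_neg_one_iff_not_isSquare.2 hD]
    norm_num
  have hr0 : r ≠ 0 := fun e => hD (by rw [e, mul_zero] at hr; exact ⟨0, by linear_combination -hr⟩)
  let P : Fin 2 → F := ![1, 0]
  let R : Fin 2 → F := ![-a * r⁻¹, 2 * r⁻¹]
  have hP : binForm a b P = 1 := by simp [P, binForm_apply]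
  have hR : binForm a b R = 1 := by
    simp only [R, binForm_apply, Matrix.cons_val_zero, Matrix.cons_val_one, Matrix.cons_val_fin_one]
    field_simp
    linear_combination hr
  have hPR : polar (binForm a b) P R = 0 := by
    simp only [QuadraticMap.polar, binForm_apply, P, R, Pi.add_apply, Matrix.cons_val_zero,
      Matrix.cons_val_one, Matrix.cons_val_fin_one]
    ring
  let i₀ : Fin m := ⟨0, by omega⟩
  obtain ⟨g, hg⟩ := exists_pair (a := a) (b := b) (one_ne_zero (α := F))
    (w := wv P) (w' := wv R) (by rw [Q_wv, hP]) (by rw [Q_wv, hR]) (by rw [polar_wv_wv, hPR])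
    (Q_xv i₀ (-1)) (by simp [xv, polar_add_right]) (by simp [xv, polar_add_right])
  obtain ⟨k, hk⟩ := hev
  obtain ⟨p, hp, p1, -, p3⟩ := exists_signs (a := a) (b := b) hm h2 k (by omega)
  have hc : p * g = g * p := hg.comm p (p3 _) (p3 _)
  have hsq : val' (p * g * (p * g)) = -1 := by
    rw [show p * g * (p * g) = p * p * (g * g) by
      rw [mul_assoc, ← mul_assoc g, ← hc, mul_assoc, ← mul_assoc], hp, one_mul, hg.sq]
  refine ⟨p * g, mem_derived_of_pow_four h2 (S0_ext ?_),
    orth_ext_basis (fun l => ?_) (fun w => ?_), fun e => ?_⟩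
  · rw [show (p * g) ^ 4 = p * g * (p * g) * (p * g * (p * g)) by
      simp only [pow_succ, pow_zero, one_mul, mul_assoc], val'_mul, hsq, neg_mul_neg,
      one_mul]
    rfl
  · show act (p * g) _ = _
    rw [act_mul, hg.fix _ (polar_dv_wv _ _) (polar_dv_wv _ _), p1 l (by
      rcases l with n | n <;> simp [jpos] <;> omega), negOne_apply]
  · show act (p * g) _ = _
    rw [act_mul, negOne_apply]
    have hw : (wv w : MV m F) = (w 0 + a * w 1 / 2) • wv P + (w 1 * r / 2) • wv R := by
      rw [← map_smul, ← map_smul, ← map_add]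
      congr 1
      funext n
      fin_cases n <;> simp [P, R] <;> field_simp <;> ring
    have : act g (wv w) = -wv w := by
      rw [hw]
      show (pr m a b g).1 _ = _
      rw [map_add, map_smul, map_smul, show (pr m a b g).1 (wv P) = _ from hg.flip₁,
        show (pr m a b g).1 (wv R) = _ from hg.flip₂, smul_neg, smul_neg, neg_add]
    rw [this]
    show (pr m a b p).1 _ = _
    rw [map_neg, show (pr m a b p).1 (wv w) = _ from p3 w]
  · rw [e, val'_one] at hsq
    exact SpinCover.spinor_one_ne_neg_one h2 hsq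

theorem derived_map (hm : 2 ≤ m) (hab : IsAniso a b) :
    (commutator (S0 m a b)).map (pr m a b) = siegelGroup (MQ m a b) ∧
    (⁅commutator (S0 m a b), commutator (S0 m a b)⁆).map (pr m a b) =
      siegelGroup (MQ m a b) := by
  obtain ⟨P⟩ := exists_frame (F := F) (a := a) (b := b) hm
  have h : ⁅siegelGroup (MQ m a b), siegelGroup (MQ m a b)⁆ = siegelGroup (MQ m a b) :=
    le_antisymm (Subgroup.commutator_le_self _) (siegelGroup_le_commutator (ndPolar hab) P)
  have h1 : (commutator (S0 m a b)).map (pr m a b) = siegelGroup (MQ m a b) := by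
    rw [commutator_def, Subgroup.map_commutator, ← MonoidHom.range_eq_map, pr_range, h]
  exact ⟨h1, by rw [Subgroup.map_commutator, h1, h]⟩

theorem derived_perfect (hm : 2 ≤ m) (hab : IsAniso a b) :
    commutator ↥(commutator (S0 m a b)) = ⊤ := by
  apply Subgroup.map_injective (commutator (S0 m a b)).subtype_injective
  rw [Subgroup.map_subtype_commutator, ← MonoidHom.range_eq_map, Subgroup.range_subtype]
  refine le_antisymm (Subgroup.commutator_le_self _) ?_
  refine SLCover.commutator_le_of_map_eq_top (pr m a b).rangeRestrict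
    (by rw [MonoidHom.ker_rangeRestrict]; exact pr_ker) _ ?_
  apply Subgroup.map_injective (pr m a b).range.subtype_injective
  rw [Subgroup.map_map, MonoidHom.subtype_comp_rangeRestrict, (derived_map hm hab).2,
    ← MonoidHom.range_eq_map, Subgroup.range_subtype, pr_range]

end Lifts

/-- the cover -/
abbrev Cover {F : Type*} [Field F] [Fintype F] (m : ℕ) (a b : F) : Type _ :=
  ↥(commutator (S0 m a b))

universe u

variable {F : Type u} [Field F] [Fintype F] {a b : F} {m : ℕ}

theorem center_arith (hab : IsAniso a b) (hm : 2 ≤ m) (P : Frame (MQ m a b)) :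
    Nat.card (Subgroup.center (siegelGroup (MQ m a b))) * (siegelGroup (MQ m a b)).index =
      2 * Nat.gcd 4 (Nat.card F ^ (m + 1) + 1) := by
  have h := card_pomega (minusEquiv m F) (minusEquiv_spec m a b) (ndPolar hab) P
  rw [Nat.card_congr (isometryEquivModel (minusEquiv m F) (minusEquiv_spec m a b)).toEquiv,
    card_orth_minus hab] at h
  have h' := card_pomega_minus hab hm
  have hpos : 0 < Nat.card (Cfsg.POmega F (Cfsg.quadFormMinus m F a b)) := Nat.card_pos
  apply Nat.eq_of_mul_eq_mul_left hpos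
  rw [← mul_assoc, h, mul_left_comm, mul_comm (Nat.card (Cfsg.POmega F _)), h']
  ring

/-- the Schur multiplier of `PΩ⁻` from the kernel bound -/
theorem multiplier_minus (hm : 3 ≤ m) (hab : IsAniso a b)
    (hbound : ∀ (E : Type u) [Group E] [Finite E] (σ : E →* Orth (MQ m a b)), CExt σ →
      commutator E = ⊤ → Nat.card σ.ker ≤ (if Fintype.card F % 2 = 0 then 1 else 2)) :
    Cfsg.HasCyclicSchurMultiplier (Cfsg.POmega F (Cfsg.quadFormMinus m F a b))
      (Nat.gcd 4 (Fintype.card F ^ (m + 1) + 1)) := by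
  classical
  have hm2 : 2 ≤ m := by omega
  obtain ⟨P⟩ := exists_frame (F := F) (a := a) (b := b) hm2
  have hnd := ndPolar (m := m) hab
  let ρ : Cover m a b →* Orth (MQ m a b) := (pr m a b).comp (commutator (S0 m a b)).subtype
  have hρr : ρ.range = siegelGroup (MQ m a b) := by
    rw [MonoidHom.range_comp, Subgroup.range_subtype, (derived_map hm2 hab).1]
  have hρc : ρ.ker ≤ Subgroup.center (Cover m a b) := by
    intro x hx
    rw [Subgroup.mem_center_iff]
    intro y
    exact Subtype.ext (Subgroup.mem_center_iff.1 (pr_ker (show x.1 ∈ (pr m a b).ker from hx)) y.1)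
  have hperf : commutator (Cover m a b) = ⊤ := derived_perfect hm2 hab
  set k := (if Fintype.card F % 2 = 0 then 1 else 2) with hk
  have hle : Nat.card ρ.ker ≤ k := hbound _ ρ ⟨hab, hm, hρc, hρr⟩ hperf
  have h2odd : Fintype.card F % 2 ≠ 0 ↔ (2 : F) ≠ 0 := by
    rw [two_ne_zero_iff_odd, Nat.card_eq_fintype_card, Nat.odd_iff]; omega
  have hcard : Nat.card ρ.ker = k := by
    refine le_antisymm hle ?_
    rw [hk]
    split_ifs with h0
    · exact Nat.card_pos
    obtain ⟨z, hz, hz1, hzn⟩ := exists_z (a := a) (b := b) hm (h2odd.1 h0)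
    haveI : Nontrivial ρ.ker :=
      ⟨⟨⟨⟨z, hz⟩, hz1⟩, 1, fun e => hzn (congrArg (fun y : ρ.ker => y.1.1) e)⟩⟩
    exact Finite.one_lt_card
  -- the projection to the simple group
  let ρ' : Cover m a b →* siegelGroup (MQ m a b) :=
    ρ.codRestrict _ fun x => by rw [← hρr]; exact ⟨x, rfl⟩
  have hρ's : Function.Surjective ρ' := fun g => by
    obtain ⟨x, hx⟩ : g.1 ∈ ρ.range := by rw [hρr]; exact g.2
    exact ⟨x, Subtype.ext hx⟩
  let e := pomegaEquiv (minusEquiv m F) (minusEquiv_spec m a b) hnd P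
  let π : Cover m a b →* Cfsg.POmega F (Cfsg.quadFormMinus m F a b) :=
    e.symm.toMonoidHom.comp ((QuotientGroup.mk' _).comp ρ')
  have hπs : Function.Surjective π :=
    e.symm.surjective.comp ((QuotientGroup.mk'_surjective _).comp hρ's)
  have hπk : π.ker = (Subgroup.center (siegelGroup (MQ m a b))).comap ρ' := by
    ext x
    simp only [MonoidHom.mem_ker, Subgroup.mem_comap, π, MonoidHom.comp_apply]
    rw [MulEquiv.coe_toMonoidHom, MulEquiv.map_eq_one_iff, QuotientGroup.mk'_apply,
      QuotientGroup.eq_one_iff]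
  have hπc : π.ker ≤ Subgroup.center (Cover m a b) := by
    have h1 := SpinCover.comp_central ρ' (QuotientGroup.mk' (Subgroup.center (siegelGroup (MQ m a b))))
      (by rw [MonoidHom.ker_codRestrict]; exact hρc) (by rw [QuotientGroup.ker_mk']) hperf
    intro x hx
    exact h1 (by
      rw [hπk] at hx
      exact (QuotientGroup.eq_one_iff _).2 hx)
  have hidx : (siegelGroup (MQ m a b)).index = 2 * k := by
    rw [hk]
    split_ifs with h0
    · have h2 : (2 : F) = 0 := not_not.1 fun h => h2odd.2 h h0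
      have hr : ringChar F = 2 := by
        by_contra hr
        exact Ring.two_ne_zero hr h2
      exact (siegel_index_even hnd P hr).1
    · exact (siegel_index_odd hnd P (ringChar_ne_two_of_odd
        (two_ne_zero_iff_odd.1 (h2odd.1 h0))) one_ne_zero).1
  set n := Nat.gcd 4 (Fintype.card F ^ (m + 1) + 1) with hn
  have hkerπ : Nat.card π.ker = n := by
    have h1 : Nat.card π.ker * π.ker.index = Nat.card (Cover m a b) := Subgroup.card_mul_index _
    have h2 : ρ'.ker.index = Nat.card (siegelGroup (MQ m a b)) := by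
      rw [Subgroup.index_ker, MonoidHom.range_eq_top.2 hρ's, Subgroup.card_top]
    have h3 := Subgroup.card_mul_index ρ'.ker
    rw [h2, MonoidHom.ker_codRestrict, hcard, ← h1, hπk,
      Subgroup.index_comap_of_surjective _ hρ's,
      ← Subgroup.card_mul_index (Subgroup.center (siegelGroup (MQ m a b))), ← mul_assoc] at h3
    have h4 := center_arith hab hm2 P
    rw [hidx, Nat.card_eq_fintype_card (α := F), ← hn] at h4
    rw [hπk, ← Nat.eq_of_mul_eq_mul_right (Nat.pos_of_ne_zero Subgroup.index_ne_zero_of_finite) h3]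
    linarith
  have hcyc : IsCyclic π.ker := by
    have hd : n ∣ 4 := Nat.gcd_dvd_left _ _
    have hle4 : n ≤ 4 := Nat.le_of_dvd (by norm_num) hd
    by_cases h4 : n = 4
    · have h4' : 4 ∣ Fintype.card F ^ (m + 1) + 1 := h4 ▸ Nat.gcd_dvd_right _ _
      have hq : Fintype.card F % 4 = 3 ∧ Even m := by
        have hp := Nat.pow_mod (Fintype.card F) (m + 1) 4
        rcases Nat.even_or_odd (Fintype.card F) with he | ho
        · have := Nat.even_iff.1 ((Nat.even_pow' (show m + 1 ≠ 0 by omega)).2 he)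
          omega
        rw [Nat.odd_iff] at ho
        rcases (by omega : Fintype.card F % 4 = 1 ∨ Fintype.card F % 4 = 3) with h1 | h3
        · rw [h1, one_pow] at hp
          omega
        refine ⟨h3, ?_⟩
        rcases Nat.even_or_odd m with he | ⟨j, hj⟩
        · exact he
        · rw [h3, show m + 1 = 2 * (j + 1) by omega, pow_mul 3, Nat.pow_mod (3 ^ 2)] at hp
          simp only [show (3 : ℕ) ^ 2 % 4 = 1 by norm_num, one_pow] at hp
          rw [show m + 1 = 2 * (j + 1) by omega] at h4'
          omega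
      obtain ⟨x, hx, hx1, hx2⟩ := exists_negOne_lift (a := a) (b := b) hm hab hq.1 hq.2
      have hxk : (⟨x, hx⟩ : Cover m a b) ∈ π.ker := by
        rw [hπk, Subgroup.mem_comap]
        exact (mem_center_siegelGroup_iff hnd P _).2 (Or.inr fun y => by
          show (pr m a b x).1 y = -y
          rw [hx1, negOne_apply])
      haveI : Fact (Nat.Prime 2) := ⟨Nat.prime_two⟩
      refine isCyclic_of_orderOf_eq_card ⟨⟨x, hx⟩, hxk⟩ ?_
      rw [hkerπ, h4, show (4 : ℕ) = 2 ^ (1 + 1) by norm_num]
      refine orderOf_eq_prime_pow ?_ ?_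
      · rw [pow_one, pow_two]
        exact fun e => hx2 (congrArg (fun y : π.ker => y.1.1) e)
      · rw [show 2 ^ (1 + 1) = n from by rw [h4]; norm_num, ← hkerπ, pow_card_eq_one']
    · obtain h1 | h1 : n = 1 ∨ n = 2 := by
        interval_cases hv : n <;> omega
      · haveI : Subsingleton π.ker := (Nat.card_eq_one_iff_unique.1 (hkerπ.trans h1)).1
        infer_instance
      · haveI : Fact (Nat.Prime 2) := ⟨Nat.prime_two⟩
        exact isCyclic_of_prime_card (p := 2) (hkerπ.trans h1)
  refine SLCover.hasSchurMultiplier_of_closed π hπs hπc hperf ?_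
    (mulEquivOfCyclicCardEq (by rw [hkerπ, Nat.card_congr Multiplicative.toAdd, Nat.card_zmod]))
  intro E _ _ p hps hpc hEp
  have hσ : CExt (ρ.comp p) := ⟨hab, hm, SpinCover.comp_central p ρ hpc hρc hEp, by
    rw [MonoidHom.range_comp, MonoidHom.range_eq_top.2 hps, ← MonoidHom.range_eq_map, hρr]⟩
  have hb := hbound E (ρ.comp p) hσ hEp
  rw [← hcard] at hb
  let f : (ρ.comp p).ker → ρ.ker := fun x => ⟨p x.1, x.2⟩
  have hf : Function.Surjective f := fun y => by
    obtain ⟨x, hx⟩ := hps y.1
    exact ⟨⟨x, by rw [MonoidHom.mem_ker, MonoidHom.comp_apply, hx]; exact y.2⟩, Subtype.ext hx⟩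
  have hfb := Function.Surjective.bijective_of_nat_card_le hf hb
  refine (injective_iff_map_eq_one p).2 fun g hg => ?_
  have := hfb.1 (a₁ := ⟨g, by rw [MonoidHom.mem_ker, MonoidHom.comp_apply, hg, map_one]⟩)
    (a₂ := 1) (Subtype.ext (by show p g = p 1; rw [hg, map_one]))
  exact congrArg Subtype.val this

end CfsgLib.SpinMinus
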