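import Cfsg.Agent.Lib.SpinMinus.Move

/-!
Elements of the Siegel group fixing hyperbolic pairs lie in the lower groups.
-/

set_option autoImplicit false
set_option linter.unusedSectionVars false

namespace CfsgLib.SpinMinus

open QuadraticMap CfsgLib.Classical.Quad

variable {F : Type*} [Field F] [Fintype F] {a b : F} {m : ℕ}

/-- two reflections multiply into the Siegel group only if their norms agree up to squares -/
theorem refl_mul_mem {V : Type*} [AddCommGroup V] [Module F V] [FiniteDimensional F V] [Finite V]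
    {Q : QuadraticForm F V} (hnd : NDPolar Q) (P : Frame Q) {x y : V} (hx : Q x ≠ 0) (hy : Q y ≠ 0)
    (h : refl Q x * refl Q y ∈ siegelGroup Q) : ∃ s : F, Q x = s * s * Q y := by
  by_cases h2 : ringChar F = 2
  · obtain ⟨s, hs⟩ := FiniteField.isSquare_of_char_two h2 (Q x / Q y)
    exact ⟨s, by rw [← hs, div_mul_cancel₀ _ hy]⟩
  by_contra hcon
  push Not at hcon
  have hns : ¬ IsSquare (Q x / Q y) := fun ⟨s, hs⟩ =>
    hcon s (by rw [← hs, div_mul_cancel₀ _ hy])
  set C := reflClass P (Q x)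
  have hC : reflClass P (Q y) = C := by
    have h' : QuotientGroup.mk' (siegelGroup Q) (refl Q x * refl Q y) = 1 :=
      (QuotientGroup.eq_one_iff _).2 h
    rw [map_mul, reflClass_eq hnd P, reflClass_eq hnd P] at h'
    calc reflClass P (Q y) = reflClass P (Q x) * (reflClass P (Q x) * reflClass P (Q y)) := by
          rw [← mul_assoc, reflClass_mul_self, one_mul]
      _ = C := by rw [h', mul_one]
  have hall : ∀ c, reflClass P c = 1 ∨ reflClass P c = C := by
    intro c
    by_cases hc : c = 0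
    · left
      have h1 := reflClass_eq hnd P (0 : V)
      rw [QuadraticMap.map_zero] at h1
      rw [hc, ← h1, show refl Q (0 : V) = 1 from orth_ext fun z => by simp [refl_apply], map_one]
    right
    by_cases h1 : IsSquare (c / Q x)
    · obtain ⟨s, hs⟩ := h1
      have e : c = s * s * Q x := by rw [← hs, div_mul_cancel₀ _ hx]
      have hs0 : s ≠ 0 := by rintro rfl; exact hc (by rw [e]; ring)
      rw [e, reflClass_sq hnd P hs0]
    · obtain ⟨s, hs⟩ : IsSquare ((c / Q x) * (Q x / Q y)) := by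
        classical
        rw [← quadraticChar_one_iff_isSquare (mul_ne_zero (div_ne_zero hc hx) (div_ne_zero hx hy)),
          map_mul, quadraticChar_neg_one_iff_not_isSquare.2 h1,
          quadraticChar_neg_one_iff_not_isSquare.2 hns]
        norm_num
      have e : c = s * s * Q y := by rw [← hs]; field_simp
      have hs0 : s ≠ 0 := by rintro rfl; exact hc (by rw [e]; ring)
      rw [e, reflClass_sq hnd P hs0, hC]
  have hcl : ∀ z : Orth Q ⧸ siegelGroup Q, z = 1 ∨ z = C := by
    intro z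
    have hz : z ∈ Subgroup.closure (Set.range (reflClass P)) := by
      rw [closure_reflClass hnd P]; trivial
    induction hz using Subgroup.closure_induction with
    | mem w hw => obtain ⟨c, rfl⟩ := hw; exact hall c
    | one => exact Or.inl rfl
    | mul u v _ _ hu hv =>
      rcases hu with rfl | rfl <;> rcases hv with rfl | rfl <;> simp [C, reflClass_mul_self P]
    | inv u _ hu =>
      rcases hu with rfl | rfl
      · simp
      · exact Or.inr (inv_eq_of_mul_eq_one_left (reflClass_mul_self P _))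
  have hidx := (siegel_index_odd hnd P h2 hx).1
  rw [Subgroup.index] at hidx
  have hsurj : Function.Surjective ![(1 : Orth Q ⧸ siegelGroup Q), C] := fun z =>
    (hcl z).elim (fun e => ⟨0, e.symm⟩) fun e => ⟨1, e.symm⟩
  have := Nat.card_le_card_of_surjective _ hsurj
  rw [hidx] at this
  simp at this

/-- a reflection is outside the Siegel group -/
theorem refl_not_mem {V : Type*} [AddCommGroup V] [Module F V] [FiniteDimensional F V] [Finite V]
    {Q : QuadraticForm F V} (hnd : NDPolar Q) (P : Frame Q) {x : V} (hx : Q x ≠ 0) :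
    refl Q x ∉ siegelGroup Q := by
  intro h
  by_cases h2 : ringChar F = 2
  · have h1 := ((siegel_index_even hnd P h2).2 _).1 h
    have h0 := ((siegel_index_even hnd P h2).2 _).1 (one_mem _)
    rcases fixSpace_refl_mul hnd hx (1 : Orth Q) with e | e <;>
      rw [mul_one] at e <;> omega
  · have h1 := congrArg Units.val (map_eq_one_of_mem hnd P (detHom Q) h)
    rw [detHom_refl hx] at h1
    exact two_ne_zero_of_ringChar h2 (by simp at h1; linear_combination -h1)

variable (hab : IsAniso a b)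
include hab

/-- an element fixing every hyperbolic pair is a torus element -/
theorem rotation_mem (hm : 2 ≤ m) {g : Orth (MQ m a b)} (hg : g ∈ siegelGroup (MQ m a b))
    (hfix : ∀ j, g.1 (dv j) = dv j) (i : Fin m) : g ∈ Mk m a b i.val := by
  obtain ⟨P⟩ := exists_frame (a := a) (b := b) hm
  have hnd := ndPolar (m := m) hab
  have hW : ∀ w, ∃ w', g.1 (wv w) = wv w' := by
    intro w
    refine ⟨(g.1 (wv w)).2, ?_⟩
    conv_lhs => rw [decomp (a := a) (b := b) (g.1 (wv w))]
    rw [add_eq_right]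
    refine Finset.sum_eq_zero fun j _ => ?_
    rw [← hfix (jbar j), orth_polar, polar_wv_dv, zero_smul]
  have hrf : ∀ (x : Fin 2 → F) j, (refl (MQ m a b) (wv x)).1 (dv j) = dv j := fun x j =>
    refl_fix (polar_dv_wv j x)
  have hfull : ∀ h : Orth (MQ m a b), (∀ j, h.1 (dv j) = dv j) →
      h.1 (wv ![1, 0]) = wv ![1, 0] → h.1 (wv ![0, 1]) = wv ![0, 1] → h = 1 := by
    intro h hd h0 h1
    refine orth_ext_basis hd fun w => ?_
    have e : w = w 0 • ![1, 0] + w 1 • ![0, 1] := by funext l; fin_cases l <;> simp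
    rw [e]
    simp only [map_add, map_smul, h0, h1]
    simp
  obtain ⟨a', ha'⟩ := hW ![1, 0]
  -- at most one reflection fixes the first vector
  obtain ⟨r1, hr1, hr1a⟩ : ∃ r1 : Orth (MQ m a b), (r1 = 1 ∨ ∃ x, x ≠ 0 ∧
      r1 = refl (MQ m a b) (wv x)) ∧ (r1 * g).1 (wv ![1, 0]) = wv ![1, 0] := by
    by_cases e : a' = ![1, 0]
    · exact ⟨1, Or.inl rfl, by rw [one_mul, ha', e]⟩
    refine ⟨refl (MQ m a b) (wv (a' - ![1, 0])), Or.inr ⟨_, sub_ne_zero.2 e, rfl⟩, ?_⟩
    have hQ : MQ m a b (wv (![1, 0] : Fin 2 → F)) = MQ m a b (wv a') := by rw [← ha', orth_Q]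
    have h1 : MQ m a b (wv a' - wv (![1, 0] : Fin 2 → F)) ≠ 0 := by
      rw [← map_sub]; exact Q_wv_ne hab (sub_ne_zero.2 e)
    have h2 := refl_sub hQ h1
    rw [← map_sub] at h2
    rw [mul_apply, ha']
    conv_lhs => rw [← h2]
    rw [← mul_apply, refl_mul_self, one_apply]
  have hd1 : ∀ j, (r1 * g).1 (dv j) = dv j := by
    intro j
    rcases hr1 with rfl | ⟨x, -, rfl⟩
    · rw [one_mul, hfix]
    · rw [mul_apply, hfix, hrf]
  obtain ⟨b', hb'⟩ : ∃ b', (r1 * g).1 (wv ![0, 1]) = wv b' := by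
    obtain ⟨w', hw'⟩ := hW ![0, 1]
    rcases hr1 with rfl | ⟨x, -, rfl⟩
    · exact ⟨w', by rw [one_mul, hw']⟩
    · exact ⟨w' + (-(polar (MQ m a b) (wv w') (wv x) / MQ m a b (wv x))) • x, by
        rw [mul_apply, hw', refl_apply, map_add, map_smul]⟩
  obtain ⟨r2, hr2, hr2e⟩ : ∃ r2 : Orth (MQ m a b), (r2 = 1 ∨ ∃ x, x ≠ 0 ∧
      r2 = refl (MQ m a b) (wv x)) ∧ r2 * (r1 * g) = 1 := by
    by_cases e : b' = ![0, 1]
    · exact ⟨1, Or.inl rfl, by rw [one_mul]; exact hfull _ hd1 hr1a (by rw [hb', e])⟩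
    refine ⟨refl (MQ m a b) (wv (b' - ![0, 1])), Or.inr ⟨_, sub_ne_zero.2 e, rfl⟩, hfull _
      (fun j => by rw [mul_apply, hd1, hrf]) ?_ ?_⟩
    · rw [mul_apply, hr1a, refl_fix]
      rw [map_sub, polar_sub_right]
      nth_rewrite 1 [← hr1a]
      rw [← hb', orth_polar, sub_self]
    · have hQ : MQ m a b (wv (![0, 1] : Fin 2 → F)) = MQ m a b (wv b') := by rw [← hb', orth_Q]
      have h1 : MQ m a b (wv b' - wv (![0, 1] : Fin 2 → F)) ≠ 0 := by
        rw [← map_sub]; exact Q_wv_ne hab (sub_ne_zero.2 e)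
      have h2 := refl_sub hQ h1
      rw [← map_sub] at h2
      rw [mul_apply, hb']
      conv_lhs => rw [← h2]
      rw [← mul_apply, refl_mul_self, one_apply]
  have hr2i : r2⁻¹ = r2 := by
    rcases hr2 with rfl | ⟨x, -, rfl⟩
    · exact inv_one
    · exact refl_inv _
  have hr1i : r1⁻¹ = r1 := by
    rcases hr1 with rfl | ⟨x, -, rfl⟩
    · exact inv_one
    · exact refl_inv _
  have hge : g = r1 * r2 := by
    rw [← hr2i, ← eq_inv_of_mul_eq_one_right hr2e, ← mul_assoc]
    nth_rewrite 1 [← hr1i]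
    rw [inv_mul_cancel, one_mul]
  rcases hr1 with rfl | ⟨x, hx, rfl⟩ <;> rcases hr2 with rfl | ⟨y, hy, rfl⟩
  · rw [hge, one_mul]; exact one_mem _
  · rw [one_mul] at hge
    exact absurd (hge ▸ hg) (refl_not_mem hnd P (Q_wv_ne hab hy))
  · rw [mul_one] at hge
    exact absurd (hge ▸ hg) (refl_not_mem hnd P (Q_wv_ne hab hx))
  obtain ⟨s, hs⟩ := refl_mul_mem hnd P (Q_wv_ne hab hx) (Q_wv_ne hab hy) (hge ▸ hg)
  have hs0 : s ≠ 0 := by
    rintro rfl
    exact Q_wv_ne (m := m) hab hx (by rw [hs]; ring)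
  suffices g = hEl a b i x (s • y) by rw [this]; exact hEl_mem le_rfl _ _
  obtain ⟨e1, e2, e3⟩ := hEl_spec (m := m) hab i hx (smul_ne_zero hs0 hy)
  have hq : binForm a b x = binForm a b (s • y) := by
    rw [QuadraticMap.map_smul, smul_eq_mul, ← Q_wv (m := m), ← Q_wv (m := m), hs]
  have hq0 : binForm a b (s • y) ≠ 0 := fun e => smul_ne_zero hs0 hy (binForm_eq_zero hab e)
  have hgs : g = refl (MQ m a b) (wv x) * refl (MQ m a b) (wv (s • y)) := by
    rw [hge, map_smul, refl_smul hs0]
  refine orth_ext_basis (fun j => ?_) fun w => ?_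
  · by_cases hj : j = Sum.inl i
    · subst hj
      rw [hfix]
      show ev i = (hEl a b i x (s • y)).1 (ev i)
      rw [e1, hq, div_self hq0, one_smul]
    by_cases hj' : j = Sum.inr i
    · subst hj'
      rw [hfix]
      show fv i = (hEl a b i x (s • y)).1 (fv i)
      rw [e2, hq, div_self hq0, one_smul]
    rw [e3 _ ?_ ?_, ← hgs]
    · show polar (MQ m a b) (dv j) (dv (Sum.inl i)) = 0
      rw [polar_dv, if_neg]
      rcases j with l | l <;> simp [jbar] at hj' ⊢
      exact fun e => hj' e.symm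
    · show polar (MQ m a b) (dv j) (dv (Sum.inr i)) = 0
      rw [polar_dv, if_neg]
      rcases j with l | l <;> simp [jbar] at hj ⊢
      exact fun e => hj e.symm
  · rw [e3 _ (polar_wv_ev _ _) (polar_wv_fv _ _), ← hgs]

/-- elements fixing the first pairs -/
theorem stab_mem (hm : 2 ≤ m) : ∀ (k : ℕ) (_ : k < m) (g : Orth (MQ m a b)),
    g ∈ siegelGroup (MQ m a b) → (∀ i : Fin m, i.val < k → g.1 (ev i) = ev i ∧ g.1 (fv i) = fv i) →
    g ∈ Mk m a b k := by
  suffices ∀ n k, k + n + 1 = m → ∀ g : Orth (MQ m a b), g ∈ siegelGroup (MQ m a b) →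
      (∀ i : Fin m, i.val < k → g.1 (ev i) = ev i ∧ g.1 (fv i) = fv i) → g ∈ Mk m a b k from
    fun k hk => this (m - k - 1) k (by omega)
  intro n
  induction n with
  | zero =>
    intro k hk g hg hfix
    let i : Fin m := ⟨k, by omega⟩
    have hp : IsHPair (MQ m a b) (g.1 (ev i)) (g.1 (fv i)) :=
      ⟨by rw [orth_Q, Q_ev], by rw [orth_Q, Q_fv], by rw [orth_polar, polar_ev_fv_self]⟩
    obtain ⟨h, hh, h1, h2⟩ := exists_to_pair hab i (apply_mem_Uk hfix (ev_mem (i := i) le_rfl))
      (apply_mem_Uk hfix (fv_mem (i := i) le_rfl)) hp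
    have hrot : h⁻¹ * g ∈ Mk m a b k := rotation_mem hab hm (mul_mem (inv_mem (Mk_le _ hh)) hg)
      (fun j => by
        by_cases hj : jpos j < k
        · rcases j with l | l
          · show (h⁻¹ * g).1 (ev l) = ev l
            rw [mul_apply, (hfix l hj).1, (Mk_fix (inv_mem hh) l hj).1]
          · show (h⁻¹ * g).1 (fv l) = fv l
            rw [mul_apply, (hfix l hj).2, (Mk_fix (inv_mem hh) l hj).2]
        · rcases j with l | l <;> simp only [jpos, Sum.elim_inl, Sum.elim_inr] at hj <;>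
            (have el : l = i := Fin.ext (by simp only [i]; omega)) <;> subst el
          · show (h⁻¹ * g).1 (ev i) = ev i
            rw [mul_apply, ← h1, inv_apply_self]
          · show (h⁻¹ * g).1 (fv i) = fv i
            rw [mul_apply, ← h2, inv_apply_self]) i
    have := mul_mem hh hrot
    rwa [mul_inv_cancel_left] at this
  | succ n ih =>
    intro k hk g hg hfix
    let i : Fin m := ⟨k, by omega⟩
    have hp : IsHPair (MQ m a b) (g.1 (ev i)) (g.1 (fv i)) :=
      ⟨by rw [orth_Q, Q_ev], by rw [orth_Q, Q_fv], by rw [orth_polar, polar_ev_fv_self]⟩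
    obtain ⟨h, hh, h1, h2⟩ := exists_to_pair hab i (apply_mem_Uk hfix (ev_mem (i := i) le_rfl))
      (apply_mem_Uk hfix (fv_mem (i := i) le_rfl)) hp
    have := mul_mem hh (Mk_anti (Nat.le_succ k) (ih (k + 1) (by omega) (h⁻¹ * g)
      (mul_mem (inv_mem (Mk_le _ hh)) hg) fun l hl => by
        by_cases hlk : l.val < k
        · rw [mul_apply, mul_apply, (hfix l hlk).1, (hfix l hlk).2]
          exact Mk_fix (inv_mem hh) l hlk
        · have el : l = i := Fin.ext (by simp only [i]; omega)
          subst el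
          exact ⟨by rw [mul_apply, ← h1, inv_apply_self], by rw [mul_apply, ← h2, inv_apply_self]⟩))
    rwa [mul_inv_cancel_left] at this

end CfsgLib.SpinMinus
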