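import Cfsg.Agent.Lib.SpinMinus.Short

/-!
Vanishing of central discrepancies along totally singular planes, and the canonical root lifts at
the basis vectors.
-/

set_option autoImplicit false
set_option linter.unusedSectionVars false

namespace CfsgLib.SpinMinus

open QuadraticMap CfsgLib.Classical.Quad
open scoped commutatorElement

variable {F : Type*} [Field F] [Fintype F] {a b : F} {m : ℕ}

/-- three pairwise orthogonal basis indices -/
structure Trip (j k l : Fin m ⊕ Fin m) : Prop where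
  jk : jpos j ≠ jpos k
  jl : jpos j ≠ jpos l
  kl : jpos k ≠ jpos l

theorem exists_third (hm : 3 ≤ m) (p q : ℕ) : ∃ l : Fin m ⊕ Fin m, p ≠ jpos l ∧ q ≠ jpos l := by
  obtain ⟨x, h1, h2⟩ : ∃ x : ℕ, x < 3 ∧ x ≠ p ∧ x ≠ q := by
    by_cases h0 : 0 ≠ p ∧ 0 ≠ q
    · exact ⟨0, by omega, h0⟩
    by_cases h1 : 1 ≠ p ∧ 1 ≠ q
    · exact ⟨1, by omega, h1⟩
    exact ⟨2, by omega, by omega⟩
  exact ⟨Sum.inl ⟨x, by omega⟩, h2.1.symm, h2.2.symm⟩

theorem iso_dv {j k : Fin m ⊕ Fin m} (h : k ≠ jbar j) : Iso2 a b (dv j : MV m F) (dv k) :=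
  ⟨by rcases j with i | i <;> rfl, by rcases k with i | i <;> rfl, Q_dv j, Q_dv k,
    by rw [polar_dv, if_neg h]⟩

theorem jbar_of_pos {j k : Fin m ⊕ Fin m} (h : jpos j ≠ jpos k) : k ≠ jbar j := fun e => h (by rw [e, jpos_bar])

theorem polar_bar (j : Fin m ⊕ Fin m) :
    polar (MQ m a b) (dv j) (dv (jbar j)) = (1 : F) := by rw [polar_dv, if_pos rfl]

variable {E : Type*} [Group E] {σ : E →* Orth (MQ m a b)}

namespace CExt

variable (C : CExt σ)
include C

theorem phi_move {u v z : MV m F} (h : Iso2 a b u v) (hz : z.2 = 0) (hzQ : MQ m a b z = 0)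
    (h1 : polar (MQ m a b) u z = 1) (h2 : polar (MQ m a b) v z = 1) (w w' : Fin 2 → F) :
    Gc σ v v w w' = Gc σ u u w w' := by
  obtain ⟨e, he, heu, -⟩ := C.exists_move h.qu h.qc hzQ h.hu h.hc hz h.huc h1 h2
  have hc : e * cm σ (T (MQ m a b) u (wv w)) (T (MQ m a b) u (wv w')) * e⁻¹ = _ :=
    C.conj_Gc he u u w w'
  rw [heu, C.conj_central (C.cm_central (T_mem _ _) (T_mem _ _) (by
    show _ = _
    rw [T_add h.qu (polar_hyp h.hu _) (polar_hyp h.hu _),
      T_add h.qu (polar_hyp h.hu _) (polar_hyp h.hu _), add_comm]))] at hc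
  exact hc.symm

/-- lifts of short root elements at one vector commute -/
theorem phi_one (j : Fin m ⊕ Fin m) (w w' : Fin 2 → F) :
    Gc σ (dv j) (dv j) w w' = 1 := by
  obtain ⟨k, hjk, -⟩ := exists_third C.three (jpos j) (jpos j)
  obtain ⟨l, hjl, hkl⟩ := exists_third C.three (jpos j) (jpos k)
  set x : MV m F := dv j
  set y : MV m F := dv k
  set z : MV m F := dv l
  set px : MV m F := dv (jbar j)
  set py : MV m F := dv (jbar k)
  set pz : MV m F := dv (jbar l)
  have hxy : Iso2 a b x y := iso_dv (jbar_of_pos hjk)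
  have hxz : Iso2 a b x z := iso_dv (jbar_of_pos hjl)
  have hyz : Iso2 a b y z := iso_dv (jbar_of_pos hkl)
  have hxx : Iso2 a b x x := Iso2.refl' hxy.hu hxy.qu
  have hyy : Iso2 a b y y := Iso2.refl' hxy.hc hxy.qc
  have oxy : polar (MQ m a b) x py = 0 :=
    (iso_dv (a := a) (b := b) (jbar_of_pos (by rwa [jpos_bar]))).huc
  have oyx : polar (MQ m a b) y px = 0 :=
    (iso_dv (a := a) (b := b) (jbar_of_pos (by rw [jpos_bar]; exact hjk.symm))).huc
  have oxz : polar (MQ m a b) x pz = 0 :=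
    (iso_dv (a := a) (b := b) (jbar_of_pos (by rwa [jpos_bar]))).huc
  have ozx : polar (MQ m a b) z px = 0 :=
    (iso_dv (a := a) (b := b) (jbar_of_pos (by rw [jpos_bar]; exact hjl.symm))).huc
  have oyz : polar (MQ m a b) y pz = 0 :=
    (iso_dv (a := a) (b := b) (jbar_of_pos (by rwa [jpos_bar]))).huc
  have ozy : polar (MQ m a b) z py = 0 :=
    (iso_dv (a := a) (b := b) (jbar_of_pos (by rw [jpos_bar]; exact hkl.symm))).huc
  have hpx : px.2 = 0 := by rcases h : jbar j with i | i <;> simp [px, h, dv, ev, fv]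
  have hpy : py.2 = 0 := by rcases h : jbar k with i | i <;> simp [py, h, dv, ev, fv]
  have hpz : pz.2 = 0 := by rcases h : jbar l with i | i <;> simp [pz, h, dv, ev, fv]
  have kx : polar (MQ m a b) x px = 1 := polar_bar j
  have ky : polar (MQ m a b) y py = 1 := polar_bar k
  have kz : polar (MQ m a b) z pz = 1 := polar_bar l
  set f : MV m F → E := fun u => Gc σ u u w w'
  set φ := f x
  have hxyiso : Iso2 a b x (x + y) := hxx.add hxy hxy
  have hxziso : Iso2 a b x (x + z) := hxx.add hxz hxz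
  have hyziso : Iso2 a b y (y + z) := hyy.add hyz hyz
  have fy : f y = φ := C.phi_move (z := px + py) hxy (by simp [hpx, hpy])
    (by rw [QuadraticMap.map_add (MQ m a b), (show MQ m a b px = 0 from Q_dv _),
          (show MQ m a b py = 0 from Q_dv _), show polar (MQ m a b) px py = 0 from
          (iso_dv (jbar_of_pos (by rwa [jpos_bar, jpos_bar]))).huc]; simp)
    (by rw [polar_add_right, kx, oxy, add_zero]) (by rw [polar_add_right, oyx, ky, zero_add]) w w'
  have fz : f z = φ := C.phi_move (z := px + pz) hxz (by simp [hpx, hpz])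
    (by rw [QuadraticMap.map_add (MQ m a b), (show MQ m a b px = 0 from Q_dv _),
          (show MQ m a b pz = 0 from Q_dv _), show polar (MQ m a b) px pz = 0 from
          (iso_dv (jbar_of_pos (by rwa [jpos_bar, jpos_bar]))).huc]; simp)
    (by rw [polar_add_right, kx, oxz, add_zero]) (by rw [polar_add_right, ozx, kz, zero_add]) w w'
  have fxy : f (x + y) = φ := C.phi_move (z := px) hxyiso hpx (Q_dv _) kx
    (by rw [polar_add_left, kx, oyx, add_zero]) w w'
  have fxz : f (x + z) = φ := C.phi_move (z := px) hxziso hpx (Q_dv _) kx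
    (by rw [polar_add_left, kx, ozx, add_zero]) w w'
  have fyz : f (y + z) = φ := (C.phi_move (z := py) hyziso hpy (Q_dv _) ky
    (by rw [polar_add_left, ky, ozy, add_zero]) w w').trans fy
  have hs : Iso2 a b (x + y) z := (hxz.symm.add hyz.symm hxy).symm
  have fxyz : f (x + y + z) = φ := by
    refine C.phi_move (z := px) ?_ hpx (Q_dv _) kx ?_ w w'
    · exact (hxxy_aux hxx hxy hxz hyz)
    · rw [polar_add_left, polar_add_left, kx, oyx, ozx, add_zero, add_zero]
  have hφc : φ ∈ Subgroup.center E := C.cm_central (T_mem _ _) (T_mem _ _) (by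
    show _ = _
    rw [T_add hxy.qu (polar_hyp hxy.hu _) (polar_hyp hxy.hu _),
      T_add hxy.qu (polar_hyp hxy.hu _) (polar_hyp hxy.hu _), add_comm])
  have hD : ∀ {u v : MV m F}, Iso2 a b u v → f u = φ → f v = φ → f (u + v) = φ →
      Gc σ u v w w' * Gc σ v u w w' = φ⁻¹ := by
    intro u v huv h1 h2 h3
    have h := C.phi_split huv w w'
    simp only [f] at h1 h2 h3
    rw [h1, h2, h3] at h
    have h' : φ * (φ * (Gc σ u v w w' * Gc σ v u w w')) = φ * 1 := by
      rw [mul_one, ← mul_assoc]; exact h.symm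
    exact eq_inv_of_mul_eq_one_right (mul_left_cancel h')
  have e1 : Gc σ (x + y) z w w' * Gc σ z (x + y) w w' = φ⁻¹ * φ⁻¹ := by
    rw [C.Gc_add_left hxy hxz hyz, C.Gc_add_right hxz.symm hyz.symm hxy]
    have kc : Commute (Gc σ y z w w') (Gc σ z x w w') :=
      C.Gc_commute_Gc hyz hxz.symm hyz.symm (Iso2.refl' hxz.hc hxz.qc) hxy hxz w w' w w'
    calc Gc σ x z w w' * Gc σ y z w w' * (Gc σ z x w w' * Gc σ z y w w')
        = Gc σ x z w w' * (Gc σ y z w w' * Gc σ z x w w') * Gc σ z y w w' := by group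
      _ = Gc σ x z w w' * Gc σ z x w w' * (Gc σ y z w w' * Gc σ z y w w') := by rw [kc.eq]; group
      _ = _ := by rw [hD hxz rfl fz fxz, hD hyz fy fz fyz]
  have h := C.phi_split hs w w'
  simp only [f] at fxyz fxy fz
  rw [fxyz, fxy, fz, e1] at h
  show φ = 1
  rw [h]
  group
where
  hxxy_aux {a b : F} {x y z : MV m F} (hxx : Iso2 a b x x) (hxy : Iso2 a b x y) (hxz : Iso2 a b x z)
      (hyz : Iso2 a b y z) : Iso2 a b x (x + y + z) :=
    (hxx.add hxy hxy).add hxz ((hxz.symm.add hyz.symm hxy).symm)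

/-- biadditive central functions constant along a plane vanish -/
theorem plane_vanish (δ : MV m F → E) {j k : Fin m ⊕ Fin m} (hjk : jpos j ≠ jpos k)
    (hadd : ∀ y z : MV m F, Iso2 a b (dv j) y → Iso2 a b (dv j) z → Iso2 a b y z →
      δ (y + z) = δ y * δ z)
    (hinv : ∀ (e : E) (y : MV m F), Iso2 a b (dv j) y → (∀ w, (σ e).1 (wv w) = wv w) →
      (σ e).1 (dv j) = dv j → δ ((σ e).1 y) = δ y) :
    δ (dv k) = 1 := by
  obtain ⟨l, hjl, hkl⟩ := exists_third C.three (jpos j) (jpos k)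
  set x : MV m F := dv j
  set y : MV m F := dv k
  set z : MV m F := dv l
  set py : MV m F := dv (jbar k)
  set pz : MV m F := dv (jbar l)
  have hxy : Iso2 a b x y := iso_dv (jbar_of_pos hjk)
  have hxz : Iso2 a b x z := iso_dv (jbar_of_pos hjl)
  have hyz : Iso2 a b y z := iso_dv (jbar_of_pos hkl)
  have hyy : Iso2 a b y y := Iso2.refl' hxy.hc hxy.qc
  have oxy : polar (MQ m a b) x py = 0 :=
    (iso_dv (a := a) (b := b) (jbar_of_pos (by rwa [jpos_bar]))).huc
  have oxz : polar (MQ m a b) x pz = 0 :=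
    (iso_dv (a := a) (b := b) (jbar_of_pos (by rwa [jpos_bar]))).huc
  have oyz : polar (MQ m a b) y pz = 0 :=
    (iso_dv (a := a) (b := b) (jbar_of_pos (by rwa [jpos_bar]))).huc
  have ozy : polar (MQ m a b) z py = 0 :=
    (iso_dv (a := a) (b := b) (jbar_of_pos (by rw [jpos_bar]; exact hkl.symm))).huc
  have hpy : py.2 = 0 := by rcases h : jbar k with i | i <;> simp [py, h, dv, ev, fv]
  have hpz : pz.2 = 0 := by rcases h : jbar l with i | i <;> simp [pz, h, dv, ev, fv]
  have ky : polar (MQ m a b) y py = 1 := polar_bar k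
  have kz : polar (MQ m a b) z pz = 1 := polar_bar l
  have dz : δ z = δ y := by
    obtain ⟨e, he, hey, hfix⟩ := C.exists_move (z := py + pz) hyz.qu hyz.qc
      (by rw [QuadraticMap.map_add (MQ m a b), (show MQ m a b py = 0 from Q_dv _),
        (show MQ m a b pz = 0 from Q_dv _), show polar (MQ m a b) py pz = 0 from
        (iso_dv (jbar_of_pos (by rwa [jpos_bar, jpos_bar]))).huc]; simp)
      hxy.hc hxz.hc (by simp [hpy, hpz]) hyz.huc (by rw [polar_add_right, ky, oyz, add_zero])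
      (by rw [polar_add_right, ozy, kz, zero_add])
    rw [← hey]
    exact hinv e y hxy he (hfix x (by rw [polar_add_right, oxy, oxz, add_zero])
      (by rw [polar_sub_right, hxz.huc, hxy.huc, sub_self]))
  have dyz : δ (y + z) = δ y := by
    have h2 : Iso2 a b y (y + z) := hyy.add hyz hyz
    obtain ⟨e, he, hey, hfix⟩ := C.exists_move (z := py) h2.qu h2.qc (Q_dv _)
      h2.hu h2.hc hpy h2.huc ky (by rw [polar_add_left, ky, ozy, add_zero])
    rw [← hey]
    exact hinv e y hxy he (hfix x oxy (by rw [add_sub_cancel_left]; exact hxz.huc))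
  have h := hadd y z hxy hxz hyz
  rw [dyz, dz] at h
  exact left_eq_mul.1 h

end CExt

/-- second vector with polar value one -/
noncomputable def wd (hab : IsAniso a b) : Fin 2 → F :=
  Classical.choose (exists_polar_one (ndPolar_binForm hab) (u := (![1, 0] : Fin 2 → F)) (by simp))

theorem wd_spec (hab : IsAniso a b) : polar (binForm a b) ![1, 0] (wd hab) = 1 :=
  Classical.choose_spec (exists_polar_one (ndPolar_binForm hab) (u := (![1, 0] : Fin 2 → F)) (by simp))

/-- canonical lift of a long root element -/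
noncomputable def Ll (σ : E →* Orth (MQ m a b)) (hab : IsAniso a b) (j k : Fin m ⊕ Fin m) (t : F) :
    E :=
  Gc σ (dv j) (dv k) ![1, 0] (t • wd hab)

/-- canonical lift of a short root element -/
noncomputable def Sl (σ : E →* Orth (MQ m a b)) (hab : IsAniso a b) (u : MV m F) (w : Fin 2 → F) :
    E :=
  ⁅sec σ (Rot m hab), sec σ (T (MQ m a b) u (wv (CExt.dinv hab m w)))⁆

namespace CExt

variable (C : CExt σ)
include C

/-- the rotation commutes with lifts of long root elements -/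
theorem Rot_long {j k : Fin m ⊕ Fin m} (hjk : jpos j ≠ jpos k) (t : F) :
    cm σ (Rot m C.aniso) (T (MQ m a b) (dv j) (t • dv k)) = 1 := by
  refine C.plane_vanish (fun y => cm σ (Rot m C.aniso) (T (MQ m a b) (dv j) (t • y))) hjk ?_ ?_
  · intro y z hy hz _
    show cm σ _ (T (MQ m a b) (dv j) (t • (y + z))) = _
    rw [smul_add, ← T_add hy.qu (by simp [hy.huc]) (by simp [hz.huc])]
    exact C.cm_mul_right C.Rot_mem (T_mem _ _) (T_mem _ _)
      ((Rot_commute C.aniso fun w => long_fix_wv hz t w).symm)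
  · intro e y hy he hej
    have hcen := C.cm_central C.Rot_mem (T_mem (dv j) (t • y))
      ((Rot_commute C.aniso fun w => long_fix_wv hy t w).symm)
    have h := C.cm_conj C.Rot_mem (T_mem (dv j) (t • y)) e
    rw [C.conj_central hcen, T_conj, hej, map_smul,
      show σ e * Rot m C.aniso * (σ e)⁻¹ = Rot m C.aniso by
        rw [(Rot_commute C.aniso he).eq, mul_inv_cancel_right]] at h
    exact h.symm

theorem Rot_Gc {j k : Fin m ⊕ Fin m} (hjk : jpos j ≠ jpos k) (w w' : Fin 2 → F) :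
    Commute (sec σ (Rot m C.aniso)) (Gc σ (dv j) (dv k) w w') :=
  C.commute_of_cm (C.sigma_sec C.Rot_mem) (C.Gc_image (iso_dv (jbar_of_pos hjk)) w w')
    (C.Rot_long hjk _)

/-- the long lift depends only on the polar value -/
theorem Gc_eq_Ll {j k : Fin m ⊕ Fin m} (hjk : jpos j ≠ jpos k) (w w' : Fin 2 → F) :
    Gc σ (dv j) (dv k) w w' = Ll σ C.aniso j k (polar (binForm a b) w w') := by
  set t := polar (binForm a b) w w'
  set δ : MV m F → E := fun y =>
    Gc σ (dv j) y w w' * (Gc σ (dv j) y ![1, 0] (t • wd C.aniso))⁻¹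
  have hB : polar (binForm a b) ![1, 0] (t • wd C.aniso) = t := by
    rw [polar_smul_right, wd_spec, smul_eq_mul, mul_one]
  have hcen : ∀ {y}, Iso2 a b (dv j) y → δ y ∈ Subgroup.center E := fun {y} hy => C.central (by
    rw [MonoidHom.mem_ker, map_mul, map_inv, C.Gc_image hy, C.Gc_image hy, hB, mul_inv_cancel])
  refine mul_inv_eq_one.1 (C.plane_vanish δ hjk ?_ ?_)
  · intro y z hy hz hyz
    simp only [δ]
    rw [C.Gc_add_right hy hz hyz, C.Gc_add_right hy hz hyz, _root_.mul_inv_rev]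
    have h := Subgroup.mem_center_iff.1 (hcen hz) (Gc σ (dv j) y ![1, 0] (t • wd C.aniso))⁻¹
    simp only [δ] at h
    calc Gc σ (dv j) y w w' * Gc σ (dv j) z w w' *
          ((Gc σ (dv j) z ![1, 0] (t • wd C.aniso))⁻¹ * (Gc σ (dv j) y ![1, 0] (t • wd C.aniso))⁻¹)
        = Gc σ (dv j) y w w' * (Gc σ (dv j) z w w' * (Gc σ (dv j) z ![1, 0] (t • wd C.aniso))⁻¹ *
            (Gc σ (dv j) y ![1, 0] (t • wd C.aniso))⁻¹) := by group
      _ = _ := by rw [← h]; group
  · intro e y hy he hej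
    have h := C.conj_central (hcen hy) e
    simp only [δ] at h ⊢
    rw [← h]
    have h1 := C.conj_Gc he (dv j) y w w'
    have h2 := C.conj_Gc he (dv j) y ![1, 0] (t • wd C.aniso)
    rw [hej] at h1 h2
    rw [← h1, ← h2]
    group

theorem Ll_image {j k : Fin m ⊕ Fin m} (hjk : jpos j ≠ jpos k) (t : F) :
    σ (Ll σ C.aniso j k t) = T (MQ m a b) (dv j) (t • dv k) := by
  rw [Ll, C.Gc_image (iso_dv (jbar_of_pos hjk)), polar_smul_right, wd_spec, smul_eq_mul, mul_one]

theorem Ll_add {j k : Fin m ⊕ Fin m} (hjk : jpos j ≠ jpos k) (t t' : F) :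
    Ll σ C.aniso j k (t + t') = Ll σ C.aniso j k t * Ll σ C.aniso j k t' := by
  rw [Ll, add_smul, C.Gc_add_param (iso_dv (jbar_of_pos hjk))]
  rfl

theorem Ll_zero {j k : Fin m ⊕ Fin m} (hjk : jpos j ≠ jpos k) : Ll σ C.aniso j k 0 = 1 := by
  have h := C.Ll_add hjk 0 0
  rw [add_zero] at h
  exact left_eq_mul.1 h

theorem Ll_symm {j k : Fin m ⊕ Fin m} (hjk : jpos j ≠ jpos k) (t : F) :
    Ll σ C.aniso k j t = Ll σ C.aniso j k (-t) := by
  have h := C.Ll_add hjk (-t) t
  rw [neg_add_cancel, C.Ll_zero hjk] at h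
  rw [eq_inv_of_mul_eq_one_left h.symm, Ll, C.Gc_inv, C.Gc_eq_Ll hjk]
  congr 2
  rw [polar_comm, polar_smul_right, wd_spec, smul_eq_mul, mul_one]

theorem sigma_Sl {u : MV m F} (hu : u.2 = 0) (hQ : MQ m a b u = 0) (w : Fin 2 → F) :
    σ (Sl σ C.aniso u w) = T (MQ m a b) u (wv w) := by
  rw [Sl, map_commutatorElement, C.sigma_sec C.Rot_mem, C.sigma_sec (T_mem _ _),
    commutatorElement_def, Rot_conj_T C.aniso hu, T_inv hQ (polar_hyp hu _),
    T_add hQ (polar_hyp hu _) (by simp [polar_hyp hu]), ← sub_eq_add_neg, ← map_sub]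
  show T (MQ m a b) u (wv (rW C.aniso m (dinv C.aniso m w) - dinv C.aniso m w)) = _
  rw [dinv_spec]

theorem Sl_add (j : Fin m ⊕ Fin m) (w w' : Fin 2 → F) :
    Sl σ C.aniso (dv j) (w + w') = Sl σ C.aniso (dv j) w * Sl σ C.aniso (dv j) w' := by
  have hu : (dv j : MV m F).2 = 0 := by rcases j with i | i <;> rfl
  set r := sec σ (Rot m C.aniso)
  set x := sec σ (T (MQ m a b) (dv j) (wv (dinv C.aniso m w)))
  set y := sec σ (T (MQ m a b) (dv j) (wv (dinv C.aniso m w')))
  have hxy : Commute x (Sl σ C.aniso (dv j) w') :=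
    C.commute_of_cm (C.sigma_sec (T_mem _ _)) (C.sigma_Sl hu (Q_dv j) w')
      (C.phi_one j (dinv C.aniso m w) w')
  have h : Sl σ C.aniso (dv j) (w + w') = ⁅r, x * y⁆ := by
    refine C.comm_congr rfl ?_
    rw [map_mul, C.sigma_sec (T_mem _ _), C.sigma_sec (T_mem _ _), C.sigma_sec (T_mem _ _)]
    show T (MQ m a b) (dv j) (wv (dinv C.aniso m (w + w'))) = _
    rw [map_add, map_add, T_add (Q_dv j) (polar_hyp hu _) (polar_hyp hu _)]
  rw [h]
  calc ⁅r, x * y⁆ = ⁅r, x⁆ * (x * ⁅r, y⁆ * x⁻¹) := by simp only [commutatorElement_def]; group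
    _ = ⁅r, x⁆ * (x * Sl σ C.aniso (dv j) w' * x⁻¹) := rfl
    _ = _ := by rw [hxy.eq, mul_inv_cancel_right]; rfl

theorem Sl_smul {u : MV m F} (hu : u.2 = 0) (hQ : MQ m a b u = 0) (c : F) (w : Fin 2 → F) :
    Sl σ C.aniso (c • u) w = Sl σ C.aniso u (c • w) := by
  refine C.comm_congr rfl ?_
  rw [C.sigma_sec (T_mem _ _), C.sigma_sec (T_mem _ _)]
  show T (MQ m a b) (c • u) (wv (dinv C.aniso m w)) = T (MQ m a b) u (wv (dinv C.aniso m (c • w)))
  rw [T_smul_left c hQ (polar_hyp hu _), map_smul, map_smul]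

theorem conj_Sl {e : E} (he : ∀ w, (σ e).1 (wv w) = wv w) (u : MV m F) (w : Fin 2 → F) :
    e * Sl σ C.aniso u w * e⁻¹ = Sl σ C.aniso ((σ e).1 u) w := by
  rw [Sl, conjugate_commutatorElement]
  refine C.comm_congr ?_ ?_
  · rw [map_mul, map_mul, map_inv, C.sigma_sec C.Rot_mem, (Rot_commute C.aniso he).eq,
      mul_inv_cancel_right]
  · rw [map_mul, map_mul, map_inv, C.sigma_sec (T_mem _ _), C.sigma_sec (T_mem _ _), T_conj, he]

theorem Rot_conj_Sl {u : MV m F} (hu : u.2 = 0) (w : Fin 2 → F) :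
    sec σ (Rot m C.aniso) * Sl σ C.aniso u w * (sec σ (Rot m C.aniso))⁻¹ =
      Sl σ C.aniso u (rW C.aniso m w) := by
  rw [Sl, conjugate_commutatorElement]
  refine C.comm_congr ?_ ?_
  · rw [mul_inv_cancel_right]
  · rw [map_mul, map_mul, map_inv, C.sigma_sec (T_mem _ _), C.sigma_sec (T_mem _ _),
      C.sigma_sec C.Rot_mem, Rot_conj_T C.aniso hu]
    show _ = T (MQ m a b) u (wv (dinv C.aniso m (rW C.aniso m w)))
    rw [dinv_rW]

theorem Sl_comm {j k : Fin m ⊕ Fin m} (hjk : jpos j ≠ jpos k) (w w' : Fin 2 → F) :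
    ⁅Sl σ C.aniso (dv j) w, Sl σ C.aniso (dv k) w'⁆ =
      Ll σ C.aniso j k (polar (binForm a b) w w') := by
  have h := iso_dv (a := a) (b := b) (F := F) (jbar_of_pos hjk)
  rw [← C.Gc_eq_Ll hjk, Gc, C.cm_eq (C.sigma_Sl h.hu h.qu w) (C.sigma_Sl h.hc h.qc w')]

end CExt

end CfsgLib.SpinMinus
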